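import Cfsg.Agent.H404.SzPaw.Tori
import Cfsg.Agent.H424.DegTools
import Cfsg.Agent.H53.HC.BigFacts
import Mathlib
import Cfsg.Agent.H730.Hit.Count_m3
import Cfsg.Agent.H113.PSL.Main
import Cfsg.Agent.H113.PSU.Main
import Cfsg.Agent.Lib.Zsigmondy
import Cfsg.Agent.H654.Two.U3Row
import Cfsg.Agent.H654.Two.ReeRow_m3
import Cfsg.Agent.Characters.CentralCharacter
import Cfsg.Agent.H664.R1.U3Four
import Cfsg.Agent.H477.HC.SpSix
import Cfsg.Agent.H722.HC.PrPlus
import Cfsg.Agent.H600.AltIM_m3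
import Cfsg.Agent.H115.HC.Four
import Cfsg.Agent.H53.HC.ExcIM
import Cfsg.Agent.H996.Deg.TwFFour
import Cfsg.Agent.H732.DegSz
import Cfsg.Agent.S1074
import Cfsg.Agent.H664.R1.Cusp
import Cfsg.Agent.H596.Degree
import Cfsg.Agent.S0280
import Cfsg.Agent.H653.Spor.Mathieu
import Cfsg.Agent.H678.DG.PairRep_m3
import Cfsg.Agent.SporadicA.J2Hundred
import Cfsg.Agent.H714.DG.CoTwoX
import Cfsg.Agent.H915.GNDefs_m3
import Cfsg.Agent.S0256
import Mathlib.Combinatorics.SimpleGraph.DegreeSum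
import Mathlib.Data.Set.Card
import Mathlib.Algebra.Group.Nat.Even
import Mathlib.Tactic.IntervalCases
import Mathlib.Data.Fin.VecNotation
import Mathlib.Tactic.FinCases
import Cfsg.Agent.OddOrderCharacters.IndRes
import Cfsg.Agent.CharactersDeep.CosetAverage
import Cfsg.Agent.H671.Link
import Cfsg.Agent.H681.DegBasic
import Cfsg.Agent.H33.IM
import Mathlib.GroupTheory.Commutator.Finite
import Cfsg.Agent.H988.DG.Out
import Cfsg.Agent.H415.Palfy.T1_mg_m3
import Cfsg.Agent.Blocks.Over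
import Cfsg.Agent.S0887
import Cfsg.Agent.H988.DG.NonSolvC_m3
import Cfsg.Agent.H748.PalfyFinal
import Cfsg.Agent.H714.Tri.Out
import Mathlib.GroupTheory.FiniteAbelian.Duality
import Mathlib.RingTheory.RootsOfUnity.EnoughRootsOfUnity
import Cfsg.Agent.S0799
import Cfsg.Agent.S0265
import Cfsg.Agent.H714.Tri.Cen
import Cfsg.Agent.H996.Deg.GThree
import Cfsg.Agent.H115.HC.TwDFour
import Cfsg.Agent.H590.MElevenDeg
import Cfsg.Agent.UGT.End.MEleven
import Cfsg.Agent.S2060
import Cfsg.Agent.H55.OutGen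
import Cfsg.Agent.H545.PQ.RowTool
import Cfsg.Agent.S2476
import Cfsg.Agent.H693.FiveL3
import Cfsg.Agent.H740.FiveSz
import Cfsg.Agent.H395.Jordan
import Cfsg.Agent.Characters.GaloisIrr
import Cfsg.Agent.H595.AvgTwoG
import Cfsg.Agent.H671.FactRows
import Cfsg.Agent.H33.IMRest
import Cfsg.Agent.S0205
import Cfsg.Agent.H678.DG.Basic
import Cfsg.Agent.H653.Spor.J1
import Cfsg.Agent.FastGrp
import Cfsg.Agent.Prune
set_option linter.all false

section
prune_inst 0x7fb4b8f928a80ddedfff7e37fed0dffc1080cfffefdef94bffe861bfafdf230209c5fb850de010fe0e56e09410b87803f97eceffe86bdc7ffffd5ff41ffbee0fe5f6b408519488340fb40ffe03f0778e6f3fffffffffffffffffffffffffffbefffffbfeffff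

-- part: H40/Kite/Base_mg
section
set_option linter.all false
open scoped Cfsg.Agent.FastGrp

-- part: H40/Kite/Base
section
/-!
# Kites in degree graphs: tools (S4919, helper40)

* `Kite.congr` : along an isomorphism;
* `kite_of_four` : four pairwise adjacent vertices;
* `kite_of_card_five` : the primes other than `r` are pairwise adjacent and `|S|` has five prime divisors;
* `kite_of_big`.
-/

set_option autoImplicit false

namespace Cfsg.Agent.H40.KiteG

open Cfsg Cfsg.Agent.H671.H5 Cfsg.Agent.H670.Reg Cfsg.Agent.H53.HC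

universe u v

theorem Kite.congr {S : Type u} [Group S] {S' : Type v} [Group S'] (e : S ≃* S') (h : Kite S') : Kite S := by
  have e1 := H424.DegTools.degreeGraph_congr e
  unfold Kite Adj at h ⊢
  rw [e1]
  exact h

theorem adj_symm {S : Type u} [Group S] {p q : ℕ} (h : Adj p q S) : Adj q p S := SimpleGraph.Adj.symm h

/-- Two primes dividing the degree of one character. -/
theorem adj_of_dvd {S : Type u} [Group S] {r s : ℕ} (hr : r.Prime) (hs : s.Prime) (hrs : r ≠ s) {φ : IrrCharacter S}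
    (h1 : r ∣ charDegree (φ : S → ℂ)) (h2 : s ∣ charDegree (φ : S → ℂ)) : Adj r s S :=
  ⟨hrs, hr, hs, _, ⟨φ, rfl⟩, Nat.Coprime.mul_dvd_of_dvd_of_dvd ((Nat.coprime_primes hr hs).2 hrs) h1 h2⟩

/-- Four pairwise adjacent vertices. -/
theorem kite_of_four {S : Type u} [Group S] {a b c d : ℕ} (hab : Adj a b S) (hac : Adj a c S) (had : Adj a d S)
    (hbc : Adj b c S) (hbd : Adj b d S) (hcd : c ≠ d) : Kite S :=
  Or.inl ⟨a, b, c, d, hcd, hab, hac, hbc, had, hbd⟩

/-- Two triangles with a common edge. -/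
theorem kite_of_edge {S : Type u} [Group S] {a b c d : ℕ} (hab : Adj a b S) (hac : Adj a c S) (hbc : Adj b c S)
    (had : Adj a d S) (hbd : Adj b d S) (hcd : c ≠ d) : Kite S :=
  Or.inl ⟨a, b, c, d, hcd, hab, hac, hbc, had, hbd⟩

/-- A vertex with four neighbours. -/
theorem kite_of_star {S : Type u} [Group S] (u : ℕ) (N : Finset ℕ) (h4 : 4 ≤ N.card) (hN : ∀ x ∈ N, Adj u x S) :
    Kite S := by
  obtain ⟨t, ht, htc⟩ := Finset.exists_subset_card_eq h4
  obtain ⟨a, b, c, d, hab, hac, had, hbc, hbd, hcd, rfl⟩ := Finset.card_eq_four.1 htc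
  refine Or.inr ⟨u, a, b, c, d, hab, hac, had, hbc, hbd, hcd, ?_, ?_, ?_, ?_⟩ <;>
    exact hN _ (ht (by simp))

/-- A clique with four elements. -/
theorem kite_of_clique {S : Type u} [Group S] (N : Finset ℕ) (h4 : 4 ≤ N.card)
    (hN : ∀ x ∈ N, ∀ y ∈ N, x ≠ y → Adj x y S) : Kite S := by
  obtain ⟨t, ht, htc⟩ := Finset.exists_subset_card_eq h4
  obtain ⟨a, b, c, d, hab, hac, had, hbc, hbd, hcd, rfl⟩ := Finset.card_eq_four.1 htc
  have ha : a ∈ N := ht (by simp)
  have hb : b ∈ N := ht (by simp)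
  have hc : c ∈ N := ht (by simp)
  have hd : d ∈ N := ht (by simp)
  exact kite_of_four (hN a ha b hb hab) (hN a ha c hc hac) (hN a ha d hd had) (hN b hb c hc hbc)
    (hN b hb d hd hbd) hcd

/-- The primes other than `r` are pairwise adjacent, `|S|` has five prime divisors. -/
theorem kite_of_np {S : Type u} [Group S] {r : ℕ} (h5 : 5 ≤ (Nat.card S).primeFactors.card)
    (h : ∀ p q : ℕ, p.Prime → q.Prime → p ≠ r → q ≠ r → p ≠ q → p ∣ Nat.card S → q ∣ Nat.card S → Adj p q S) :
    Kite S := by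
  refine kite_of_clique ((Nat.card S).primeFactors.erase r) ?_ ?_
  · have := Finset.pred_card_le_card_erase (s := (Nat.card S).primeFactors) (a := r)
    omega
  · intro x hx y hy hxy
    rw [Finset.mem_erase, Nat.mem_primeFactors] at hx hy
    exact h x y hx.2.1 hy.2.1 hx.1 hy.1 hxy hx.2.2.1 hy.2.2.1

theorem kite_of_big {S : Type u} [Group S] {r : ℕ} (h5 : 5 ≤ (Nat.card S).primeFactors.card) (h : Big r S) :
    Kite S :=
  kite_of_np (r := r) h5 fun _ _ hp hq hpr hqr hpq h1 h2 => h.adj hp hq hpq h1 h2 hpr hqr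

/-- One degree divisible by four primes. -/
theorem kite_of_primes {S : Type u} [Group S] (φ : IrrCharacter S) {a b c d : ℕ} (ha : a.Prime) (hb : b.Prime)
    (hc : c.Prime) (hd : d.Prime) (hab : a ≠ b) (hac : a ≠ c) (had : a ≠ d) (hbc : b ≠ c) (hbd : b ≠ d)
    (hcd : c ≠ d) (h1 : a ∣ charDegree (φ : S → ℂ)) (h2 : b ∣ charDegree (φ : S → ℂ))
    (h3 : c ∣ charDegree (φ : S → ℂ)) (h4 : d ∣ charDegree (φ : S → ℂ)) : Kite S :=
  kite_of_four (adj_of_dvd ha hb hab h1 h2) (adj_of_dvd ha hc hac h1 h3) (adj_of_dvd ha hd had h1 h4)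
    (adj_of_dvd hb hc hbc h2 h3) (adj_of_dvd hb hd hbd h2 h4) hcd

end Cfsg.Agent.H40.KiteG
end

-- part: H40/Kite/Arith
section
/-!
# Arithmetic for the kites in degree graphs (helper40)

* `two_pow_sub`, `two_pow_add` : `2 ^ f - 1` and `2 ^ f + 1` as powers of three;
* `two_pow_cases` : `2 ^ f - 1` and `2 ^ f + 1` both prime powers, `f ≥ 2`: `f = 2` or `f = 3`;
* `eq_pow_of_forall` : a number all of whose prime divisors are `x` is a power of `x`.
-/

set_option autoImplicit false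

namespace Cfsg.Agent.H40.KiteG

theorem eq_pow_of_forall {N x : ℕ} (hN : N ≠ 0) (h : ∀ r : ℕ, r.Prime → r ∣ N → r = x) : ∃ k, N = x ^ k := by
  obtain ⟨k, hk⟩ : ∃ k, k = N.factorization x := ⟨_, rfl⟩
  by_cases h1 : N = 1
  · exact ⟨0, by rw [h1, pow_zero]⟩
  obtain ⟨r, hr, hrN⟩ := Nat.exists_prime_and_dvd h1
  have hx : x.Prime := by rw [← h r hr hrN]; exact hr
  exact ⟨N.primeFactorsList.length, Nat.eq_prime_pow_of_unique_prime_dvd hN fun {d} hd hdN => h d hd hdN⟩

/-- powers of `x` differing by `2`, `x` odd -/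
theorem pow_add_two {x a b : ℕ} (hx : x.Prime) (hx2 : x ≠ 2) (h : x ^ a + 2 = x ^ b) : a = 0 := by
  by_contra ha
  have h1 : x ∣ x ^ a := dvd_pow_self x ha
  have hab : b ≠ 0 := by
    rintro rfl
    rw [pow_zero] at h
    omega
  have h2 : x ∣ x ^ a + 2 := by rw [h]; exact dvd_pow_self x hab
  have h3 : x ∣ 2 := (Nat.dvd_add_right h1).1 h2
  exact hx2 ((Nat.prime_dvd_prime_iff_eq hx Nat.prime_two).1 h3)

/-- powers of `2` differing by `2` -/
theorem two_pow_add_two {a b : ℕ} (h : 2 ^ a + 2 = 2 ^ b) : a = 1 := by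
  rcases Nat.lt_or_ge a 2 with ha | ha
  · interval_cases a
    · exfalso
      rcases Nat.lt_or_ge b 2 with hb | hb
      · interval_cases b <;> omega
      · obtain ⟨c, rfl⟩ := Nat.exists_eq_add_of_le hb
        rw [pow_add] at h
        omega
    · rfl
  · exfalso
    obtain ⟨c, rfl⟩ := Nat.exists_eq_add_of_le ha
    rcases Nat.lt_or_ge b 2 with hb | hb
    · have : 0 < 2 ^ c := by positivity
      rw [pow_add] at h
      interval_cases b <;> omega
    · obtain ⟨d, rfl⟩ := Nat.exists_eq_add_of_le hb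
      rw [pow_add, pow_add] at h
      omega

theorem two_pow_sub {f i : ℕ} (hf : 2 ≤ f) (h : 2 ^ f - 1 = 3 ^ i) : f = 2 := by
  have h4 : 4 ≤ 2 ^ f := by
    calc 4 = 2 ^ 2 := by norm_num
      _ ≤ 2 ^ f := Nat.pow_le_pow_right (by norm_num) hf
  have hi : i ≠ 0 := by
    rintro rfl
    rw [pow_zero] at h
    omega
  -- `f` is even
  obtain ⟨g, rfl | rfl⟩ : ∃ g, f = 2 * g ∨ f = 2 * g + 1 := ⟨f / 2, by omega⟩
  · have h5 : 2 ≤ 2 ^ g := by
      rcases Nat.eq_zero_or_pos g with rfl | hg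
      · omega
      · calc 2 = 2 ^ 1 := by norm_num
          _ ≤ 2 ^ g := Nat.pow_le_pow_right (by norm_num) hg
    have h6 : (2 ^ g - 1) * (2 ^ g + 1) = 3 ^ i := by
      rw [← h]
      obtain ⟨c, hc⟩ := Nat.exists_eq_add_of_le h5
      have e : 2 ^ (2 * g) = 2 ^ g * 2 ^ g := by rw [two_mul, pow_add]
      rw [e, hc]
      have e1 : 2 + c - 1 = c + 1 := by omega
      have e2 : (2 + c) * (2 + c) = (c + 1) * (2 + c + 1) + 1 := by ring
      rw [e1, e2]
      omega
    obtain ⟨a, -, ha⟩ := (Nat.dvd_prime_pow Nat.prime_three).1 ((Dvd.intro _ h6) : 2 ^ g - 1 ∣ 3 ^ i)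
    obtain ⟨b, -, hb⟩ := (Nat.dvd_prime_pow Nat.prime_three).1 ((Dvd.intro_left _ h6) : 2 ^ g + 1 ∣ 3 ^ i)
    have h7 : 3 ^ a + 2 = 3 ^ b := by omega
    have h8 := pow_add_two Nat.prime_three (by norm_num) h7
    rw [h8, pow_zero] at ha
    have h9 : 2 ^ g = 2 ^ 1 := by omega
    have := Nat.pow_right_injective (le_refl 2) h9
    omega
  · exfalso
    have h5 : 3 ∣ 2 ^ (2 * g + 1) - 1 := by rw [h]; exact dvd_pow_self 3 hi
    have h6 : 2 ^ (2 * g + 1) % 3 = 2 := by
      rw [pow_succ, pow_mul, Nat.mul_mod, Nat.pow_mod]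
      norm_num
    omega

theorem two_pow_add {f j : ℕ} (hf : 2 ≤ f) (h : 2 ^ f + 1 = 3 ^ j) : f = 3 := by
  rcases Nat.lt_or_ge f 3 with h3 | h3
  · exfalso
    have : f = 2 := by omega
    subst this
    norm_num at h
    rcases Nat.lt_or_ge j 2 with hj | hj
    · interval_cases j <;> omega
    · obtain ⟨c, rfl⟩ := Nat.exists_eq_add_of_le hj
      rw [pow_add] at h
      omega
  -- `j` is even
  have h8 : 8 ∣ 2 ^ f := by
    calc 8 = 2 ^ 3 := by norm_num
      _ ∣ 2 ^ f := pow_dvd_pow 2 h3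
  obtain ⟨k, rfl | rfl⟩ : ∃ k, j = 2 * k ∨ j = 2 * k + 1 := ⟨j / 2, by omega⟩
  · have h5 : 3 ≤ 3 ^ k := by
      rcases Nat.eq_zero_or_pos k with rfl | hk
      · have : 0 < 2 ^ f := by positivity
        rw [mul_zero, pow_zero] at h
        omega
      · calc 3 = 3 ^ 1 := by norm_num
          _ ≤ 3 ^ k := Nat.pow_le_pow_right (by norm_num) hk
    have h6 : (3 ^ k - 1) * (3 ^ k + 1) = 2 ^ f := by
      have e : 3 ^ (2 * k) = 3 ^ k * 3 ^ k := by rw [two_mul, pow_add]
      rw [e] at h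
      obtain ⟨c, hc⟩ := Nat.exists_eq_add_of_le h5
      rw [hc] at h ⊢
      have e1 : 3 + c - 1 = c + 2 := by omega
      have e2 : (3 + c) * (3 + c) = (c + 2) * (3 + c + 1) + 1 := by ring
      rw [e1]
      omega
    obtain ⟨a, -, ha⟩ := (Nat.dvd_prime_pow Nat.prime_two).1 ((Dvd.intro _ h6) : 3 ^ k - 1 ∣ 2 ^ f)
    obtain ⟨b, -, hb⟩ := (Nat.dvd_prime_pow Nat.prime_two).1 ((Dvd.intro_left _ h6) : 3 ^ k + 1 ∣ 2 ^ f)
    have h7 : 2 ^ a + 2 = 2 ^ b := by omega
    have h9 := two_pow_add_two h7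
    rw [h9] at ha
    have h10 : 3 ^ k = 3 := by omega
    rw [h10] at h6
    have h11 : 2 ^ f = 2 ^ 3 := by omega
    exact Nat.pow_right_injective (le_refl 2) h11
  · exfalso
    have h9 : 3 ^ (2 * k + 1) % 8 = 3 := by
      rw [pow_succ, pow_mul, Nat.mul_mod, Nat.pow_mod]
      norm_num
    omega

/-- `2 ^ f - 1` and `2 ^ f + 1` are prime powers, `f ≥ 2`. -/
theorem two_pow_cases {f x s i j : ℕ} (hf : 2 ≤ f) (hx : x.Prime) (hs : s.Prime) (h1 : 2 ^ f - 1 = x ^ i)
    (h2 : 2 ^ f + 1 = s ^ j) : f = 2 ∨ f = 3 := by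
  have h4 : 4 ≤ 2 ^ f := by
    calc 4 = 2 ^ 2 := by norm_num
      _ ≤ 2 ^ f := Nat.pow_le_pow_right (by norm_num) hf
  have h3 : ¬ 3 ∣ 2 ^ f := fun h => by
    have := (Nat.prime_dvd_prime_iff_eq Nat.prime_three Nat.prime_two).1 (Nat.prime_three.dvd_of_dvd_pow h)
    omega
  rcases (by omega : 3 ∣ 2 ^ f - 1 ∨ 3 ∣ 2 ^ f + 1) with h | h
  · left
    have e : 3 = x := (Nat.prime_dvd_prime_iff_eq Nat.prime_three hx).1
      (Nat.prime_three.dvd_of_dvd_pow (by rwa [h1] at h))
    rw [← e] at h1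
    exact two_pow_sub hf h1
  · right
    have e : 3 = s := (Nat.prime_dvd_prime_iff_eq Nat.prime_three hs).1
      (Nat.prime_three.dvd_of_dvd_pow (by rwa [h2] at h))
    rw [← e] at h2
    exact two_pow_add hf h2

/-- `q - 1` and `q + 1` are powers of the same prime. -/
theorem sq_sub_one_cases {q x a b : ℕ} (hq : 2 ≤ q) (hx : x.Prime) (h1 : q - 1 = x ^ a) (h2 : q + 1 = x ^ b) :
    q = 2 ∨ q = 3 := by
  by_cases hx2 : x = 2
  · subst hx2
    right
    have h3 : 2 ^ a + 2 = 2 ^ b := by omega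
    rw [two_pow_add_two h3] at h1
    omega
  · left
    have h3 : x ^ a + 2 = x ^ b := by omega
    rw [pow_add_two hx hx2 h3, pow_zero] at h1
    omega

end Cfsg.Agent.H40.KiteG
end
end

-- part: H730/Hit/Main_mg
section
prune_inst 0x4b4500d30472210000000800080002034600000001020000048000000090803020000010004801000000202800004002002000030400000000a000000000400001010000400000000800010000000010000000000000000000000000000000000004010000
set_option linter.all false
open scoped Cfsg.Agent.FastGrp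

-- part: H730/Hit/Main
section
/-!
# `Hit A S` from the counting lemma (helper730, task HIT1 of S4919)

* `exists_red_over` : reduction to a central extension of the inertia factor group;
* `can`, `chk` : the numerical elimination;
* `hit_of` : `Hit {a, b} S` when `chk |S| a b c = true`, `c` a bound for the centralizers of the elements of order `a`.
-/

set_option autoImplicit false
set_option linter.unusedSectionVars false

namespace Cfsg.Agent.H730.Hit

open Cfsg
open scoped ComplexConjugate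
open Cfsg.Agent.Characters.Core
open Cfsg.Agent.H595.Count Cfsg.Agent.H595.Central Cfsg.Agent.H595.Triple
open Cfsg.Agent.H525.L2

universe u v

/-- **The reduction.** `θ ∈ Irr(M)` with inertia group `I`: a central extension `Q` of `I / M` and a linear character of the
kernel such that the characters over it give characters of `X` over `θ`. -/
theorem exists_red_over {X : Type u} [Group X] [Finite X] (M : Subgroup X) [hM : M.Normal] [Fintype M] (θ : M → ℂ)
    (hθ : IsIrrCharacter M θ) (I : Subgroup X) (hI : I = H672.inertia M θ) :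
    ∃ (Q : Type u) (_ : Group Q) (_ : Finite Q) (π : Q →* I ⧸ M.subgroupOf I) (l : π.ker →* ℂˣ),
      Function.Surjective π ∧ π.ker ≤ Subgroup.center Q ∧ Function.Injective l ∧
      ∀ β : IrrCharacter Q, Over π l (β : Q → ℂ) → ∃ χ : IrrCharacter X,
        classInner (fun m : M => (χ : X → ℂ) m) θ ≠ 0 ∧
        charDegree (χ : X → ℂ) = I.index * charDegree (β : Q → ℂ) * charDegree θ := by
  classical
  have := Fintype.ofFinite X
  subst hI
  set T := Cfsg.Agent.H672.inertia M θ with hTdef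
  have := Fintype.ofFinite T
  have hT : ∀ g : X, g ∈ T ↔ ∀ n : M, θ ⟨g * n * g⁻¹, hM.conj_mem (n : X) n.2 g⟩ =
      θ n := fun g => Cfsg.Agent.H672.mem_inertia_iff
  have hMT : M ≤ T := Cfsg.Agent.H672.le_inertia (isIrr_isClassFunction hθ)
  let N : Subgroup T := M.subgroupOf T
  let eN : N ≃* M := Subgroup.subgroupOfEquivOfLe hMT
  let θ' : IrrCharacter N := ⟨θ ∘ eN, isIrr_comp eN.toMonoidHom eN.surjective hθ⟩
  have hinv : CInv N (θ' : N → ℂ) := by
    intro x n
    exact (hT x).1 x.2 (eN n)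
  obtain ⟨Q, hg, hfin, π, l, hs, hc, hl, H⟩ := exists_red N θ' hinv
  refine ⟨Q, hg, hfin, π, l, hs, hc, hl, ?_⟩
  intro β hβ
  obtain ⟨ψ, hψ⟩ := H β hβ
  have hψ' : ∀ m : M, (ψ : T → ℂ) ⟨m, hMT m.2⟩ = (charDegree (β : Q → ℂ) : ℂ) * θ m := by
    intro m
    have := hψ ⟨⟨m, hMT m.2⟩, m.2⟩
    rw [(deg_spec β.2).1] at this
    exact this
  obtain ⟨h1, h2, h3⟩ := over_ind M hθ T hT hMT ψ.2 (deg_spec β.2).2.ne' hψ'
  refine ⟨⟨_, h1⟩, h3, ?_⟩
  have h4 := hψ' 1
  have h5 : (⟨((1 : M) : X), hMT (1 : M).2⟩ : T) = 1 := rfl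
  rw [h5, (deg_spec hθ).1] at h4
  rw [h4, (deg_spec h1).1] at h2
  have h6 : charDegree (indFun T (ψ : T → ℂ)) =
      T.index * (charDegree (β : Q → ℂ) * charDegree θ) := by exact_mod_cast h2
  rw [mul_assoc]
  exact h6

/-! ## The numerical elimination -/

/-- `t` is a sum of at most `c` members of `L`. -/
def can : List ℕ → ℕ → ℕ → Bool
  | [], _, t => t == 0
  | d :: L, c, t => (List.range (c + 1)).any fun k => Nat.ble (k * d) t && can L (c - k) (t - k * d)

theorem can_of_sum {ι : Type*} (L : List ℕ) (s : Finset ι) (f : ι → ℕ) (hf : ∀ i ∈ s, f i ∈ L) {c : ℕ}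
    (hc : s.card ≤ c) : can L c (∑ i ∈ s, f i) = true := by
  classical
  induction L generalizing s c with
  | nil =>
    have h1 : s = ∅ := Finset.eq_empty_of_forall_notMem fun i hi => List.not_mem_nil (hf i hi)
    rw [h1, Finset.sum_empty]
    rfl
  | cons d L ih =>
    set k := (s.filter fun i => f i = d).card with hk
    have h1 : ∑ i ∈ s, f i = k * d + ∑ i ∈ s.filter (fun i => ¬ f i = d), f i := by
      rw [← Finset.sum_filter_add_sum_filter_not s (fun i => f i = d) f]
      congr 1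
      rw [Finset.sum_congr rfl fun i hi => (Finset.mem_filter.1 hi).2, Finset.sum_const, smul_eq_mul]
    have h2 : k + (s.filter fun i => ¬ f i = d).card = s.card := Finset.card_filter_add_card_filter_not _
    simp only [can, List.any_eq_true, List.mem_range, Bool.and_eq_true]
    refine ⟨k, by omega, ?_, ?_⟩
    · rw [h1]
      exact Nat.ble_eq_true_of_le (Nat.le_add_right _ _)
    · rw [h1, Nat.add_sub_cancel_left]
      refine ih _ (fun i hi => ?_) (by omega)
      have h3 := Finset.mem_filter.1 hi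
      exact (List.mem_cons.1 (hf i h3.1)).resolve_left h3.2

/-- the squares of the possible ratios -/
def sqs (a b m t : ℕ) : List ℕ :=
  ((List.range m).filter fun e => t % e == 0 && Nat.ble (e * e) t && !(e % a == 0) && !(e % b == 0)).map
    fun e => e * e

/-- the elimination -/
def chk (n a b c m : ℕ) : Bool :=
  Nat.blt n (m * m) && (List.range (n + 1)).all fun t =>
    !(n % t == 0) || (n / t) % a == 0 || (n / t) % b == 0 || !(can (sqs a b m t) c t)

/-- **`Hit` from the counting lemma.** -/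
theorem hit_of {S : Type v} [Group S] [Finite S] {a b c n m : ℕ} (ha : a.Prime) (hn : Nat.card S = n) (han : a ∣ n)
    (hC : ∀ y : S, orderOf y = a → Nat.card (Subgroup.centralizer ({y} : Set S)) ≤ c)
    (hchk : chk n a b c m = true) : H670.Reg.Hit.{u} {a, b} S := by
  classical
  intro X _ _ M _ _ ⟨e⟩ θ
  by_contra hcon
  push Not at hcon
  have hno : ∀ χ : IrrCharacter X, classInner (fun m : M => (χ : X → ℂ) m) (θ : M → ℂ) ≠ 0 →
      ∀ d : ℕ, charDegree (χ : X → ℂ) = d * charDegree (θ : M → ℂ) → ¬ a ∣ d ∧ ¬ b ∣ d := by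
    intro χ h1 d h2
    exact ⟨fun h => hcon χ h1 d a (Or.inl rfl) h h2, fun h => hcon χ h1 d b (Or.inr rfl) h h2⟩
  set I := H672.inertia M (θ : M → ℂ) with hI
  obtain ⟨Q, hg, hfin, π, l, hs, hc, hl, H⟩ := exists_red_over M (θ : M → ℂ) θ.2 I hI
  have hMI : M ≤ I := H672.le_inertia (isIrr_isClassFunction θ.2)
  let N : Subgroup I := M.subgroupOf I
  -- the image in the quotient
  let ι : I ⧸ N →* X ⧸ M := QuotientGroup.map N M I.subtype (fun x hx => hx)
  have hι : Function.Injective ι := by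
    rw [injective_iff_map_eq_one]
    intro y hy
    obtain ⟨t, rfl⟩ := QuotientGroup.mk_surjective y
    have h1 : ((t : X) : X ⧸ M) = 1 := hy
    have h2 : (t : X) ∈ M := (QuotientGroup.eq_one_iff (t : X)).1 h1
    exact (QuotientGroup.eq_one_iff t).2 h2
  set t := Nat.card (I ⧸ N) with ht
  have hti : t * I.index = n := by
    have h1 : t = M.relIndex I := rfl
    rw [h1, Subgroup.relIndex_mul_index hMI, ← hn]
    exact Nat.card_congr e.toEquiv
  have hn0 : n ≠ 0 := by rw [← hn]; exact Nat.card_pos.ne'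
  have ht0 : t ≠ 0 := fun h => hn0 (by rw [← hti, h, zero_mul])
  have hdeg : ∀ β : IrrCharacter Q, Over π l (β : Q → ℂ) → ¬ a ∣ I.index * charDegree (β : Q → ℂ) ∧
      ¬ b ∣ I.index * charDegree (β : Q → ℂ) := by
    intro β hβ
    obtain ⟨χ, h1, h2⟩ := H β hβ
    exact hno χ h1 _ h2
  obtain ⟨β1, hβ1⟩ := exists_over l hs hc
  have hia : ¬ a ∣ I.index := fun h => (hdeg β1 hβ1).1 (h.mul_right _)
  have hib : ¬ b ∣ I.index := fun h => (hdeg β1 hβ1).2 (h.mul_right _)
  have hat : a ∣ t := by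
    have h1 : a ∣ t * I.index := by rw [hti]; exact han
    exact (ha.dvd_mul.1 h1).resolve_right hia
  have := finite_irr (G := Q)
  have := Fintype.ofFinite (IrrCharacter Q)
  have hcard : (Ov l).card ≤ c := by
    refine card_Ov_le l hs hc ha hat (fun y hy => ?_) (fun β hβ h => (hdeg β hβ).1 (h.mul_left _))
    let f : I ⧸ N →* S := e.toMonoidHom.comp ι
    have hf : Function.Injective f := e.injective.comp hι
    refine le_trans ?_ (hC (f y) ((orderOf_injective f hf y).trans hy))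
    refine Nat.card_le_card_of_injective (fun z : Subgroup.centralizer ({y} : Set (I ⧸ N)) =>
      (⟨f z, ?_⟩ : Subgroup.centralizer ({f y} : Set S))) ?_
    · rw [Subgroup.mem_centralizer_singleton_iff, ← map_mul, ← map_mul,
        Subgroup.mem_centralizer_singleton_iff.1 z.2]
    · intro z w hzw
      exact Subtype.ext (hf (congrArg Subtype.val hzw))
  have hsum := sum_sq l hs hc
  unfold chk at hchk
  rw [Bool.and_eq_true] at hchk
  obtain ⟨hnm, hchk⟩ := hchk
  have hnm' : n < m * m := Nat.blt_eq.mp hnm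
  have htn : t ≤ n := Nat.le_of_dvd (Nat.pos_of_ne_zero hn0) ⟨_, hti.symm⟩
  have hmem : ∀ β ∈ Ov l, charDegree (β : Q → ℂ) ^ 2 ∈ sqs a b m t := by
    intro β hβ
    have hβ' := (mem_Ov l).1 hβ
    have hd0 := (deg_spec β.2).2
    have h1 : charDegree (β : Q → ℂ) ∣ t := by
      rw [ht, ← index_eq hs]
      exact (H678.Codeg.charDegree_dvd_index_center β).trans (Subgroup.index_dvd_of_le hc)
    have h2 : charDegree (β : Q → ℂ) ^ 2 ≤ t := by
      have h3 : t = ∑ β ∈ Ov l, charDegree (β : Q → ℂ) ^ 2 := hsum.symm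
      rw [h3]
      exact Finset.single_le_sum (f := fun β : IrrCharacter Q => charDegree (β : Q → ℂ) ^ 2)
        (fun _ _ => Nat.zero_le _) hβ
    unfold sqs
    rw [List.mem_map]
    refine ⟨charDegree (β : Q → ℂ), ?_, (pow_two _).symm⟩
    rw [List.mem_filter, List.mem_range]
    refine ⟨Nat.pow_lt_pow_iff_left (n := 2) (by norm_num) |>.1 (by rw [pow_two m]; omega), ?_⟩
    have h3 : ¬ charDegree (β : Q → ℂ) % a = 0 := fun h =>
      (hdeg β hβ').1 ((Nat.dvd_of_mod_eq_zero h).mul_left _)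
    have h4 : ¬ charDegree (β : Q → ℂ) % b = 0 := fun h =>
      (hdeg β hβ').2 ((Nat.dvd_of_mod_eq_zero h).mul_left _)
    simp only [Bool.and_eq_true, beq_iff_eq, Nat.ble_eq, Bool.not_eq_true', beq_eq_false_iff_ne, ne_eq]
    exact ⟨⟨⟨Nat.mod_eq_zero_of_dvd h1, by rw [← pow_two]; exact h2⟩, h3⟩, h4⟩
  have hcan : can (sqs a b m t) c t = true := by
    have h1 := can_of_sum (sqs a b m t) (Ov l) (fun β => charDegree (β : Q → ℂ) ^ 2) hmem hcard
    rwa [hsum] at h1
  have hnt : n / t = I.index := by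
    rw [← hti]
    exact Nat.mul_div_cancel_left _ (Nat.pos_of_ne_zero ht0)
  have h1 := List.all_eq_true.1 hchk t (List.mem_range.2 (Nat.lt_succ_of_le htn))
  rw [hnt, hcan] at h1
  have h2 : n % t = 0 := Nat.mod_eq_zero_of_dvd ⟨_, hti.symm⟩
  have h3 : ¬ I.index % a = 0 := fun h => hia (Nat.dvd_of_mod_eq_zero h)
  have h4 : ¬ I.index % b = 0 := fun h => hib (Nat.dvd_of_mod_eq_zero h)
  simp [h2, h3, h4] at h1

private noncomputable def _root_.Cfsg.Agent.KOe44a915.oEq.{ku} (α : Sort ku) (a b : Nat) (f t : α) : α := @Decidable.rec (a = b) (fun _ => α) (fun _ => f) (fun _ => t) (Nat.decEq a b)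
private noncomputable def _root_.Cfsg.Agent.KOe44a915.k0.{ku} (α : Sort ku) (a b : Nat) (f t : α) : α := @Bool.rec (fun _ => α) f t (Nat.beq a b)
private theorem _root_.Cfsg.Agent.KOe44a915.e0.{ku} : @_root_.Cfsg.Agent.KOe44a915.oEq.{ku} = @_root_.Cfsg.Agent.KOe44a915.k0.{ku} := funext fun α => funext fun a => funext fun b => funext fun f => funext fun t => by delta _root_.Cfsg.Agent.KOe44a915.oEq _root_.Cfsg.Agent.KOe44a915.k0; cases h : Nat.beq a b <;> cases Nat.decEq a b <;> rename_i g <;> first | rfl | exact absurd g (Nat.ne_of_beq_eq_false h) | exact absurd (Nat.eq_of_beq_eq_true h) g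
private theorem _root_.Cfsg.Agent.KOe44a915.e1.{ku, kv} {α : Type kv} {M : List α → Sort ku} (φ : ∀ l, M l) {z : M List.nil} {s : ∀ a l, M l → M (List.cons a l)} (h0 : φ List.nil = z) (hs : ∀ a l, φ (List.cons a l) = s a l (φ l)) (l : List α) : φ l = @List.rec α M z s l := List.rec h0 (fun a l ih => (hs a l).trans (congrArg (s a l) ih)) l
private noncomputable def _root_.Cfsg.Agent.KOe44a915.k2.{ku0} : ((x0 : Sort (ku0+1)) → ((@List.{ku0} @x0) → ((x0 → @Bool) → @Bool))) := @(fun (x0 : Sort (ku0+1)) (x1 : @List.{ku0} @x0) (x2 : (x0 → @Bool)) => @List.rec.{(ku0+1), ku0} @x0 @(fun (x3 : @List.{ku0} @x0) => ((x0 → @Bool) → @Bool)) @(fun (x3 : (x0 → @Bool)) => @Bool.true) @(fun (x3 : x0) (x4 : @List.{ku0} @x0) (x5 : ((x0 → @Bool) → @Bool)) (x6 : (x0 → @Bool)) => @Bool.rec.{1} @(fun (x7 : @Bool) => @Bool) @Bool.false (@x5 @x6) (@x6 @x3)) @x1 @x2)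
private theorem _root_.Cfsg.Agent.KOe44a915.e2.{ku0} : @List.all.{ku0} = @_root_.Cfsg.Agent.KOe44a915.k2.{ku0} := by delta _root_.Cfsg.Agent.KOe44a915.k2; funext a0 a1 a2; refine (congrFun (_root_.Cfsg.Agent.KOe44a915.e1 (fun a1 a2 => @List.all.{ku0} a0 a1 a2) ?_ (fun c0 c1 => ?_) a1) a2 :) <;> (rfl')
private theorem _root_.Cfsg.Agent.KOe44a915.e3.{ku} {M : Nat → Sort ku} (φ : ∀ n, M n) {z : M Nat.zero} {s : ∀ n, M n → M (Nat.succ n)} (h0 : φ Nat.zero = z) (hs : ∀ n, φ (Nat.succ n) = s n (φ n)) (n : Nat) : φ n = @Nat.rec M z s n := Nat.rec h0 (fun n ih => (hs n).trans (congrArg (s n) ih)) n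
private noncomputable def _root_.Cfsg.Agent.KOe44a915.k4 : (@Nat → ((@List.{0} @Nat) → @List.{0} @Nat)) := @(fun (x0 : @Nat) (x1 : @List.{0} @Nat) => @Nat.rec.{1} @(fun (x2 : @Nat) => ((@List.{0} @Nat) → @List.{0} @Nat)) @(fun (x2 : @List.{0} @Nat) => x2) @(fun (x2 : @Nat) (x3 : ((@List.{0} @Nat) → @List.{0} @Nat)) (x4 : @List.{0} @Nat) => @x3 (@List.cons.{0} @Nat @x2 @x4)) @x0 @x1)
private theorem _root_.Cfsg.Agent.KOe44a915.e4 : @List.range.loop = @_root_.Cfsg.Agent.KOe44a915.k4 := by delta _root_.Cfsg.Agent.KOe44a915.k4; funext a0 a1; refine (congrFun (_root_.Cfsg.Agent.KOe44a915.e3 (fun a0 a1 => @List.range.loop a0 a1) ?_ (fun c0 => ?_) a0) a1 :) <;> (rfl')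
private noncomputable def _root_.Cfsg.Agent.KOe44a915.k5.{ku0} : ((x0 : Sort (ku0+1)) → ((@List.{ku0} @x0) → ((x0 → @Bool) → @Bool))) := @(fun (x0 : Sort (ku0+1)) (x1 : @List.{ku0} @x0) (x2 : (x0 → @Bool)) => @List.rec.{(ku0+1), ku0} @x0 @(fun (x3 : @List.{ku0} @x0) => ((x0 → @Bool) → @Bool)) @(fun (x3 : (x0 → @Bool)) => @Bool.false) @(fun (x3 : x0) (x4 : @List.{ku0} @x0) (x5 : ((x0 → @Bool) → @Bool)) (x6 : (x0 → @Bool)) => @Bool.rec.{1} @(fun (x7 : @Bool) => @Bool) (@x5 @x6) @Bool.true (@x6 @x3)) @x1 @x2)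
private theorem _root_.Cfsg.Agent.KOe44a915.e5.{ku0} : @List.any.{ku0} = @_root_.Cfsg.Agent.KOe44a915.k5.{ku0} := by delta _root_.Cfsg.Agent.KOe44a915.k5; funext a0 a1 a2; refine (congrFun (_root_.Cfsg.Agent.KOe44a915.e1 (fun a1 a2 => @List.any.{ku0} a0 a1 a2) ?_ (fun c0 c1 => ?_) a1) a2 :) <;> (rfl')
private noncomputable def _root_.Cfsg.Agent.KOe44a915.k6 : (by first | exact type_of% @Cfsg.Agent.H730.Hit.can | exact Unit : Sort _) := by first | (refine @Subtype.val _ (fun g => @Cfsg.Agent.H730.Hit.can = @g) (@Subtype.mk _ _ (@(fun (x0 : @List.{0} @Nat) (x1 : @Nat) (x2 : @Nat) => @List.rec.{1, 0} @Nat @(fun (x3 : @List.{0} @Nat) => (@Nat → (@Nat → @Bool))) @(fun (x3 : @Nat) (x4 : @Nat) => @Cfsg.Agent.KOe44a915.k0.{1} @Bool @x4 (nat_lit 0) @Bool.false @Bool.true) @(fun (x3 : @Nat) (x4 : @List.{0} @Nat) (x5 : (@Nat → (@Nat → @Bool))) (x6 : @Nat) (x7 : @Nat) => @Cfsg.Agent.KOe44a915.k5.{0} @Nat (@Cfsg.Agent.KOe44a915.k4 (@Nat.add @x6 (nat_lit 1)) (@List.nil.{0}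 @Nat)) @(fun (x8 : @Nat) => @Bool.rec.{1} @(fun (x9 : @Bool) => @Bool) @Bool.false (@x5 (@Nat.sub @x6 @x8) (@Nat.sub @x7 (@Nat.mul @x8 @x3))) (@Nat.ble (@Nat.mul @x8 @x3) @x7))) @x0 @x1 @x2)) ?_); rewrite [← Cfsg.Agent.KOe44a915.e4, ← Cfsg.Agent.KOe44a915.e5.{0}, ← Cfsg.Agent.KOe44a915.e0.{1}]; funext a0 a1 a2; refine (congrFun (congrFun (_root_.Cfsg.Agent.KOe44a915.e1 (fun a0 a1 a2 => @Cfsg.Agent.H730.Hit.can a0 a1 a2) ?_ (fun c0 c1 => ?_) a0) a1) a2 :) <;> (rfl')) | exact @Cfsg.Agent.H730.Hit.can | exact ()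
private theorem _root_.Cfsg.Agent.KOe44a915.e6 : (by first | exact @Cfsg.Agent.H730.Hit.can = @_root_.Cfsg.Agent.KOe44a915.k6 | exact True : Prop) := by first | (delta _root_.Cfsg.Agent.KOe44a915.k6; exact @Subtype.property _ (fun g => @Cfsg.Agent.H730.Hit.can = @g) _) | rfl | trivial
private noncomputable def _root_.Cfsg.Agent.KOe44a915.k7.{ku0, ku1} : ((x0 : Sort (ku0+1)) → ((x1 : Sort (ku1+1)) → ((x0 → x1) → ((@List.{ku0} @x0) → @List.{ku1} @x1)))) := @(fun (x0 : Sort (ku0+1)) (x1 : Sort (ku1+1)) (x2 : (x0 → x1)) (x3 : @List.{ku0} @x0) => @List.rec.{(ku1+1), ku0} @x0 @(fun (x4 : @List.{ku0} @x0) => @List.{ku1} @x1) (@List.nil.{ku1} @x1) @(fun (x4 : x0) (x5 : @List.{ku0} @x0) (x6 : @List.{ku1} @x1) => @List.cons.{ku1} @x1 (@x2 @x4) @x6) @x3)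
private theorem _root_.Cfsg.Agent.KOe44a915.e7.{ku0, ku1} : @List.map.{ku0, ku1} = @_root_.Cfsg.Agent.KOe44a915.k7.{ku0, ku1} := by delta _root_.Cfsg.Agent.KOe44a915.k7; funext a0 a1 a2 a3; refine (_root_.Cfsg.Agent.KOe44a915.e1 (fun a3 => @List.map.{ku0, ku1} a0 a1 a2 a3) ?_ (fun c0 c1 => ?_) a3 :) <;> (rfl')
private noncomputable def _root_.Cfsg.Agent.KOe44a915.k8.{ku0} : ((x0 : Sort (ku0+1)) → ((x0 → @Bool) → ((@List.{ku0} @x0) → @List.{ku0} @x0))) := @(fun (x0 : Sort (ku0+1)) (x1 : (x0 → @Bool)) (x2 : @List.{ku0} @x0) => @List.rec.{(ku0+1), ku0} @x0 @(fun (x3 : @List.{ku0} @x0) => @List.{ku0} @x0) (@List.nil.{ku0} @x0) @(fun (x3 : x0) (x4 : @List.{ku0} @x0) (x5 : @List.{ku0} @x0) => @Bool.rec.{(ku0+1)} @(fun (x6 : @Bool) => @List.{ku0} @x0) @x5 (@List.cons.{ku0} @x0 @x3 @x5) (@x1 @x3)) @x2)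
private theorem _root_.Cfsg.Agent.KOe44a915.e8.{ku0} : @List.filter.{ku0} = @_root_.Cfsg.Agent.KOe44a915.k8.{ku0} := by delta _root_.Cfsg.Agent.KOe44a915.k8; funext a0 a1 a2; refine (_root_.Cfsg.Agent.KOe44a915.e1 (fun a2 => @List.filter.{ku0} a0 a1 a2) ?_ (fun c0 c1 => ?_) a2 :) <;> (rfl')
private noncomputable def _root_.Cfsg.Agent.KOe44a915.k9 : (by first | exact type_of% @Cfsg.Agent.H730.Hit.sqs | exact Unit : Sort _) := by first | (refine @Subtype.val _ (fun g => @Cfsg.Agent.H730.Hit.sqs = @g) (@Subtype.mk _ _ (@(fun (x0 : @Nat) (x1 : @Nat) (x2 : @Nat) (x3 : @Nat) => @Cfsg.Agent.KOe44a915.k7.{0, 0} @Nat @Nat @(fun (x4 : @Nat) => @Nat.mul @x4 @x4) (@Cfsg.Agent.KOe44a915.k8.{0} @Nat @(fun (x4 : @Nat) => @Bool.rec.{1} @(fun (x5 : @Bool) => @Bool) @Bool.false (@Bool.rec.{1} @(fun (x5 : @Bool) => @Bool) @Bool.true @Bool.false (@Cfsg.Agent.KOe44a915.k0.{1} @Bool (@Nat.mod @x4 @x1) (nat_lit 0) @Bool.false @Bool.true)) (@Bool.rec.{1} @(fun (x5 : @Bool) => @Bool)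 @Bool.false (@Bool.rec.{1} @(fun (x5 : @Bool) => @Bool) @Bool.true @Bool.false (@Cfsg.Agent.KOe44a915.k0.{1} @Bool (@Nat.mod @x4 @x0) (nat_lit 0) @Bool.false @Bool.true)) (@Bool.rec.{1} @(fun (x5 : @Bool) => @Bool) @Bool.false (@Nat.ble (@Nat.mul @x4 @x4) @x3) (@Cfsg.Agent.KOe44a915.k0.{1} @Bool (@Nat.mod @x3 @x4) (nat_lit 0) @Bool.false @Bool.true)))) (@Cfsg.Agent.KOe44a915.k4 @x2 (@List.nil.{0} @Nat))))) ?_); rewrite [← Cfsg.Agent.KOe44a915.e4, ← Cfsg.Agent.KOe44a915.e0.{1}, ← Cfsg.Agent.KOe44a915.e8.{0}, ← Cfsg.Agent.KOe44a915.e7.{0, 0}]; rfl') | exact @Cfsg.Agent.H730.Hit.sqs | exact ()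
private theorem _root_.Cfsg.Agent.KOe44a915.e9 : (by first | exact @Cfsg.Agent.H730.Hit.sqs = @_root_.Cfsg.Agent.KOe44a915.k9 | exact True : Prop) := by first | (delta _root_.Cfsg.Agent.KOe44a915.k9; exact @Subtype.property _ (fun g => @Cfsg.Agent.H730.Hit.sqs = @g) _) | rfl | trivial
private noncomputable def _root_.Cfsg.Agent.KOe44a915.k10 : (by first | exact type_of% @Cfsg.Agent.H730.Hit.chk | exact Unit : Sort _) := by first | (refine @Subtype.val _ (fun g => @Cfsg.Agent.H730.Hit.chk = @g) (@Subtype.mk _ _ (@(fun (x0 : @Nat) (x1 : @Nat) (x2 : @Nat) (x3 : @Nat) (x4 : @Nat) => @Bool.rec.{1} @(fun (x5 : @Bool) => @Bool) @Bool.false (@Cfsg.Agent.KOe44a915.k2.{0} @Nat (@Cfsg.Agent.KOe44a915.k4 (@Nat.add @x0 (nat_lit 1)) (@List.nil.{0} @Nat)) @(fun (x5 : @Nat) => @Bool.rec.{1} @(fun (x6 : @Bool) => @Bool) (@Bool.rec.{1} @(fun (x6 : @Bool) => @Bool) @Bool.true @Bool.false (@Cfsg.Agent.KOe44a915.k6 (@Cfsg.Agent.KOe44a915.k9 @x1 @x2 @x4 @x5) @x3 @x5)) @Bool.true (@Bool.rec.{1}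 @(fun (x6 : @Bool) => @Bool) (@Cfsg.Agent.KOe44a915.k0.{1} @Bool (@Nat.mod (@Nat.div @x0 @x5) @x2) (nat_lit 0) @Bool.false @Bool.true) @Bool.true (@Bool.rec.{1} @(fun (x6 : @Bool) => @Bool) (@Cfsg.Agent.KOe44a915.k0.{1} @Bool (@Nat.mod (@Nat.div @x0 @x5) @x1) (nat_lit 0) @Bool.false @Bool.true) @Bool.true (@Bool.rec.{1} @(fun (x6 : @Bool) => @Bool) @Bool.true @Bool.false (@Cfsg.Agent.KOe44a915.k0.{1} @Bool (@Nat.mod @x0 @x5) (nat_lit 0) @Bool.false @Bool.true)))))) (@Nat.ble (@Nat.succ @x0) (@Nat.mul @x4 @x4)))) ?_); rewrite [← Cfsg.Agent.KOe44a915.e0.{1}, ← Cfsg.Agent.KOe44a915.e9, ← Cfsg.Agent.KOe44a915.e6, ← Cfsg.Agent.KOe44a915.e4, ← Cfsg.Agent.KOe44a915.e2.{0}]; (try delta Cfsg.Agent.H730.Hit.chk); (try generalize @Cfsg.Agent.H730.Hit.can = g0); (try generalize @Cfsg.Agent.H730.Hit.sqs = g1); rfl') | exact @Cfsg.Agent.H730.Hit.chk | exact ()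
private theorem _root_.Cfsg.Agent.KOe44a915.e10 : (by first | exact @Cfsg.Agent.H730.Hit.chk = @_root_.Cfsg.Agent.KOe44a915.k10 | exact True : Prop) := by first | (delta _root_.Cfsg.Agent.KOe44a915.k10; exact @Subtype.property _ (fun g => @Cfsg.Agent.H730.Hit.chk = @g) _) | rfl | trivial

theorem chk_m11 : chk 7920 5 2 5 100 = true := by (first | (rewrite [Cfsg.Agent.KOe44a915.e10]; set_option maxRecDepth 200000 in decide +kernel) | decide +kernel)

theorem chk_l34 : chk 20160 5 3 5 150 = true := by (first | (rewrite [Cfsg.Agent.KOe44a915.e10]; set_option maxRecDepth 200000 in decide +kernel) | decide +kernel)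

end Cfsg.Agent.H730.Hit
end

-- part: H40/Kite/Comb
section
/-!
# Kites from two cliques (helper40)
-/

set_option autoImplicit false

namespace Cfsg.Agent.H40.KiteG

open Cfsg Cfsg.Agent.H671.H5 Cfsg.Agent.H670.Reg

universe u

/-- Two cliques `A`, `B`, a vertex `p` adjacent to all members of `A \ B`. -/
theorem kite_of_two_cliques {S : Type u} [Group S] {p : ℕ} {A B : Finset ℕ}
    (hA : ∀ x ∈ A, ∀ y ∈ A, x ≠ y → Adj x y S) (hB : ∀ x ∈ B, ∀ y ∈ B, x ≠ y → Adj x y S)
    (hC : ∀ x ∈ A, x ∉ B → Adj p x S) (hpA : p ∉ A) (hpB : p ∉ B) (h4 : 4 ≤ (A ∪ B).card)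
    (hne : (A ∩ B).Nonempty)
    (hex : (A ∩ B).card = 1 → (A \ B).card = 1 → (B \ A).card = 2 → ∀ x ∈ A ∩ B, Adj p x S) : Kite S := by
  classical
  by_cases h1 : 4 ≤ A.card
  · exact kite_of_clique A h1 hA
  by_cases h2 : 4 ≤ B.card
  · exact kite_of_clique B h2 hB
  have e1 : (A ∩ B).card + (A \ B).card = A.card := Finset.card_inter_add_card_sdiff A B
  have e2 : (A ∩ B).card + (B \ A).card = B.card := by
    rw [Finset.inter_comm]
    exact Finset.card_inter_add_card_sdiff B A
  have e3 : (A ∪ B).card + (A ∩ B).card = A.card + B.card := Finset.card_union_add_card_inter A B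
  have e4 : 0 < (A ∩ B).card := Finset.card_pos.2 hne
  by_cases h3 : 2 ≤ (A ∩ B).card
  · obtain ⟨x, hx, y, hy, hxy⟩ := Finset.one_lt_card.1 (show 1 < (A ∩ B).card by omega)
    obtain ⟨w, hw⟩ := Finset.card_pos.1 (show 0 < (A \ B).card by omega)
    obtain ⟨z, hz⟩ := Finset.card_pos.1 (show 0 < (B \ A).card by omega)
    rw [Finset.mem_inter] at hx hy
    rw [Finset.mem_sdiff] at hw hz
    refine kite_of_edge (a := x) (b := y) (c := w) (d := z) (hA x hx.1 y hy.1 hxy)
      (hA x hx.1 w hw.1 ?_) (hA y hy.1 w hw.1 ?_) (hB x hx.2 z hz.1 ?_) (hB y hy.2 z hz.1 ?_) ?_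
    · rintro rfl; exact hw.2 hx.2
    · rintro rfl; exact hw.2 hy.2
    · rintro rfl; exact hz.2 hx.1
    · rintro rfl; exact hz.2 hy.1
    · rintro rfl; exact hz.2 hw.1
  have e5 : (A ∩ B).card = 1 := by omega
  obtain ⟨x, hx⟩ := hne
  have hx' := hx
  rw [Finset.mem_inter] at hx
  have hxp : x ≠ p := by rintro rfl; exact hpA hx.1
  -- the neighbours of `x`
  have hstar : ∀ y ∈ (A ∪ B).erase x, Adj x y S := by
    intro y hy
    rw [Finset.mem_erase, Finset.mem_union] at hy
    rcases hy.2 with h | h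
    · exact hA x hx.1 y h (Ne.symm hy.1)
    · exact hB x hx.2 y h (Ne.symm hy.1)
  have hcard : ((A ∪ B).erase x).card = (A ∪ B).card - 1 :=
    Finset.card_erase_of_mem (Finset.mem_union_left _ hx.1)
  by_cases h5 : 5 ≤ (A ∪ B).card
  · exact kite_of_star x _ (by omega) hstar
  by_cases h6 : 2 ≤ (A \ B).card
  · obtain ⟨s, hs, t, ht, hst⟩ := Finset.one_lt_card.1 (show 1 < (A \ B).card by omega)
    rw [Finset.mem_sdiff] at hs ht
    refine kite_of_edge (a := s) (b := t) (c := x) (d := p) (hA s hs.1 t ht.1 hst)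
      (hA s hs.1 x hx.1 ?_) (hA t ht.1 x hx.1 ?_) (adj_symm (hC s hs.1 hs.2)) (adj_symm (hC t ht.1 ht.2)) hxp
    · rintro rfl; exact hs.2 hx.2
    · rintro rfl; exact ht.2 hx.2
  · have h7 := hex e5 (by (clear * - h4 h2 e1 e3 h6; omega)) (by omega) x hx'
    refine kite_of_star x (insert p ((A ∪ B).erase x)) ?_ ?_
    · rw [Finset.card_insert_of_notMem, hcard]
      · omega
      · intro h
        rw [Finset.mem_erase, Finset.mem_union] at h
        exact h.2.elim hpA hpB
    · intro y hy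
      rw [Finset.mem_insert] at hy
      rcases hy with rfl | hy
      · exact adj_symm h7
      · exact hstar y hy

end Cfsg.Agent.H40.KiteG
end

-- part: H40/Kite/PSL
section
/-!
# Kites in the degree graph of `PSL_n(q)`, `n ≥ 3` (helper40)
-/

set_option autoImplicit false

open Cfsg Matrix

namespace Cfsg.Agent.H40.KiteG

open Cfsg.Agent.H671.H5 Cfsg.Agent.H670.Reg Cfsg.Agent.H113.PSL Cfsg.Agent.H113.PSL.Degrees Cfsg.Agent.H113.PSL.Facts

universe u

section psl

variable {F : Type u} [Field F] [Fintype F]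

local notation "𝔮" => Fintype.card F

theorem isA_not_dvd {n r : ℕ} (hr : r.Prime) (h : Facts.IsA F n r) : ¬ r ∣ 𝔮 := by
  obtain ⟨i, hi, -, h1⟩ := h
  intro h2
  have h3 : r ∣ 𝔮 ^ i := h2.trans (dvd_pow_self _ (by omega))
  have h4 : 1 ≤ 𝔮 ^ i := Nat.one_le_pow _ _ Fintype.card_pos
  have h5 := Nat.dvd_sub h3 h1
  have h6 : 𝔮 ^ i - (𝔮 ^ i - 1) = 1 := by omega
  rw [h6] at h5
  exact hr.one_lt.ne' (Nat.dvd_one.1 h5)

theorem isB_not_dvd {n r : ℕ} (hn : 3 ≤ n) (hr : r.Prime) (h : Facts.IsB F n r) : ¬ r ∣ 𝔮 := by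
  rcases h with h1 | ⟨i, hi, hin, h1⟩
  · exact isA_not_dvd (n := n + 1) hr ⟨n, by omega, by omega, h1⟩
  · exact isA_not_dvd (n := n) hr ⟨i, hi, by omega, h1⟩

/-- **`PSL_n(q)`** -/
theorem kite_psl_aux {n : ℕ} (hn : 3 ≤ n) (hC : ∀ m, 1 ≤ m → HasCusp F m) (h24 : 2 < 𝔮 ∨ 4 ≤ n)
    (h5 : 5 ≤ (Nat.card (ProjectiveSpecialLinearGroup (Fin n) F)).primeFactors.card) :
    Kite (ProjectiveSpecialLinearGroup (Fin n) F) := by
  classical
  obtain ⟨φA, hφA⟩ := exA hn (hC n (by omega))
  obtain ⟨φB, hφB⟩ := exB hn (hC (n - 1) (by omega))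
  obtain ⟨φC, hφC⟩ := exC (F := F) (n := n) (by omega)
  have hq := one_lt_q (F := F)
  obtain ⟨p, hch⟩ := CharP.exists F
  obtain ⟨⟨f, hf0⟩, hp, hcard⟩ := FiniteField.card F p
  replace hcard : 𝔮 = p ^ f := hcard
  have hpq : p ∣ 𝔮 := by rw [hcard]; exact dvd_pow_self p hf0.ne'
  have hqp : ∀ r : ℕ, r.Prime → r ∣ 𝔮 → r = p := fun r hr h => eq_of_dvd_q hr hp h hpq
  obtain ⟨N, hN⟩ : ∃ N, N = (Nat.card (ProjectiveSpecialLinearGroup (Fin n) F)).primeFactors := ⟨_, rfl⟩
  rw [← hN] at h5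
  have hmN : ∀ r : ℕ, r.Prime → ∀ φ : IrrCharacter (ProjectiveSpecialLinearGroup (Fin n) F),
      r ∣ charDegree (φ : ProjectiveSpecialLinearGroup (Fin n) F → ℂ) → r ∈ N := by
    intro r hr φ h
    rw [hN, Nat.mem_primeFactors]
    exact ⟨hr, h.trans (H424.DegTools.dvd_card ⟨φ, rfl⟩), Nat.card_pos.ne'⟩
  have hNp : ∀ r ∈ N, r.Prime := fun r hr => by
    rw [hN] at hr
    exact Nat.prime_of_mem_primeFactors hr
  obtain ⟨A, hA⟩ : ∃ A, A = N.filter (fun r => Facts.IsA F n r) := ⟨_, rfl⟩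
  obtain ⟨B, hB⟩ : ∃ B, B = N.filter (fun r => Facts.IsB F n r) := ⟨_, rfl⟩
  have mA : ∀ r : ℕ, r ∈ A ↔ r.Prime ∧ Facts.IsA F n r := by
    intro r
    rw [hA, Finset.mem_filter]
    exact ⟨fun h => ⟨hNp r h.1, h.2⟩, fun h => ⟨hmN r h.1 φA (hφA r h.2), h.2⟩⟩
  have mB : ∀ r : ℕ, r ∈ B ↔ r.Prime ∧ Facts.IsB F n r := by
    intro r
    rw [hB, Finset.mem_filter]
    exact ⟨fun h => ⟨hNp r h.1, h.2⟩, fun h => ⟨hmN r h.1 φB (hφB r h.1 h.2), h.2⟩⟩
  have hAB : 4 ≤ (A ∪ B).card := by
    have h1 : N ⊆ insert p (A ∪ B) := by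
      intro r hr
      have hrp := hNp r hr
      rw [Finset.mem_insert, Finset.mem_union, mA, mB]
      rw [hN, Nat.mem_primeFactors] at hr
      rcases cover hrp hr.2.1 with h | h | h
      · exact Or.inl (hqp r hrp h)
      · exact Or.inr (Or.inl ⟨hrp, h⟩)
      · exact Or.inr (Or.inr ⟨hrp, h⟩)
    have h2 := Finset.card_le_card h1
    have h3 := Finset.card_insert_le p (A ∪ B)
    omega
  refine kite_of_two_cliques (p := p) (A := A) (B := B) ?_ ?_ ?_ ?_ ?_ hAB ?_ ?_
  · intro x hx y hy hxy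
    rw [mA] at hx hy
    exact adj_of_dvd hx.1 hy.1 hxy (hφA x hx.2) (hφA y hy.2)
  · intro x hx y hy hxy
    rw [mB] at hx hy
    exact adj_of_dvd hx.1 hy.1 hxy (hφB x hx.1 hx.2) (hφB y hy.1 hy.2)
  · intro x hx hxB
    rw [mA] at hx
    have h1 : ¬ Facts.IsB F n x := fun h => hxB ((mB x).2 ⟨hx.1, h⟩)
    refine adj_of_dvd hp hx.1 ?_ (hφC p (Or.inl hpq)) (hφC x (isC_of_isA hn hx.1 hx.2 h1))
    rintro rfl
    exact isA_not_dvd hx.1 hx.2 hpq
  · intro h
    exact isA_not_dvd hp ((mA p).1 h).2 hpq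
  · intro h
    exact isB_not_dvd hn hp ((mB p).1 h).2 hpq
  · obtain ⟨c, hc, hcA, hcB⟩ := exists_both (F := F) hn h24
    exact ⟨c, Finset.mem_inter.2 ⟨(mA c).2 ⟨hc, hcA⟩, (mB c).2 ⟨hc, hcB⟩⟩⟩
  · intro c1 a1 b2 x hx
    obtain ⟨x', hx'⟩ := Finset.card_eq_one.1 c1
    have hxx : x = x' := by rw [hx'] at hx; exact Finset.mem_singleton.1 hx
    subst hxx
    rw [Finset.mem_inter, mA, mB] at hx
    have hxp := hx.1.1
    have uni : ∀ r : ℕ, r.Prime → Facts.IsA F n r → Facts.IsB F n r → r = x := by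
      intro r hr h1 h2
      have h3 : r ∈ A ∩ B := Finset.mem_inter.2 ⟨(mA r).2 ⟨hr, h1⟩, (mB r).2 ⟨hr, h2⟩⟩
      rw [hx'] at h3
      exact Finset.mem_singleton.1 h3
    -- two primes in `B \ A`
    obtain ⟨b₁, hb₁, b₂, hb₂, hbb⟩ := Finset.one_lt_card.1 (show 1 < (B \ A).card by omega)
    rw [Finset.mem_sdiff, mB, mA] at hb₁ hb₂
    rcases Nat.eq_or_lt_of_le hn with h3 | h3
    · subst h3
      have hq2 : 2 < 𝔮 := h24.resolve_right (by norm_num)
      obtain ⟨i, hi⟩ := eq_pow_of_forall (N := 𝔮 - 1) (x := x) (by omega) fun r hr h =>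
        uni r hr ⟨1, by norm_num, by norm_num, by rwa [pow_one]⟩ (Or.inr ⟨1, by norm_num, by norm_num, by rwa [pow_one]⟩)
      by_cases hx1 : x ∣ 𝔮 + 1
      · refine adj_of_dvd hp hxp ?_ (hφC p (Or.inl hpq)) (hφC x (Or.inr ?_))
        · rintro rfl
          exact isA_not_dvd hxp hx.1.2 hpq
        · rw [Finset.sum_range_succ, Finset.sum_range_one, pow_zero, pow_one, add_comm]
          exact hx1
      · exfalso
        have hi0 : i ≠ 0 := by
          rintro rfl
          rw [pow_zero] at hi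
          omega
        have hxd : x ∣ 𝔮 - 1 := by rw [hi]; exact dvd_pow_self x hi0
        have hx2 : x ≠ 2 := by
          rintro rfl
          apply hx1
          have : 𝔮 + 1 = (𝔮 - 1) + 2 := by (clear * - hq2; omega)
          rw [this]
          exact (Nat.dvd_add_right hxd).2 dvd_rfl
        have hodd : ¬ 2 ∣ 𝔮 - 1 := by
          rw [hi]
          intro h
          exact hx2 ((Nat.prime_dvd_prime_iff_eq Nat.prime_two hxp).1 (Nat.prime_two.dvd_of_dvd_pow h)).symm
        have h2q : 2 ∣ 𝔮 := by (clear * - hodd; omega)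
        have hp2 : 2 = p := hqp 2 Nat.prime_two h2q
        -- the primes dividing `q + 1`
        obtain ⟨s, hs⟩ := Finset.card_eq_one.1 a1
        have hsA : ∀ r : ℕ, r.Prime → r ∣ 𝔮 + 1 → r = s := by
          intro r hr h
          have h6 : r ∈ A \ B := by
            rw [Finset.mem_sdiff, mA, mB]
            refine ⟨⟨hr, 2, by norm_num, by norm_num, ?_⟩, ?_⟩
            · obtain ⟨k, hk⟩ := Nat.exists_eq_add_of_le hq2.le
              have e : 𝔮 ^ 2 - 1 = (𝔮 + 1) * (𝔮 - 1) := by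
                rw [hk]
                have e1 : 2 + k - 1 = k + 1 := by (clear * -; omega)
                have e2 : (2 + k) ^ 2 = (2 + k + 1) * (k + 1) + 1 := by ring
                rw [e1, e2]
                omega
              rw [e]
              exact h.mul_right _
            · rintro ⟨-, h7 | ⟨j, hj, hj3, h7⟩⟩
              · have h8 : r ∣ 𝔮 ^ 3 + 1 := by
                  obtain ⟨c, hc⟩ := h
                  obtain ⟨k, hk⟩ := Nat.exists_eq_add_of_le hq2.le
                  have e : 𝔮 ^ 3 + 1 = (𝔮 + 1) * (k * k + 3 * k + 3) := by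
                    rw [hk]; ring
                  rw [e]
                  exact (Dvd.intro c hc.symm).mul_right _
                have h9 : 1 ≤ 𝔮 ^ 3 := Nat.one_le_pow _ _ (by omega)
                have h10 := Nat.dvd_sub h8 h7
                have h11 : 𝔮 ^ 3 + 1 - (𝔮 ^ 3 - 1) = 2 := by omega
                rw [h11] at h10
                have h12 := (Nat.prime_dvd_prime_iff_eq hr Nat.prime_two).1 h10
                rw [h12] at h
                omega
              · have hj1 : j = 1 := by omega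
                rw [hj1, pow_one] at h7
                rw [hi] at h7
                have h12 := (Nat.prime_dvd_prime_iff_eq hr hxp).1 (hr.dvd_of_dvd_pow h7)
                rw [h12] at h
                exact hx1 h
          rw [hs] at h6
          exact Finset.mem_singleton.1 h6
        obtain ⟨j, hj⟩ := eq_pow_of_forall (N := 𝔮 + 1) (x := s) (by omega) hsA
        have hsp : s.Prime := by
          have h6 : s ∈ A \ B := by rw [hs]; exact Finset.mem_singleton_self s
          rw [Finset.mem_sdiff, mA] at h6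
          exact h6.1.1
        have hf2 : 2 ≤ f := by
          by_contra hcon
          have : f = 1 := by omega
          rw [this, ← hp2] at hcard
          omega
        rw [← hp2] at hcard
        have hbc : ∀ r : ℕ, r.Prime → Facts.IsB F 3 r → r ∣ 𝔮 ^ 3 - 1 := by
          rintro r hr (h | ⟨j, hj, hj3, h⟩)
          · exact h
          · have hj1 : j = 1 := by omega
            rw [hj1, pow_one] at h
            exact h.trans (sub_one_dvd 3)
        rcases two_pow_cases hf2 hxp hsp (by rw [← hcard]; exact hi) (by rw [← hcard]; exact hj) with h6 | h6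
        · rw [h6] at hcard
          have key : ∀ r : ℕ, r.Prime → Facts.IsB F 3 r → ¬ (r.Prime ∧ Facts.IsA F 3 r) → r = 7 := by
            intro r hr h7 h8
            have h9 := hbc r hr h7
            rw [hcard] at h9
            have h10 : r ∣ 3 ^ 2 * 7 := by simpa using h9
            rcases hr.dvd_mul.1 h10 with h11 | h11
            · exfalso
              have h12 := (Nat.prime_dvd_prime_iff_eq hr Nat.prime_three).1 (hr.dvd_of_dvd_pow h11)
              exact h8 ⟨hr, 1, by norm_num, by norm_num, by rw [hcard, h12]; norm_num⟩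
            · exact (Nat.prime_dvd_prime_iff_eq hr (by norm_num)).1 h11
          exact hbb ((key _ hb₁.1.1 hb₁.1.2 hb₁.2).trans (key _ hb₂.1.1 hb₂.1.2 hb₂.2).symm)
        · rw [h6] at hcard
          have key : ∀ r : ℕ, r.Prime → Facts.IsB F 3 r → ¬ (r.Prime ∧ Facts.IsA F 3 r) → r = 73 := by
            intro r hr h7 h8
            have h9 := hbc r hr h7
            rw [hcard] at h9
            have h10 : r ∣ 7 * 73 := by simpa using h9
            rcases hr.dvd_mul.1 h10 with h11 | h11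
            · exfalso
              have h12 := (Nat.prime_dvd_prime_iff_eq hr (by norm_num)).1 h11
              exact h8 ⟨hr, 1, by norm_num, by norm_num, by rw [hcard, h12]; norm_num⟩
            · exact (Nat.prime_dvd_prime_iff_eq hr (by norm_num)).1 h11
          exact hbb ((key _ hb₁.1.1 hb₁.1.2 hb₁.2).trans (key _ hb₂.1.1 hb₂.1.2 hb₂.2).symm)
    · exfalso
      have hi : ∀ r : ℕ, r.Prime → ∀ i, 1 ≤ i → i + 1 < n → r ∣ 𝔮 ^ i - 1 → r = x := fun r hr i hi hin h =>
        uni r hr ⟨i, hi, by omega, h⟩ (Or.inr ⟨i, hi, hin, h⟩)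
      have hsq : 𝔮 ^ 2 - 1 = (𝔮 + 1) * (𝔮 - 1) := by
        obtain ⟨k, hk⟩ := Nat.exists_eq_add_of_le hq.le
        rw [hk]
        have e1 : 1 + k - 1 = k := by omega
        have e2 : (1 + k) ^ 2 = (1 + k + 1) * k + 1 := by ring
        rw [e1, e2]
        omega
      obtain ⟨a, ha⟩ := eq_pow_of_forall (N := 𝔮 - 1) (x := x) (by omega) fun r hr h =>
        hi r hr 1 le_rfl (by omega) (by rwa [pow_one])
      obtain ⟨b, hb⟩ := eq_pow_of_forall (N := 𝔮 + 1) (x := x) (by omega) fun r hr h =>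
        hi r hr 2 (by norm_num) (by omega) (by rw [hsq]; exact h.mul_right _)
      rcases sq_sub_one_cases (by omega) hxp ha hb with h6 | h6
      · have hx3 : 3 = x := hi 3 Nat.prime_three 2 (by norm_num) (by omega) (by rw [h6]; norm_num)
        rcases Nat.eq_or_lt_of_le (show 4 ≤ n by omega) with h7 | h7
        · subst h7
          have key : ∀ r : ℕ, r.Prime → Facts.IsB F 4 r → ¬ (r.Prime ∧ Facts.IsA F 4 r) → r = 5 := by
            intro r hr h8 h9
            have h10 : r ∣ 3 * 5 := by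
              rcases h8 with h | ⟨i, h1, h2, h⟩
              · rw [h6] at h
                simpa using h
              · obtain rfl | rfl : i = 1 ∨ i = 2 := by omega
                · rw [h6] at h
                  exact absurd (Nat.dvd_one.1 (by simpa using h)) hr.one_lt.ne'
                · rw [h6] at h
                  have h' : r ∣ 3 := by simpa using h
                  exact h'.mul_right _
            rcases hr.dvd_mul.1 h10 with h11 | h11
            · exfalso
              have h12 := (Nat.prime_dvd_prime_iff_eq hr Nat.prime_three).1 h11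
              exact h9 ⟨hr, 2, by norm_num, by norm_num, by rw [h6, h12]; norm_num⟩
            · exact (Nat.prime_dvd_prime_iff_eq hr (by norm_num)).1 h11
          exact hbb ((key _ hb₁.1.1 hb₁.1.2 hb₁.2).trans (key _ hb₂.1.1 hb₂.1.2 hb₂.2).symm)
        · have := hi 7 (by norm_num) 3 (by norm_num) (by omega) (by rw [h6]; norm_num)
          omega
      · have hx2 : 2 = x := hi 2 Nat.prime_two 1 (by norm_num) (by omega) (by rw [h6]; norm_num)
        rcases Nat.eq_or_lt_of_le (show 4 ≤ n by omega) with h7 | h7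
        · subst h7
          have key : ∀ r : ℕ, r.Prime → Facts.IsB F 4 r → ¬ (r.Prime ∧ Facts.IsA F 4 r) → r = 5 := by
            intro r hr h8 h9
            have h10 : r ∣ 2 ^ 4 * 5 := by
              rcases h8 with h | ⟨i, h1, h2, h⟩
              · rw [h6] at h
                simpa using h
              · obtain rfl | rfl : i = 1 ∨ i = 2 := by omega
                · rw [h6] at h
                  have h' : r ∣ 2 := by simpa using h
                  exact (h'.trans (by norm_num)).mul_right _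
                · rw [h6] at h
                  have h' : r ∣ 8 := by simpa using h
                  exact (h'.trans (by norm_num)).mul_right _
            rcases hr.dvd_mul.1 h10 with h11 | h11
            · exfalso
              have h12 := (Nat.prime_dvd_prime_iff_eq hr Nat.prime_two).1 (hr.dvd_of_dvd_pow h11)
              exact h9 ⟨hr, 1, by norm_num, by norm_num, by rw [h6, h12]; norm_num⟩
            · exact (Nat.prime_dvd_prime_iff_eq hr (by norm_num)).1 h11
          exact hbb ((key _ hb₁.1.1 hb₁.1.2 hb₁.2).trans (key _ hb₂.1.1 hb₂.1.2 hb₂.2).symm)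
        · have := hi 13 (by norm_num) 3 (by norm_num) (by omega) (by rw [h6]; norm_num)
          omega

end psl

/-- **`PSL_n(q)`** -/
theorem kite_psl {S : Type u} [Group S] [Finite S] [IsSimpleGroup S] (hL : ¬ IsL2 S) (h : IsPSL S)
    (h5 : 5 ≤ (Nat.card S).primeFactors.card) : Kite S := by
  obtain ⟨F, _, _, n, hn, h4, ⟨e⟩⟩ := H113.PSL.Main.exists_shape h hL
  refine Kite.congr e (kite_psl_aux hn (fun m hm => H113.PSL.Main.hasCusp F m hm) h4 ?_)
  rwa [← Nat.card_congr e.toEquiv]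

end Cfsg.Agent.H40.KiteG
end

-- part: H40/Kite/CusOne
section
/-!
# The characters of `PSU_4(q)` induced from the stabiliser of an isotropic point (helper40)

`exists_levi_one` : `q ≥ 4`: an irreducible character of `PSU_4(q)` of degree `e`, `(q³ + 1)(q² + 1) ∣ p^a e t`,
`t ∣ q + 1`.
-/

set_option autoImplicit false
set_option linter.unusedSectionVars false

open scoped ComplexConjugate
open Cfsg

namespace Cfsg.Agent.H40.KiteG

open Cfsg.Agent.OddOrderCharacters.Clifford Cfsg.Agent.Characters MulAction Module Cfsg.Agent.H53.HC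
open Cfsg.Agent.H139.Cusp Cfsg.Agent.H477.HC Cfsg.Agent.H345.CusU

universe u

theorem exists_cusU_one {K : Type u} [Field K] [Finite K] {q : ℕ} (hq : Nat.card K = q ^ 2) (h4 : 4 ≤ q) :
    ∃ c : GL (Fin 1) K → ℂ, Cus K 1 (CForm.powHom hq) (fun z => z ^ (q + 1) = 1) c := by
  classical
  have hk0 : 0 < 1 := by omega
  have hq2 : 2 ≤ q := CForm.two_le_of_card hq
  obtain ⟨L, _, _, _, hL⟩ := exists_L K 1 hk0
  obtain ⟨θ, hθ⟩ := exists_theta L
  have hcardL : Nat.card Lˣ = Nat.card K ^ 1 - 1 := by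
    rw [Nat.card_units, Module.natCard_eq_pow_finrank (K := K), hL]
  have ha : q + 1 ≠ 0 := by omega
  have hb : (q + 1) * q ≠ 0 := Nat.mul_ne_zero ha (by omega)
  have hR : Regular K 1 (powTheta θ (q + 1) ha) := (regular_powTheta_iff hθ ha hL).2 (by
    intro i hi hik h
    omega)
  refine ⟨psi L (powTheta θ (q + 1) ha), psi_isIrr _ hL hR, psi_isCusp L _, ?_, ?_, ?_⟩
  · intro h
    have h1 : ∀ g : ((Fin 1 → K) →ₗ[K] (Fin 1 → K))ˣ,
        cusp L (powTheta θ (q + 1) ha) (g : (Fin 1 → K) →ₗ[K] (Fin 1 → K)) =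
        cusp L (conjTheta (powTheta θ ((q + 1) * q) hb)) (g : (Fin 1 → K) →ₗ[K] (Fin 1 → K)) := by
      intro g
      let A : GL (Fin 1) K := Matrix.GeneralLinearGroup.toLin.symm g
      have h2 := congrFun h A
      rw [Function.comp_apply, MonoidHom.comp_apply,
        psi_map_pow (powTheta θ (q + 1) ha) (powTheta θ ((q + 1) * q) hb) hL hq
          (fun x => by rw [powTheta_apply, powTheta_apply, map_pow, ← pow_mul, mul_comm q]),
        psi_invT _ hL] at h2
      have h4 : ∀ θ₁ : L →*₀ ℂ, psi L θ₁ A = cusp L θ₁ (g : (Fin 1 → K) →ₗ[K] (Fin 1 → K)) := by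
        intro θ₁
        have h5 : Matrix.GeneralLinearGroup.toLin A = g := MulEquiv.apply_symm_apply _ g
        rw [← h5]
        rfl
      rw [h4, h4, cusp_star] at h2
      exact h2.symm
    obtain ⟨i, hi, h2⟩ := (cusp_eq_iff (V := Fin 1 → K) (powTheta θ (q + 1) ha)
      (conjTheta (powTheta θ ((q + 1) * q) hb))
      (by rw [Module.finrank_fin_fun, hL]) (by rw [hL]; exact hR)).1 h1
    rw [hL] at hi
    have h3 := (conj_powTheta_eq_iff hθ ha hb (pow_ne_zero i (Nat.card_pos (α := K)).ne')).1 h2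
    rw [hcardL, hq] at h3
    obtain rfl : i = 0 := by omega
    obtain ⟨j, rfl⟩ := Nat.exists_eq_add_of_le h4
    rw [pow_one, pow_zero, mul_one] at h3
    have h5 : (4 + j) ^ 2 - 1 = (4 + j + 1) * (3 + j) := by
      have : (4 + j) ^ 2 = (4 + j + 1) * (3 + j) + 1 := by ring
      omega
    have h6 : (4 + j + 1) + (4 + j + 1) * (4 + j) = (4 + j + 1) * (5 + j) := by ring
    rw [h5, h6] at h3
    have h7 := Nat.dvd_of_mul_dvd_mul_left (by omega) h3
    have h8 : 3 + j ∣ 2 := by
      have : 5 + j = (3 + j) + 2 := by omega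
      rw [this] at h7
      exact (Nat.dvd_add_right dvd_rfl).1 h7
    have := Nat.le_of_dvd (by norm_num) h8
    omega
  · intro z hz
    have h1 := psi_scalar (powTheta θ (q + 1) ha) hL z 1
    rw [mul_one] at h1
    rw [h1, powTheta_eq_one ha, one_mul]
    rw [← map_pow, ← Units.val_pow_eq_pow_val, hz, Units.val_one, map_one]
  · rw [psi_one L _ hk0, degP_eq_Ico]

open Cfsg.Agent.H113.PSU.Levi Cfsg.Agent.H113.PSU.Descent

variable {F : Type u} [Field F] [Fintype F] {q : ℕ}

theorem exists_levi_one (hF : Fintype.card F = q ^ 2) (h4 : 4 ≤ q) {p : ℕ} [Fact p.Prime] [CharP F p] :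
    ∃ (φ : IrrCharacter (PSU 4 F q)) (t a : ℕ), t ∣ q + 1 ∧
      (q ^ 3 + 1) * (q ^ 4 - 1) ∣ p ^ a * (charDegree (φ : PSU 4 F q → ℂ) * t * (q ^ 2 - 1)) := by
  classical
  have hq : Nat.card F = q ^ 2 := by rw [Nat.card_eq_fintype_card, hF]
  obtain ⟨c, hc⟩ := exists_cusU_one hq h4
  obtain ⟨a, ha⟩ := dvd_dg hq (p := p) (k := 1) (n' := 2) (by omega)
  obtain ⟨χ, hχ, hχ1, hχz⟩ := gu_char (n' := 2) hq hc
  obtain ⟨η, e, hη, he, he0, hed, hdt⟩ := exists_psu (n := 4) hF (by omega) hχ hχ1 hχz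
  refine ⟨⟨η, hη⟩, _, a, hdt, ?_⟩
  have hde : charDegree η = e := H670.PSing.charDegree_eq_of he
  change _ ∣ p ^ a * (charDegree η * _ * _)
  rw [hde, Nat.mul_div_cancel' hed]
  refine (dvd_of_eq ?_).trans ha
  rw [show 1 + (1 + 2) = 4 from rfl, Finset.prod_Ico_succ_top (by omega), Finset.prod_Ico_succ_top (by omega),
    Finset.Ico_self, Finset.prod_empty, one_mul]
  unfold uu
  rw [if_neg (by decide), if_pos (by decide)]

end Cfsg.Agent.H40.KiteG
end

-- part: H40/Kite/PSU
section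
/-!
# Kites in the degree graph of `PSU_n(q)`, `n ≥ 4` (helper40)
-/

set_option autoImplicit false
set_option linter.unusedSectionVars false

open Cfsg

namespace Cfsg.Agent.H40.KiteG

open Cfsg.Agent.H671.H5 Cfsg.Agent.H670.Reg Cfsg.Agent.H113.PSU.Levi Cfsg.Agent.H113.PSU.Facts

universe u

/-- a primitive prime divisor of `q ^ (2k) - 1` -/
theorem zs {q k : ℕ} (hq : 2 ≤ q) (hk : 2 ≤ k) (h : ¬ (q = 2 ∧ k = 3)) :
    ∃ r : ℕ, r.Prime ∧ r ∣ q ^ k + 1 ∧ ∀ m, r ∣ q ^ m - 1 ↔ 2 * k ∣ m := by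
  obtain ⟨r, hr, h1, -, -⟩ := Lib.Zsigmondy.exists_primitive (a := q) (n := 2 * k) hq (by omega) (by omega) (by
    rintro ⟨h2, h3⟩
    exact h ⟨h2, by omega⟩)
  refine ⟨r, hr, ?_, h1⟩
  have h2 : r ∣ q ^ (2 * k) - 1 := (h1 _).2 dvd_rfl
  have h3 : ¬ r ∣ q ^ k - 1 := fun h => by
    have := Nat.le_of_dvd (by omega) ((h1 _).1 h)
    omega
  have h4 : q ^ (2 * k) - 1 = (q ^ k - 1) * (q ^ k + 1) := by
    obtain ⟨c, hc⟩ := Nat.exists_eq_add_of_le (Nat.one_le_pow k q (by omega))
    have e : q ^ (2 * k) = q ^ k * q ^ k := by rw [two_mul, pow_add]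
    rw [e, hc, Nat.add_sub_cancel_left]
    have : (1 + c) * (1 + c) = c * (1 + c + 1) + 1 := by ring
    omega
  rw [h4, hr.dvd_mul] at h2
  exact h2.resolve_left h3

theorem sq_sub_one' {q : ℕ} (hq : 1 ≤ q) : q ^ 2 - 1 = (q - 1) * (q + 1) := by
  obtain ⟨c, rfl⟩ := Nat.exists_eq_add_of_le hq
  have e1 : 1 + c - 1 = c := by omega
  have e2 : (1 + c) ^ 2 = c * (1 + c + 1) + 1 := by ring
  rw [e1, e2]
  omega

variable {F : Type u} [Field F] [Fintype F] {q n : ℕ}

/-- **`PSU_n(q)`, `n ≥ 4`** -/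
theorem kite_psu_aux (hF : Fintype.card F = q ^ 2) (hn : 4 ≤ n)
    (h5 : 5 ≤ (Nat.card (PSU n F q)).primeFactors.card) : Kite (PSU n F q) := by
  classical
  have hq2 := LieClassical.HermBasic.two_le hF
  obtain ⟨p, hpr, hpch, hpq⟩ := prime_pow hF
  have hpf : Fact p.Prime := ⟨hpr⟩
  have hpdq : p ∣ q := (hpq p hpr).2 rfl
  obtain ⟨φA, hφA, -⟩ := exA (F := F) hF hn
  -- primes of `q ^ 2 - 1`
  have k2 : ∀ r : ℕ, r.Prime → r ∣ q ^ 2 - 1 → r ∣ charDegree (φA : PSU n F q → ℂ) := fun r hr h =>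
    hφA r hr ⟨2, two_mem_idx hn, by unfold uu; rwa [if_pos (by decide)]⟩
  have hp1 : ∀ m, 1 ≤ m → ¬ p ∣ q ^ m - 1 := by
    intro m hm h
    have h2 : p ∣ q ^ m := hpdq.trans (dvd_pow_self _ (by omega))
    have h3 : 1 ≤ q ^ m := Nat.one_le_pow _ _ (by omega)
    have h4 := Nat.dvd_sub h2 h
    rw [show q ^ m - (q ^ m - 1) = 1 by omega] at h4
    exact hpr.one_lt.ne' (Nat.dvd_one.1 h4)
  have hsq := sq_sub_one' (q := q) (by omega)
  obtain ⟨r2, pr2, hr2⟩ := Nat.exists_prime_and_dvd (show q + 1 ≠ 1 by omega)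
  have hr2' : r2 ∣ q ^ 2 - 1 := by rw [hsq]; exact hr2.mul_left _
  obtain ⟨r4, pr4, hr4, o4⟩ := zs (q := q) (k := 2) hq2 le_rfl (by omega)
  obtain ⟨r10, pr10, hr10, o10⟩ := zs (q := q) (k := 5) hq2 (by norm_num) (by omega)
  have hr4' : r4 ∣ q ^ 4 - 1 := (o4 4).2 dvd_rfl
  have hr10' : r10 ∣ q ^ 10 - 1 := (o10 10).2 dvd_rfl
  have n24 : r2 ≠ r4 := by
    rintro rfl
    exact absurd ((o4 2).1 hr2') (by decide)
  have n210 : r2 ≠ r10 := by
    rintro rfl
    exact absurd ((o10 2).1 hr2') (by decide)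
  have n410 : r4 ≠ r10 := by
    rintro rfl
    exact absurd ((o10 4).1 hr4') (by decide)
  rcases Nat.lt_or_ge n 7 with h7 | h7
  swap
  · -- `n ≥ 7`
    obtain ⟨r14, pr14, hr14, o14⟩ := zs (q := q) (k := 7) hq2 (by norm_num) (by omega)
    have hex : ∀ i, i = 4 ∨ i = 5 ∨ i = 7 → i ∈ idx n := by
      intro i hi
      refine mem_idx hn (by omega) (by omega) ?_ (by omega)
      unfold exn
      split_ifs with he
      · have : n % 2 = 0 := Nat.even_iff.1 he
        omega
      · have : n % 2 = 1 := Nat.odd_iff.1 (Nat.not_even_iff_odd.1 he)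
        omega
    refine kite_of_primes φA pr2 pr4 pr10 pr14 n24 n210 ?_ n410 ?_ ?_ (k2 _ pr2 hr2')
      (hφA _ pr4 ⟨4, hex 4 (by omega), by unfold uu; rwa [if_pos (by decide)]⟩)
      (hφA _ pr10 ⟨5, hex 5 (by omega), by unfold uu; rwa [if_neg (by decide)]⟩)
      (hφA _ pr14 ⟨7, hex 7 (by omega), by unfold uu; rwa [if_neg (by decide)]⟩)
    · rintro rfl
      exact absurd ((o14 2).1 hr2') (by decide)
    · rintro rfl
      exact absurd ((o14 4).1 hr4') (by decide)
    · rintro rfl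
      exact absurd ((o14 10).1 hr10') (by decide)
  -- `q = 2`: the primes
  have hsmall : ∀ T : Finset ℕ, T.card ≤ 4 → ¬ (∀ r : ℕ, r.Prime → r ∣ Nat.card (PSU n F q) → r ∈ T) := by
    intro T hT h
    have h1 : (Nat.card (PSU n F q)).primeFactors ⊆ T := by
      intro r hr
      rw [Nat.mem_primeFactors] at hr
      exact h r hr.1 hr.2.1
    have := Finset.card_le_card h1
    omega
  by_cases hq3 : q = 2
  · subst hq3
    have hp2 : p = 2 := (Nat.prime_dvd_prime_iff_eq hpr Nat.prime_two).1 hpdq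
    obtain rfl | rfl | rfl : n = 4 ∨ n = 5 ∨ n = 6 := by omega
    · exfalso
      refine hsmall {2, 3, 5} (by decide) fun r hr h => ?_
      have key : r ∣ 2 * (3 * 5) := by
        rcases cover hF hn hr h with h1 | ⟨i, hi, h1⟩ | ⟨-, h1⟩
        · exact h1.mul_right _
        · have hi' := idx_le hn hi
          have hi4 : i ≠ 4 := by
            rintro rfl
            exact absurd hi (by decide)
          obtain rfl | rfl | rfl : i = 1 ∨ i = 2 ∨ i = 3 := by omega
          · exact (show r ∣ 3 from h1).trans (by norm_num)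
          · exact (show r ∣ 3 from h1).trans (by norm_num)
          · exact (hr.dvd_of_dvd_pow (show r ∣ 3 ^ 2 from h1)).trans (by norm_num)
        · exact (show r ∣ 15 from h1).trans (by norm_num)
      rcases hr.dvd_mul.1 key with h1 | h1
      · rw [(Nat.prime_dvd_prime_iff_eq hr Nat.prime_two).1 h1]; decide
      · rcases hr.dvd_mul.1 h1 with h1 | h1
        · rw [(Nat.prime_dvd_prime_iff_eq hr Nat.prime_three).1 h1]; decide
        · rw [(Nat.prime_dvd_prime_iff_eq hr Nat.prime_five).1 h1]; decide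
    · exfalso
      refine hsmall {2, 3, 5, 11} (by decide) fun r hr h => ?_
      have key : r ∣ 2 * (3 * (5 * 11)) := by
        rcases cover hF hn hr h with h1 | ⟨i, hi, h1⟩ | ⟨-, h1⟩
        · exact h1.mul_right _
        · have hi' := idx_le hn hi
          obtain rfl | rfl | rfl : i = 2 ∨ i = 3 ∨ i = 5 := by
            have h4 : i ≠ 4 := by rintro rfl; exact absurd hi (by decide)
            have h4 : i ≠ 1 := by rintro rfl; exact absurd hi (by decide)
            omega
          · exact (show r ∣ 3 from h1).trans (by norm_num)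
          · exact (hr.dvd_of_dvd_pow (show r ∣ 3 ^ 2 from h1)).trans (by norm_num)
          · exact (show r ∣ 33 from h1).trans (by norm_num)
        · exact (show r ∣ 15 from h1).trans (by norm_num)
      rcases hr.dvd_mul.1 key with h1 | h1
      · rw [(Nat.prime_dvd_prime_iff_eq hr Nat.prime_two).1 h1]; decide
      · rcases hr.dvd_mul.1 h1 with h1 | h1
        · rw [(Nat.prime_dvd_prime_iff_eq hr Nat.prime_three).1 h1]; decide
        · rcases hr.dvd_mul.1 h1 with h1 | h1
          · rw [(Nat.prime_dvd_prime_iff_eq hr Nat.prime_five).1 h1]; decide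
          · rw [(Nat.prime_dvd_prime_iff_eq hr (by norm_num)).1 h1]; decide
    · obtain ⟨φF, hφF⟩ := exF (F := F) hF hn
      obtain ⟨φG, hφG⟩ := exG (F := F) hF hn
      have dF : charDegree (φF : PSU 6 F 2 → ℂ) = 252 := by
        have e : (2 ^ 2 - 1) * (2 + 1) * charDegree (φF : PSU 6 F 2 → ℂ) = 2 ^ 2 * 63 * 9 := hφF
        omega
      have dG : charDegree (φG : PSU 6 F 2 → ℂ) = 440 := by
        have e : (2 ^ 2 - 1) * (2 + 1) * charDegree (φG : PSU 6 F 2 → ℂ) = 2 ^ 3 * 33 * 15 := hφG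
        omega
      refine kite_of_star 2 {3, 7, 5, 11} (by decide) ?_
      intro x hx
      simp only [Finset.mem_insert, Finset.mem_singleton] at hx
      rcases hx with rfl | rfl | rfl | rfl
      · exact adj_of_dvd (φ := φF) Nat.prime_two (by norm_num) (by norm_num) (by rw [dF]; norm_num) (by rw [dF]; norm_num)
      · exact adj_of_dvd (φ := φF) Nat.prime_two (by norm_num) (by norm_num) (by rw [dF]; norm_num) (by rw [dF]; norm_num)
      · exact adj_of_dvd (φ := φG) Nat.prime_two (by norm_num) (by norm_num) (by rw [dG]; norm_num) (by rw [dG]; norm_num)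
      · exact adj_of_dvd (φ := φG) Nat.prime_two (by norm_num) (by norm_num) (by rw [dG]; norm_num) (by rw [dG]; norm_num)
  -- `q ≥ 3`
  obtain ⟨r6, pr6, hr6, o6⟩ := zs (q := q) (k := 3) hq2 (by norm_num) (by omega)
  have hr6' : r6 ∣ q ^ 6 - 1 := (o6 6).2 dvd_rfl
  have n26 : r2 ≠ r6 := by
    rintro rfl
    exact absurd ((o6 2).1 hr2') (by decide)
  have n46 : r4 ≠ r6 := by
    rintro rfl
    exact absurd ((o6 4).1 hr4') (by decide)
  have n106 : r10 ≠ r6 := by
    rintro rfl
    exact absurd ((o6 10).1 hr10') (by decide)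
  obtain rfl | rfl | rfl : n = 6 ∨ n = 5 ∨ n = 4 := by omega
  · -- `n = 6`
    exact kite_of_primes φA pr2 pr4 pr10 pr6 n24 n210 n26 n410 n46 n106 (k2 _ pr2 hr2')
      (hφA _ pr4 ⟨4, by decide, by unfold uu; rwa [if_pos (by decide)]⟩)
      (hφA _ pr10 ⟨5, by decide, by unfold uu; rwa [if_neg (by decide)]⟩)
      (hφA _ pr6 ⟨3, by decide, by unfold uu; rwa [if_neg (by decide)]⟩)
  · -- `n = 5`
    rcases Nat.even_or_odd q with hev | hodd
    · have hq4 : 4 ≤ q := by
        obtain ⟨c, hc⟩ := hev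
        (clear * - hq2 hq3 hc; omega)
      obtain ⟨r1, pr1, hr1⟩ := Nat.exists_prime_and_dvd (show q - 1 ≠ 1 by omega)
      have hr1' : r1 ∣ q ^ 2 - 1 := by rw [hsq]; exact hr1.mul_right _
      have n12 : r1 ≠ r2 := by
        rintro rfl
        have h1 := Nat.dvd_sub hr2 hr1
        rw [show q + 1 - (q - 1) = 2 by omega] at h1
        have h2 := (Nat.prime_dvd_prime_iff_eq pr1 Nat.prime_two).1 h1
        subst h2
        obtain ⟨c, hc⟩ := hev
        omega
      refine kite_of_primes φA pr1 pr2 pr10 pr6 n12 ?_ ?_ n210 n26 n106 (k2 _ pr1 hr1') (k2 _ pr2 hr2')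
        (hφA _ pr10 ⟨5, by decide, by unfold uu; rwa [if_neg (by decide)]⟩)
        (hφA _ pr6 ⟨3, by decide, by unfold uu; rwa [if_neg (by decide)]⟩)
      · rintro rfl
        exact absurd ((o10 2).1 hr1') (by decide)
      · rintro rfl
        exact absurd ((o6 2).1 hr1') (by decide)
    · -- `q` odd: the second rank three character
      obtain ⟨φG, hφG⟩ := exG (F := F) hF hn
      have hD : charDegree (φG : PSU 5 F q → ℂ) = q ^ 3 * (q ^ 2 + 1) * (q ^ 2 - q + 1) := by
        have e : (q ^ 2 - 1) * (q + 1) * charDegree (φG : PSU 5 F q → ℂ) = q ^ 3 * (q ^ 4 - 1) * (q ^ 3 + 1) := hφG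
        have hpos : 0 < (q ^ 2 - 1) * (q + 1) := by
          have : 4 ≤ q ^ 2 := by nlinarith only [hq2]
          apply Nat.mul_pos <;> (clear * - this hq2; omega)
        apply Nat.eq_of_mul_eq_mul_left hpos
        rw [e]
        have hle : q ≤ q ^ 2 := by nlinarith only []
        have h1 : 1 ≤ q ^ 4 := Nat.one_le_pow _ _ (by omega)
        have h2 : 1 ≤ q ^ 2 := Nat.one_le_pow _ _ (by omega)
        zify [hle, h1, h2]
        ring
      have h2q : q % 2 = 1 := Nat.odd_iff.1 hodd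
      have h2sq : 2 ∣ q ^ 2 - 1 := by
        rw [hsq]
        exact Dvd.dvd.mul_left (by omega) _
      have h2D : 2 ∣ q ^ 2 + 1 := by
        have : 1 ≤ q ^ 2 := Nat.one_le_pow _ _ (by omega)
        have e : q ^ 2 + 1 = (q ^ 2 - 1) + 2 := by (clear * - this; omega)
        rw [e]
        exact (Nat.dvd_add_right h2sq).2 dvd_rfl
      have hp2 : p ≠ 2 := by
        rintro rfl
        omega
      have h42 : r4 ≠ 2 := by
        rintro rfl
        exact absurd ((o4 2).1 h2sq) (by decide)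
      have h62 : r6 ≠ 2 := by
        rintro rfl
        exact absurd ((o6 2).1 h2sq) (by decide)
      have h6D : r6 ∣ q ^ 2 - q + 1 := by
        have hle : q ≤ q ^ 2 := by nlinarith only []
        have e : q ^ 3 + 1 = (q + 1) * (q ^ 2 - q + 1) := by
          zify [hle]
          ring
        rw [e, pr6.dvd_mul] at hr6
        refine hr6.resolve_left fun h => ?_
        exact absurd ((o6 2).1 (by rw [hsq]; exact h.mul_left _)) (by decide)
      refine kite_of_primes φG hpr Nat.prime_two pr4 pr6 hp2 ?_ ?_ h42.symm h62.symm n46 ?_ ?_ ?_ ?_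
      · rintro rfl
        exact hp1 4 (by norm_num) hr4'
      · rintro rfl
        exact hp1 6 (by norm_num) hr6'
      · rw [hD]
        exact ((hpdq.trans (dvd_pow_self _ (by norm_num))).mul_right _).mul_right _
      · rw [hD]
        exact (h2D.mul_left _).mul_right _
      · rw [hD]
        exact (hr4.mul_left _).mul_right _
      · rw [hD]
        exact h6D.mul_left _
  · -- `n = 4`
    have k1 : ∀ r : ℕ, r.Prime → r ∣ q ^ 3 + 1 → r ∣ charDegree (φA : PSU 4 F q → ℂ) := fun r hr h =>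
      hφA r hr ⟨3, by decide, by unfold uu; rwa [if_neg (by decide)]⟩
    rcases Nat.even_or_odd q with hev | hodd
    · have hq4 : 4 ≤ q := by
        obtain ⟨c, hc⟩ := hev
        (clear * - hq2 hq3 hc; omega)
      have hp2 : 2 = p := (hpq 2 Nat.prime_two).1 (even_iff_two_dvd.1 hev)
      have hno2 : ∀ r : ℕ, r.Prime → r ∣ q - 1 → r ∣ q + 1 → False := by
        intro r hr h1 h2
        have h3 := Nat.dvd_sub h2 h1
        rw [show q + 1 - (q - 1) = 2 by omega] at h3
        have h4 := (Nat.prime_dvd_prime_iff_eq hr Nat.prime_two).1 h3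
        subst h4
        obtain ⟨c, hc⟩ := hev
        omega
      obtain ⟨r1, pr1, hr1⟩ := Nat.exists_prime_and_dvd (show q - 1 ≠ 1 by omega)
      have hm1 : ∀ r : ℕ, r ∣ q - 1 → r ∣ q ^ 2 - 1 := fun r h => by rw [hsq]; exact h.mul_right _
      have hm2 : ∀ r : ℕ, r ∣ q + 1 → r ∣ q ^ 2 - 1 := fun r h => by rw [hsq]; exact h.mul_left _
      have hn6 : ∀ r : ℕ, r ∣ q ^ 2 - 1 → r ≠ r6 := by
        rintro r h rfl
        exact absurd ((o6 2).1 h) (by decide)
      have n12 : r1 ≠ r2 := by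
        rintro rfl
        exact hno2 _ pr1 hr1 hr2
      by_cases c1 : ∀ r : ℕ, r.Prime → r ∣ q - 1 → r = r1
      swap
      · push Not at c1
        obtain ⟨s, ps, hs, hs1⟩ := c1
        refine kite_of_primes φA pr1 ps pr2 pr6 hs1.symm n12 (hn6 _ (hm1 _ hr1)) ?_ (hn6 _ (hm1 _ hs)) n26
          (k2 _ pr1 (hm1 _ hr1)) (k2 _ ps (hm1 _ hs)) (k2 _ pr2 hr2') (k1 _ pr6 hr6)
        rintro rfl
        exact hno2 _ ps hs hr2
      by_cases c2 : ∀ r : ℕ, r.Prime → r ∣ q + 1 → r = r2
      swap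
      · push Not at c2
        obtain ⟨s, ps, hs, hs1⟩ := c2
        refine kite_of_primes φA pr1 ps pr2 pr6 ?_ n12 (hn6 _ (hm1 _ hr1)) hs1 (hn6 _ (hm2 _ hs)) n26
          (k2 _ pr1 (hm1 _ hr1)) (k2 _ ps (hm2 _ hs)) (k2 _ pr2 hr2') (k1 _ pr6 hr6)
        rintro rfl
        exact hno2 _ ps hr1 hs
      obtain ⟨i, hi⟩ := eq_pow_of_forall (N := q - 1) (by omega) c1
      obtain ⟨j, hj⟩ := eq_pow_of_forall (N := q + 1) (by omega) c2
      obtain ⟨f, hf⟩ := eq_pow_of_forall (N := q) (x := p) (by omega) fun r hr h => (hpq r hr).1 h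
      rw [← hp2] at hf
      have hf2 : 2 ≤ f := by
        by_contra hcon
        have : f = 0 ∨ f = 1 := by omega
        rcases this with rfl | rfl
        · rw [pow_zero] at hf; omega
        · rw [pow_one] at hf; omega
      subst hp2
      obtain ⟨φL, t, a, ht, hL⟩ := exists_levi_one (F := F) (p := 2) hF hq4
      rcases two_pow_cases hf2 pr1 pr2 (by rw [← hf]; exact hi) (by rw [← hf]; exact hj) with h6 | h6
      · -- `q = 4`
        rw [h6] at hf
        norm_num at hf
        subst hf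
        obtain ⟨φG, hφG⟩ := exG (F := F) hF hn
        have dG : charDegree (φG : PSU 4 F 4 → ℂ) = 832 := by
          have e : (4 ^ 2 - 1) * (4 + 1) * charDegree (φG : PSU 4 F 4 → ℂ) = 4 ^ 3 * 65 * 15 := hφG
          omega
        have key : ∀ r : ℕ, r.Prime → r ≠ 2 → ¬ r ∣ 5 → ¬ r ∣ 15 → r ∣ (4 ^ 3 + 1) * (4 ^ 4 - 1) →
            r ∣ charDegree (φL : PSU 4 F 4 → ℂ) := by
          intro r hr h1 h2 h3 h4
          have h5 := h4.trans hL
          rcases hr.dvd_mul.1 h5 with h6 | h6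
          · exact absurd ((Nat.prime_dvd_prime_iff_eq hr Nat.prime_two).1 (hr.dvd_of_dvd_pow h6)) h1
          · rcases hr.dvd_mul.1 h6 with h7 | h7
            · rcases hr.dvd_mul.1 h7 with h8 | h8
              · exact h8
              · exact absurd (h8.trans ht) h2
            · exact absurd h7 h3
        refine kite_of_star 13 {3, 5, 2, 17} (by decide) ?_
        intro x hx
        simp only [Finset.mem_insert, Finset.mem_singleton] at hx
        rcases hx with rfl | rfl | rfl | rfl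
        · exact adj_of_dvd (φ := φA) (by norm_num) (by norm_num) (by norm_num) (k1 13 (by norm_num) (by norm_num))
            (k2 3 (by norm_num) (by norm_num))
        · exact adj_of_dvd (φ := φA) (by norm_num) (by norm_num) (by norm_num) (k1 13 (by norm_num) (by norm_num))
            (k2 5 (by norm_num) (by norm_num))
        · exact adj_of_dvd (φ := φG) (by norm_num) (by norm_num) (by norm_num) (by rw [dG]; norm_num) (by rw [dG]; norm_num)
        · exact adj_of_dvd (φ := φL) (by norm_num) (by norm_num) (by norm_num)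
            (key 13 (by norm_num) (by norm_num) (by norm_num) (by norm_num) (by norm_num))
            (key 17 (by norm_num) (by norm_num) (by norm_num) (by norm_num) (by norm_num))
      · -- `q = 8`
        rw [h6] at hf
        norm_num at hf
        subst hf
        have key : ∀ r : ℕ, r.Prime → r ≠ 2 → ¬ r ∣ 9 → ¬ r ∣ 63 → r ∣ (8 ^ 3 + 1) * (8 ^ 4 - 1) →
            r ∣ charDegree (φL : PSU 4 F 8 → ℂ) := by
          intro r hr h1 h2 h3 h4
          have h5 := h4.trans hL
          rcases hr.dvd_mul.1 h5 with h6 | h6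
          · exact absurd ((Nat.prime_dvd_prime_iff_eq hr Nat.prime_two).1 (hr.dvd_of_dvd_pow h6)) h1
          · rcases hr.dvd_mul.1 h6 with h7 | h7
            · rcases hr.dvd_mul.1 h7 with h8 | h8
              · exact h8
              · exact absurd (h8.trans ht) h2
            · exact absurd h7 h3
        have h3 : 3 ∣ charDegree (φL : PSU 4 F 8 → ℂ) := by
          obtain ⟨s, hs⟩ := ht
          have h1 : 3 ^ 5 * s ∣ 2 ^ a * (charDegree (φL : PSU 4 F 8 → ℂ) * t * (8 ^ 2 - 1)) * s :=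
            Nat.mul_dvd_mul ((show 3 ^ 5 ∣ (8 ^ 3 + 1) * (8 ^ 4 - 1) by norm_num).trans hL) dvd_rfl
          have h2 : 2 ^ a * (charDegree (φL : PSU 4 F 8 → ℂ) * t * (8 ^ 2 - 1)) * s =
              3 ^ 4 * (2 ^ a * (charDegree (φL : PSU 4 F 8 → ℂ) * 7)) := by
            have : 2 ^ a * (charDegree (φL : PSU 4 F 8 → ℂ) * t * (8 ^ 2 - 1)) * s =
              2 ^ a * charDegree (φL : PSU 4 F 8 → ℂ) * (t * s) * 63 := by
              norm_num
              ring
            rw [this, ← hs]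
            ring
          have h4 : 3 ^ 5 * s = 3 ^ 4 * (3 * s) := by ring
          rw [h2, h4] at h1
          have h5 := Nat.dvd_of_mul_dvd_mul_left (by norm_num) h1
          have h6 : 3 ∣ 2 ^ a * (charDegree (φL : PSU 4 F 8 → ℂ) * 7) := (Dvd.intro s rfl).trans h5
          rcases Nat.prime_three.dvd_mul.1 h6 with h7 | h7
          · exact absurd ((Nat.prime_dvd_prime_iff_eq Nat.prime_three Nat.prime_two).1
              (Nat.prime_three.dvd_of_dvd_pow h7)) (by norm_num)
          · rcases Nat.prime_three.dvd_mul.1 h7 with h8 | h8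
            · exact h8
            · exact absurd h8 (by norm_num)
        exact kite_of_primes φL (a := 3) (b := 5) (c := 13) (d := 19) (by norm_num) (by norm_num) (by norm_num)
          (by norm_num) (by norm_num) (by norm_num) (by norm_num) (by norm_num) (by norm_num) (by norm_num) h3
          (key 5 (by norm_num) (by norm_num) (by norm_num) (by norm_num) (by norm_num))
          (key 13 (by norm_num) (by norm_num) (by norm_num) (by norm_num) (by norm_num))
          (key 19 (by norm_num) (by norm_num) (by norm_num) (by norm_num) (by norm_num))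
    · -- `q` odd: `2` is adjacent to all other primes
      have h2q : q % 2 = 1 := Nat.odd_iff.1 hodd
      have h2sq : 2 ∣ q ^ 2 - 1 := by
        rw [hsq]
        exact Dvd.dvd.mul_left (by omega) _
      obtain ⟨φF, hφF⟩ := exF (F := F) hF hn
      have hD : charDegree (φF : PSU 4 F q → ℂ) = q ^ 2 * (q ^ 2 + 1) := by
        have e : (q ^ 2 - 1) * (q + 1) * charDegree (φF : PSU 4 F q → ℂ) = q ^ 2 * (q ^ 4 - 1) * (q ^ 1 + 1) := hφF
        have hpos : 0 < (q ^ 2 - 1) * (q + 1) := by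
          have : 4 ≤ q ^ 2 := by nlinarith only [hq2]
          apply Nat.mul_pos <;> (clear * - this hq2 h2q; omega)
        apply Nat.eq_of_mul_eq_mul_left hpos
        rw [e]
        have h1 : 1 ≤ q ^ 4 := Nat.one_le_pow _ _ (by omega)
        have h2 : 1 ≤ q ^ 2 := Nat.one_le_pow _ _ (by omega)
        zify [h1, h2]
        ring
      have h2D : 2 ∣ q ^ 2 + 1 := by
        have : 1 ≤ q ^ 2 := Nat.one_le_pow _ _ (by omega)
        have e : q ^ 2 + 1 = (q ^ 2 - 1) + 2 := by (clear * - this; omega)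
        rw [e]
        exact (Nat.dvd_add_right h2sq).2 dvd_rfl
      refine kite_of_star 2 ((Nat.card (PSU 4 F q)).primeFactors.erase 2) ?_ ?_
      · have := Finset.pred_card_le_card_erase (s := (Nat.card (PSU 4 F q)).primeFactors) (a := 2)
        omega
      · intro x hx
        rw [Finset.mem_erase, Nat.mem_primeFactors] at hx
        obtain ⟨hx2, px, hxd, -⟩ := hx
        rcases cover hF hn px hxd with h1 | ⟨i, hi, h1⟩ | ⟨h1, h1'⟩
        · exact adj_of_dvd (φ := φF) Nat.prime_two px hx2.symm (by rw [hD]; exact h2D.mul_left _)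
            (by rw [hD]; exact (h1.trans (dvd_pow_self _ two_ne_zero)).mul_right _)
        · exact adj_of_dvd (φ := φA) Nat.prime_two px hx2.symm (k2 2 Nat.prime_two h2sq) (hφA x px ⟨i, hi, h1⟩)
        · refine adj_of_dvd (φ := φF) Nat.prime_two px hx2.symm (by rw [hD]; exact h2D.mul_left _) ?_
          rw [hD]
          have h3 : x ∣ q ^ 4 - 1 := h1'
          have h4 : q ^ 4 - 1 = (q ^ 2 - 1) * (q ^ 2 + 1) := by
            have h5 : 1 ≤ q ^ 4 := Nat.one_le_pow _ _ (by omega)
            have h6 : 1 ≤ q ^ 2 := Nat.one_le_pow _ _ (by omega)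
            zify [h5, h6]
            ring
          rw [h4, px.dvd_mul] at h3
          exact (h3.resolve_left h1).mul_left _

/-- **`PSU_n(q)`, `n ≥ 4`** -/
theorem kite_psu_un {S : Type u} [Group S] [Finite S] (h : H113.PSU.Main.IsUn S)
    (h5 : 5 ≤ (Nat.card S).primeFactors.card) : Kite S := by
  obtain ⟨F, _, _, n, q, hF, hn, ⟨e⟩⟩ := h
  refine Kite.congr e (kite_psu_aux hF hn ?_)
  rwa [← Nat.card_congr e.toEquiv]

end Cfsg.Agent.H40.KiteG
end

-- part: H40/Kite/U3Sum
section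
/-!
# Sums over the root group (S4919, helper40)

`sum_X` : a class function whose sum over `U` vanishes, `T` transitive on `U ∖ X` modulo `X`.
-/

set_option autoImplicit false
set_option linter.unusedSectionVars false

open Cfsg
open scoped ComplexConjugate

namespace Cfsg.Agent.H40.KiteG

open Cfsg.Agent.H664.R1 Cfsg.Agent.Characters.Core

universe u

variable {G : Type u} [Group G]

theorem sum_X (D : Split G) [Fintype D.U] (X : Subgroup G) [Fintype X] (hXU : X ≤ D.U)
    (hXT : ∀ t ∈ D.T, ∀ x ∈ X, t * x * t⁻¹ ∈ X)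
    (htr : ∀ u ∈ D.U, u ∉ X → ∀ v ∈ D.U, v ∉ X → ∃ t ∈ D.T, ∃ x ∈ X, t * u * t⁻¹ = v * x)
    {u₀ : G} (hu₀ : u₀ ∈ D.U) (hu₀X : u₀ ∉ X)
    {χ : G → ℂ} (hχ : IsClassFunction G χ) (h2 : ∑ u : D.U, χ u = 0) :
    (Nat.card X : ℂ) * ∑ x : X, χ x = -(((Nat.card D.U : ℂ) - Nat.card X) * ∑ x : X, χ (u₀ * x)) := by
  classical
  set fh : G → ℂ := fun u => ∑ x : X, χ (u * x) with hfh
  have hfh_mem : ∀ u ∈ X, fh u = fh 1 := by
    intro u hu
    simp only [hfh]
    refine Fintype.sum_equiv (Equiv.mulLeft (⟨u, hu⟩ : X)) _ _ fun x => ?_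
    rw [one_mul]
    rfl
  have hfh_right : ∀ u, ∀ y ∈ X, fh (u * y) = fh u := by
    intro u y hy
    simp only [hfh]
    refine Fintype.sum_equiv (Equiv.mulLeft (⟨y, hy⟩ : X)) _ _ fun x => ?_
    rw [mul_assoc]
    rfl
  have hfh_conj : ∀ u, ∀ t ∈ D.T, fh (t * u * t⁻¹) = fh u := by
    intro u t ht
    simp only [hfh]
    have hmem : ∀ x : X, t⁻¹ * (x : G) * t ∈ X := by
      intro x
      have := hXT t⁻¹ (D.T.inv_mem ht) x x.2
      rwa [inv_inv] at this
    have hmem' : ∀ x : X, t * (x : G) * t⁻¹ ∈ X := fun x => hXT t ht x x.2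
    refine Fintype.sum_equiv
      (⟨fun x => ⟨t⁻¹ * x * t, hmem x⟩, fun x => ⟨t * x * t⁻¹, hmem' x⟩, fun x => Subtype.ext (by
        show t * (t⁻¹ * (x : G) * t) * t⁻¹ = x
        group), fun x => Subtype.ext (by
        show t⁻¹ * (t * (x : G) * t⁻¹) * t = x
        group)⟩ : X ≃ X) _ _ fun x => ?_
    show χ (t * u * t⁻¹ * x) = χ (u * (t⁻¹ * x * t))
    rw [← hχ (u * (t⁻¹ * x * t)) t]
    congr 1
    group
  have hconst : ∀ u : D.U, (u : G) ∉ X → fh u = fh u₀ := by
    intro u hu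
    obtain ⟨t, ht, x, hx, h⟩ := htr u₀ hu₀ hu₀X u u.2 hu
    rw [← hfh_conj u₀ t ht, h, hfh_right _ x hx]
  have hval : ∀ u : D.U, fh u = fh u₀ + (if (u : G) ∈ X then fh 1 - fh u₀ else 0) := by
    intro u
    split_ifs with h
    · rw [hfh_mem u h]; ring
    · rw [hconst u h, add_zero]
  have h3 : ∀ x : X, ∑ u : D.U, χ (u * x) = 0 := by
    intro x
    rw [← h2]
    exact Fintype.sum_equiv (Equiv.mulRight (⟨x, hXU x.2⟩ : D.U)) _ _ fun u => rfl
  have h4 : ∑ u : D.U, fh u = 0 := by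
    simp only [hfh]
    rw [Finset.sum_comm]
    exact Finset.sum_eq_zero fun x _ => h3 x
  have h6 : ∑ u : D.U, (if (u : G) ∈ X then fh 1 - fh u₀ else 0) =
      (fh 1 - fh u₀) * Nat.card X := by
    rw [← Finset.sum_filter, Finset.sum_const, nsmul_eq_mul, mul_comm]
    congr 2
    rw [Nat.card_eq_fintype_card, ← Finset.card_univ]
    refine Finset.card_bij' (fun u hu => (⟨u, (Finset.mem_filter.1 hu).2⟩ : X))
      (fun x _ => ⟨x, hXU x.2⟩) ?_ ?_ ?_ ?_
    · intro u _
      exact Finset.mem_univ _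
    · intro x _
      exact Finset.mem_filter.2 ⟨Finset.mem_univ _, x.2⟩
    · intro u _
      rfl
    · intro x _
      rfl
  have h5 : ∑ u : D.U, fh u = Nat.card D.U * fh u₀ + (fh 1 - fh u₀) * Nat.card X := by
    rw [Finset.sum_congr rfl fun u _ => hval u, Finset.sum_add_distrib, h6, Finset.sum_const, nsmul_eq_mul,
      Finset.card_univ, ← Nat.card_eq_fintype_card]
  rw [h5] at h4
  have h7 : ∑ x : X, χ x = fh 1 := by
    simp only [hfh, one_mul]
  rw [h7]
  change (Nat.card X : ℂ) * fh 1 = -(((Nat.card D.U : ℂ) - Nat.card X) * fh u₀)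
  linear_combination h4

/-- The sum over a subgroup of a character. -/
theorem sum_eq_card_mul [Finite G] (X : Subgroup G) [Fintype X] {χ : G → ℂ} (hχ : IsCharacter G χ) :
    ∃ m : ℕ, ∑ x : X, χ x = Nat.card X * m := by
  obtain ⟨m, hm⟩ := classInner_isNat (isCharacter_comp X.subtype hχ) isCharacter_one
  rw [classInner_def] at hm
  refine ⟨m, ?_⟩
  have h0 : (Nat.card X : ℂ) ≠ 0 := card_ne_zero_complex
  rw [inv_mul_eq_iff_eq_mul₀ h0] at hm
  rw [← hm]
  refine Finset.sum_congr rfl fun x _ => ?_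
  simp

/-- The central character. -/
theorem dvd_index_mul [Finite G] (χ : IrrCharacter G) (g : G) {e : ℤ} (he : (χ : G → ℂ) g = e) :
    (charDegree (χ : G → ℂ) : ℤ) ∣ (Subgroup.centralizer ({g} : Set G)).index * e := by
  classical
  obtain ⟨n, ρ, hρ, hχ⟩ := χ.2
  have h1 := Characters.CentralCharacter.isIntegral_index_mul_character_div ρ g
  have h2 : (charDegree (χ : G → ℂ) : ℂ) = (Module.finrank ℂ (Fin n → ℂ) : ℂ) := by
    rw [← Cfsg.Agent.Blocks.Basic.irr_one_eq_charDegree χ.2, ← hχ]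
    exact Representation.char_one ρ
  have h3 : (χ : G → ℂ) g = ρ.character g := by rw [← hχ]
  rw [← h3, ← h2, he] at h1
  have hd0 : (charDegree (χ : G → ℂ) : ℂ) ≠ 0 := by
    have := Cfsg.Agent.Blocks.Basic.charDegree_pos χ.2
    exact_mod_cast this.ne'
  obtain ⟨k, hk⟩ := (h1.exists_int_iff_exists_rat).1
    ⟨(((Subgroup.centralizer ({g} : Set G)).index : ℚ) * e / (charDegree (χ : G → ℂ) : ℚ)), by push_cast; ring⟩
  refine ⟨k, ?_⟩
  rw [div_eq_iff hd0] at hk
  have h4 : (((Subgroup.centralizer ({g} : Set G)).index * e : ℤ) : ℂ) = ((charDegree (χ : G → ℂ) * k : ℤ) : ℂ) := by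
    push_cast
    rw [hk]
    ring
  exact_mod_cast h4

/-- The absolute value. -/
theorem abs_le_degree [Finite G] (χ : IrrCharacter G) (g : G) {e : ℤ} (he : (χ : G → ℂ) g = e) :
    |e| ≤ (charDegree (χ : G → ℂ) : ℤ) := by
  obtain ⟨n, ρ, hρ, hχ⟩ := χ.2
  have h1 := Characters.Values.norm_character_le ρ g
  have h2 : (charDegree (χ : G → ℂ) : ℂ) = (Module.finrank ℂ (Fin n → ℂ) : ℂ) := by
    rw [← Cfsg.Agent.Blocks.Basic.irr_one_eq_charDegree χ.2, ← hχ]
    exact Representation.char_one ρ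
  have h3 : (χ : G → ℂ) g = ρ.character g := by rw [← hχ]
  rw [← h3, he] at h1
  have h4 : charDegree (χ : G → ℂ) = Module.finrank ℂ (Fin n → ℂ) := by exact_mod_cast h2
  rw [h4]
  have h5 : ‖((e : ℤ) : ℂ)‖ = ((|e| : ℤ) : ℝ) := by
    rw [Complex.norm_intCast, Int.cast_abs]
  rw [h5] at h1
  exact_mod_cast h1

end Cfsg.Agent.H40.KiteG
end

-- part: H40/Kite/U3Sixteen
section
/-!
# A character of `PSU(3,16)` (S4919, helper40)

`sixteen` : an irreducible character of degree divisible by `15` and by `17` or `241`.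
-/

set_option autoImplicit false
set_option linter.unusedSectionVars false

open Cfsg
open scoped ComplexConjugate

namespace Cfsg.Agent.H40.KiteG

open Cfsg.Agent.Characters.Core Cfsg.Agent.H596.OneFacts Cfsg.Agent.LieClassical.HermBasic
open Cfsg.Agent.LieRecognition.RankOneAbstract Cfsg.Agent.H732.RankOneGG Cfsg.Agent.H664.R1
  Cfsg.Agent.H664.R1.U3 Cfsg.Agent.H654.Two

section general

variable {F : Type*} [Field F] {σ : F →+* F} [hσ : Fact (∀ x, σ (σ x) = x)]

theorem un_congr {a b a' b' : F} (h : b + σ b + a * σ a = 0) (h' : b' + σ b' + a' * σ a' = 0) (ha : a = a')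
    (hb : b = b') : un a b h = un a' b' h' := by
  subst ha hb
  rfl

/-- The root group. -/
theorem exists_unX {x : S σ} (hx : x ∈ XS σ) :
    ∃ (b : F) (h : b + σ b + 0 * σ 0 = 0), (x : PG σ) = pr σ (un 0 b h) := by
  obtain ⟨x, hxS⟩ := x
  have hx' : x ∈ (Ze σ).map (pr σ) := hx
  obtain ⟨u, ⟨hu, hu0⟩, rfl⟩ := hx'
  obtain ⟨a, b, h, rfl⟩ := exists_un hu
  rw [mat_un] at hu0
  have ha : a = 0 := by simpa using hu0
  subst ha
  exact ⟨b, h, rfl⟩

/-- The root group is central. -/
theorem comm_X {x u : S σ} (hx : x ∈ XS σ) (hu : u ∈ (spS σ).U) : u * x = x * u := by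
  obtain ⟨b, h, hxe⟩ := exists_unX hx
  obtain ⟨a', b', h', hue⟩ := exists_unS hu
  apply Subtype.ext
  rw [Subgroup.coe_mul, Subgroup.coe_mul, hxe, hue, ← map_mul, ← map_mul]
  congr 1
  have e1 : (b - a' * σ 0 + b') + σ (b - a' * σ 0 + b') + (a' + 0) * σ (a' + 0) = 0 := by
    rw [map_zero] at h ⊢
    simp only [mul_zero, sub_zero, add_zero, map_add] at h ⊢
    linear_combination h + h'
  have e2 : (b' - 0 * σ a' + b) + σ (b' - 0 * σ a' + b) + (0 + a') * σ (0 + a') = 0 := by
    simp only [zero_mul, sub_zero, zero_add, add_zero, map_add] at h ⊢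
    linear_combination h + h'
  rw [un_mul a' b' 0 b h' h e1, un_mul 0 b a' b' h h' e2]
  refine un_congr _ _ (by ring) ?_
  rw [map_zero]
  ring

theorem notMem_X {u : S σ} {a b : F} {h : b + σ b + a * σ a = 0} (hu : (u : PG σ) = pr σ (un a b h)) :
    u ∈ XS σ ↔ a = 0 := by
  constructor
  · intro hx
    obtain ⟨b', h', e⟩ := exists_unX hx
    rw [hu] at e
    exact (un_inj (pr_inj (un_mem _ _ _) (un_mem _ _ _) e)).1
  · rintro rfl
    show (u : PG σ) ∈ (Ze σ).map (pr σ)
    rw [hu]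
    refine ⟨_, ⟨un_mem _ _ _, ?_⟩, rfl⟩
    rw [mat_un]
    simp

/-- Elements with the same first coordinate. -/
theorem inv_mul_mem_X {u v : S σ} {a b b' : F} {h : b + σ b + a * σ a = 0} {h' : b' + σ b' + a * σ a = 0}
    (hu : (u : PG σ) = pr σ (un a b h)) (hv : (v : PG σ) = pr σ (un a b' h')) : v⁻¹ * u ∈ XS σ := by
  show ((v⁻¹ * u : S σ) : PG σ) ∈ (Ze σ).map (pr σ)
  rw [Subgroup.coe_mul, Subgroup.coe_inv, hu, hv, ← map_inv, ← map_mul]
  have h1 := mem_Ze_of (σ := σ) (A := un a b' h') (B := 1) (C := un a b h) (un_mem _ _ _) (Un σ).one_mem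
    (un_mem _ _ _) (by rw [mat_un, mat_un, mat_one]; simp)
  rw [inv_one, mul_one] at h1
  exact ⟨_, h1, rfl⟩

end general

section finite

variable {F : Type*} [Field F] [Fintype F] {σ : F →+* F} [hσ : Fact (∀ x, σ (σ x) = x)]

theorem XS_conj {t : S σ} (ht : t ∈ (spS σ).T) {x : S σ} (hx : x ∈ XS σ) : t * x * t⁻¹ ∈ XS σ :=
  hXT (σ := σ) (t := (t : PG σ)) ht (x := (x : PG σ)) hx

theorem htrS (hF : Fintype.card F = 16 ^ 2) (hs : ∀ x, σ x = x ^ 16) {u : S σ} (hu : u ∈ (spS σ).U)
    (huX : u ∉ XS σ) {v : S σ} (hv : v ∈ (spS σ).U) (hvX : v ∉ XS σ) :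
    ∃ t ∈ (spS σ).T, ∃ x ∈ XS σ, t * u * t⁻¹ = v * x := by
  obtain ⟨a, b, h, hue⟩ := exists_unS hu
  obtain ⟨a', b', h', hve⟩ := exists_unS hv
  have ha : a ≠ 0 := fun e => huX ((notMem_X hue).2 e)
  have ha' : a' ≠ 0 := fun e => hvX ((notMem_X hve).2 e)
  have hcop : (Nat.card Fˣ).Coprime 14 := by
    rw [card_units' (q := 16) hF]
    decide
  obtain ⟨t, ht⟩ : ∃ t : Fˣ, t ^ 14 = Units.mk0 a ha / Units.mk0 a' ha' := (powCoprime hcop).surjective _
  obtain ⟨h1, hc⟩ := ph_conj t h hue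
  have ht' : (t : F) ^ 14 = a / a' := by
    have := congrArg Units.val ht
    simpa using this
  have e1 : (t : F) * σ (σ t / t) * a = a' := by
    rw [weight, hs]
    have h0 := t.ne_zero
    have h2 : (t : F) ^ 2 / (t : F) ^ 16 = ((t : F) ^ 14)⁻¹ := by
      rw [eq_comm, inv_eq_one_div, div_eq_div_iff (pow_ne_zero _ h0) (pow_ne_zero _ h0)]
      ring
    rw [h2, ht', inv_div]
    field_simp
  have h3 : (t : F) * σ t * b + σ ((t : F) * σ t * b) + a' * σ a' = 0 := by
    rw [e1] at h1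
    exact h1
  have hc' : ((ph σ t * u * (ph σ t)⁻¹ : S σ) : PG σ) = pr σ (un a' ((t : F) * σ t * b) h3) := by
    rw [hc]
    congr 1
    exact un_congr _ _ e1 rfl
  refine ⟨ph σ t, ph_mem_T t, v⁻¹ * (ph σ t * u * (ph σ t)⁻¹), inv_mul_mem_X hc' hve, ?_⟩
  group

/-- an element of `U` outside of `X` -/
theorem exists_out (hF : Fintype.card F = 16 ^ 2) (hs : ∀ x, σ x = x ^ 16) :
    ∃ u ∈ (spS σ).U, u ∉ XS σ := by
  obtain ⟨b, hb⟩ := exists_snd (σ := σ) hF hs 1
  have hu₁ : pr σ (un 1 b hb) ∈ S σ := U_le_S ⟨_, un_mem _ _ _, rfl⟩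
  refine ⟨⟨_, hu₁⟩, ⟨_, un_mem _ _ _, rfl⟩, fun h => ?_⟩
  exact one_ne_zero ((notMem_X (u := ⟨_, hu₁⟩) rfl).1 h)

/-- The torus element of order `15`. -/
theorem exists_fifteen (hF : Fintype.card F = 16 ^ 2) (hs : ∀ x, σ x = x ^ 16) :
    ∃ A : Subgroup (S σ), A ≤ (spS σ).B ∧ Nat.card A = 15 ∧
      ∀ x ∈ A, x ≠ 1 → ∀ u ∈ (spS σ).U, x * u = u * x → u = 1 := by
  obtain ⟨γ, hγ⟩ := IsCyclic.exists_generator (α := Fˣ)
  have hor : orderOf γ = 255 := by
    rw [orderOf_eq_card_of_forall_mem_zpowers hγ, card_units' (q := 16) hF]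
  obtain ⟨t, ht⟩ : ∃ t : Fˣ, orderOf t = 15 := ⟨γ ^ 17, by rw [orderOf_pow' γ (by norm_num), hor]; norm_num⟩
  have htq : ∀ j : ℤ, (t ^ j) ^ 16 = t ^ j := by
    intro j
    have h5 : t ^ 15 = 1 := by rw [← ht, pow_orderOf_eq_one]
    have h7 : (t ^ j) ^ 16 = (t ^ 16) ^ j := by
      rw [← zpow_natCast, ← zpow_natCast, ← zpow_mul, ← zpow_mul, mul_comm]
    have h6 : t ^ 16 = t := by rw [pow_succ, h5, one_mul]
    rw [h7, h6]
  have hinj : ∀ j : ℤ, ph σ (t ^ j) = 1 → t ^ j = 1 := fun j h => one_of_fixed (fixed_of_pow hs (htq j)) h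
  refine ⟨Subgroup.zpowers (ph σ t), ?_, ?_, ?_⟩
  · rw [Subgroup.zpowers_le]
    exact (spS σ).TB (ph_mem_T t)
  · rw [Nat.card_zpowers, ← ht]
    refine Nat.dvd_antisymm (orderOf_map_dvd _ _) ?_
    rw [orderOf_dvd_iff_pow_eq_one]
    have h1 := hinj (orderOf (ph σ t)) (by rw [zpow_natCast, map_pow, pow_orderOf_eq_one])
    rwa [zpow_natCast] at h1
  · intro x hx hx1 u hu hxu
    obtain ⟨j, rfl⟩ := Subgroup.mem_zpowers_iff.1 hx
    rw [← map_zpow] at hx1 hxu
    have hfix := fixed_of_pow (σ := σ) hs (htq j)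
    have hj1 : t ^ j ≠ 1 := by
      intro h; rw [h, map_one] at hx1; exact hx1 rfl
    refine regular ?_ ?_ hu hxu
    · rw [hfix, pow_two]
      intro h
      apply hj1
      apply Units.ext
      exact mul_left_cancel₀ (t ^ j).ne_zero (h.trans (mul_one _).symm)
    · rw [hfix]
      intro h
      have h7 : (t ^ j) ^ 2 = 1 := by
        apply Units.ext
        rw [pow_two]
        exact h
      have h8 : (t ^ j) ^ 15 = 1 := by
        rw [← zpow_natCast, ← zpow_mul, mul_comm, zpow_mul, zpow_natCast, ← ht, pow_orderOf_eq_one, one_zpow]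
      apply hj1
      have h9 : t ^ j = (t ^ j) ^ 15 * ((t ^ j) ^ 2)⁻¹ ^ 7 := by
        rw [_root_.inv_pow, ← pow_mul, show 2 * 7 = 14 by norm_num, eq_mul_inv_iff_mul_eq, ← pow_succ']
      rw [h9, h8, h7, inv_one, one_pow, one_mul]

/-- arithmetic -/
theorem arith {n k : ℕ} {e c : ℤ} (hdvd : 15 * n ∣ 2 ^ 12 * 15 * 17 ^ 2 * 241) (h17 : ¬ 17 ∣ n) (h241 : ¬ 241 ∣ n)
    (hk : ¬ 2 ∣ k) (hc : ((15 * n : ℕ) : ℤ) ∣ k * e) (hle : |e| ≤ ((15 * n : ℕ) : ℤ))
    (h : (n : ℤ) + e = -(17 * c)) : c = 0 := by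
  have h1 : n ∣ 2 ^ 12 * 17 ^ 2 * 241 := by
    have h2 : 15 * n ∣ 15 * (2 ^ 12 * 17 ^ 2 * 241) := by
      have e0 : 15 * (2 ^ 12 * 17 ^ 2 * 241) = 2 ^ 12 * 15 * 17 ^ 2 * 241 := by norm_num
      rw [e0]
      exact hdvd
    exact Nat.dvd_of_mul_dvd_mul_left (by norm_num) h2
  have c17 : Nat.Coprime n 17 := ((Nat.Prime.coprime_iff_not_dvd (by norm_num)).2 h17).symm
  have c241 : Nat.Coprime n 241 := ((Nat.Prime.coprime_iff_not_dvd (by norm_num)).2 h241).symm
  have h2 : n ∣ 2 ^ 12 := (c17.pow_right 2).dvd_of_dvd_mul_right (c241.dvd_of_dvd_mul_right h1)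
  obtain ⟨j, -, rfl⟩ := (Nat.dvd_prime_pow Nat.prime_two).1 h2
  have h3 : ((2 ^ j : ℕ) : ℤ) ∣ k * e := by
    refine Dvd.dvd.trans ?_ hc
    exact_mod_cast Dvd.intro_left 15 rfl
  have hcop : IsCoprime ((2 ^ j : ℕ) : ℤ) (k : ℤ) := by
    rw [Nat.isCoprime_iff_coprime]
    exact Nat.Coprime.pow_left _ ((Nat.Prime.coprime_iff_not_dvd Nat.prime_two).2 hk)
  obtain ⟨d, rfl⟩ := hcop.dvd_of_dvd_mul_left h3
  have hpos : (0 : ℤ) < ((2 ^ j : ℕ) : ℤ) := by positivity
  have h4 : |d| ≤ 15 := by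
    rw [abs_mul, abs_of_pos hpos] at hle
    have h5 : ((2 ^ j : ℕ) : ℤ) * |d| ≤ ((2 ^ j : ℕ) : ℤ) * 15 := by
      refine hle.trans (le_of_eq ?_)
      push_cast
      ring
    exact le_of_mul_le_mul_left h5 hpos
  have h5 : ((2 ^ j : ℕ) : ℤ) * (1 + d) = -(17 * c) := by rw [← h]; ring
  have h6 : (17 : ℤ) ∣ ((2 ^ j : ℕ) : ℤ) * (1 + d) := ⟨-c, by rw [h5]; ring⟩
  have h7 : IsCoprime (17 : ℤ) ((2 ^ j : ℕ) : ℤ) := by
    have : Nat.Coprime 17 (2 ^ j) := Nat.Coprime.pow_right _ (by norm_num)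
    exact_mod_cast Nat.isCoprime_iff_coprime.2 this
  obtain ⟨m, hm⟩ := h7.dvd_of_dvd_mul_left h6
  have h8 := abs_le.1 h4
  have h9 : m = 0 := by omega
  rw [h9, mul_zero] at hm
  rw [hm, mul_zero] at h5
  omega

/-- **The character.** -/
theorem sixteen (hF : Fintype.card F = 16 ^ 2) (hs : ∀ x, σ x = x ^ 16) :
    ∃ χ : IrrCharacter (S σ), 15 ∣ charDegree (χ : S σ → ℂ) ∧
      (17 ∣ charDegree (χ : S σ → ℂ) ∨ 241 ∣ charDegree (χ : S σ → ℂ)) := by
  classical
  have : Finite (PG σ) := inferInstance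
  have := Fintype.ofFinite (PG σ)
  have := Fintype.ofFinite (S σ)
  have := Fintype.ofFinite (spS σ).U
  have := Fintype.ofFinite (spS σ).B
  have := Fintype.ofFinite (XS σ)
  have : Finite (IrrCharacter (S σ)) := Characters.Core.finite_irr
  have := Fintype.ofFinite (IrrCharacter (S σ))
  have : Fact (Nat.Prime 2) := ⟨Nat.prime_two⟩
  have D := data_of_split (spS σ)
  have hP := isP_U (σ := σ) hF hs (r := 2) (k := 4) (by norm_num)
  have hi := index_U (σ := σ) hF hs Nat.prime_two (k := 4) (by norm_num) (by norm_num)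
  have hU1 := U_ne_bot (σ := σ) hF (by norm_num) hs
  have hnt : Nontrivial (spS σ).U := (Subgroup.nontrivial_iff_ne_bot _).2 hU1
  obtain ⟨ψ, hψ⟩ := H670.PSing.exists_linear_ne_one hP
  obtain ⟨χ, h3, h4⟩ := exists_cusp D (hab_of_split (spS σ)) ψ hψ (inertia hF hs hψ) (spS σ).card_B
  obtain ⟨A, hAB, hA, hreg⟩ := exists_fifteen (σ := σ) hF hs
  have h15 : 15 ∣ charDegree (χ : S σ → ℂ) := by
    have := _root_.Cfsg.Agent.H732.RankOneGG.card_dvd D h3 A hAB hreg
    rwa [hA] at this
  refine ⟨χ, h15, ?_⟩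
  by_contra hcon
  push Not at hcon
  obtain ⟨h17, h241⟩ := hcon
  have hχc := isIrr_isCharacter χ.2
  have hd := Cfsg.Agent.Blocks.Basic.irr_one_eq_charDegree χ.2
  -- the sum over `X`
  obtain ⟨m, hm⟩ := sum_eq_card_mul (XS σ) hχc
  have hcX : Nat.card (XS σ) = 16 := card_XS hF hs
  have hcU : Nat.card (spS σ).U = 16 ^ 3 := card_US hF hs
  have hm0 : m ≠ 0 := by
    rintro rfl
    apply h4
    refine mu_of_noFix (spS σ) XS_le (hlin hF hs) ?_ ψ
    rw [noFix_iff, hm, Nat.cast_zero, mul_zero]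
  obtain ⟨z, hz1⟩ : ∃ z : XS σ, z ≠ 1 := by
    have h5 : 1 < Nat.card (XS σ) := by rw [hcX]; norm_num
    have := Finite.one_lt_card_iff_nontrivial.1 h5
    exact exists_ne 1
  have hz1' : (z : S σ) ≠ 1 := fun h => hz1 (Subtype.ext h)
  have hval : ∀ x : XS σ, x ≠ 1 → (χ : S σ → ℂ) x = (χ : S σ → ℂ) z := by
    intro x hx
    obtain ⟨g, hg⟩ := fused hF hs z z.2 hz1' x x.2 fun h => hx (Subtype.ext h)
    rw [← hg]
    exact isIrr_isClassFunction χ.2 _ _
  have hsum : ∑ x : XS σ, (χ : S σ → ℂ) x = charDegree (χ : S σ → ℂ) + 15 * (χ : S σ → ℂ) z := by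
    rw [← Finset.add_sum_erase _ _ (Finset.mem_univ (1 : XS σ)), Subgroup.coe_one, hd,
      Finset.sum_congr rfl (g := fun _ => (χ : S σ → ℂ) z) fun x hx => hval x (Finset.ne_of_mem_erase hx),
      Finset.sum_const, Finset.card_erase_of_mem (Finset.mem_univ _), Finset.card_univ, ← Nat.card_eq_fintype_card,
      hcX, nsmul_eq_mul]
    norm_num
  rw [hsum, hcX] at hm
  -- the value at `z` is an integer
  obtain ⟨e, he⟩ : ∃ e : ℤ, (χ : S σ → ℂ) z = e := by
    have h5 : IsIntegral ℤ ((χ : S σ → ℂ) z) := Characters.GaloisBasic.isIntegral_apply hχc _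
    refine (h5.exists_int_iff_exists_rat).1 ⟨(16 * m - charDegree (χ : S σ → ℂ)) / 15, ?_⟩
    push_cast
    linear_combination (1 / 15 : ℂ) * hm
  -- the coset sum
  obtain ⟨u₀, hu₀, hu₀X⟩ := exists_out (σ := σ) hF hs
  have hU0 : ∑ u : (spS σ).U, (χ : S σ → ℂ) u = 0 := sum_eq_zero_of_mu h3
  have hX := sum_X (spS σ) (XS σ) XS_le (fun t ht x hx => XS_conj ht hx)
    (fun u hu huX v hv hvX => htrS hF hs hu huX hv hvX) hu₀ hu₀X (isIrr_isClassFunction χ.2) hU0
  rw [hsum, hcX, hcU, hm] at hX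
  obtain ⟨c, hc⟩ : ∃ c : ℤ, ∑ x : XS σ, (χ : S σ → ℂ) (u₀ * x) = c := by
    have h5 : IsIntegral ℤ (∑ x : XS σ, (χ : S σ → ℂ) (u₀ * x)) :=
      IsIntegral.sum _ fun x _ => Characters.GaloisBasic.isIntegral_apply hχc _
    refine (h5.exists_int_iff_exists_rat).1 ⟨-(16 * m) / 255, ?_⟩
    push_cast at hX ⊢
    linear_combination (1 / 4080 : ℂ) * hX
  rw [hc] at hX
  obtain ⟨n, hn⟩ := h15
  rw [hn, he] at hm
  have hmc : (16 * m : ℤ) = -(255 * c) := by
    have h5 : ((16 * m : ℤ) : ℂ) = ((-(255 * c) : ℤ) : ℂ) := by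
      push_cast at hX ⊢
      linear_combination (1 / 16 : ℂ) * hX
    exact_mod_cast h5
  have hne : (n : ℤ) + e = -(17 * c) := by
    have h5 : (15 * n : ℤ) + 15 * e = 16 * m := by exact_mod_cast hm
    omega
  have hc0 : c = 0 := by
    refine arith (n := n) (k := (Subgroup.centralizer ({(z : S σ)} : Set (S σ))).index) (e := e) ?_ ?_ ?_ ?_ ?_ ?_ hne
    · rw [← hn]
      have h5 : charDegree (χ : S σ → ℂ) ∣ Nat.card (S σ) :=
        Cfsg.Agent.H681.DegBasic.dvd_card ⟨χ, rfl⟩
      refine h5.trans ((card_S hF hs).trans ?_)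
      norm_num
    · intro h; apply h17; rw [hn]; exact h.mul_left _
    · intro h; apply h241; rw [hn]; exact h.mul_left _
    · intro h
      apply hi
      refine h.trans (Subgroup.index_dvd_of_le ?_)
      intro u hu
      rw [Subgroup.mem_centralizer_iff]
      rintro x rfl
      exact (comm_X z.2 hu).symm
    · have := dvd_index_mul χ (z : S σ) he
      rwa [hn] at this
    · have := abs_le_degree χ (z : S σ) he
      rwa [hn] at this
  rw [hc0] at hmc
  omega

end finite

end Cfsg.Agent.H40.KiteG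
end

-- part: H40/Kite/U3
section
/-!
# Kites in the degree graph of `PSU(3,q)` (S4919, helper40)

`kite_u3` : five prime divisors.
-/

set_option autoImplicit false
set_option linter.unusedSectionVars false

namespace Cfsg.Agent.H40.KiteG

open Cfsg Cfsg.Agent.H671.H5 Cfsg.Agent.H670.Reg Cfsg.Agent.H664.R1 Cfsg.Agent.H664.R1.U3

universe u

section

variable {S : Type u} [Group S] {q p : ℕ}

theorem u3_cases (D : DD S q p) {r : ℕ} (hr : r.Prime) (h : r ∣ Nat.card S) :
    r ∣ q ^ 3 + 1 ∨ r ∣ p * (q - 1) := by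
  have h2 := h.trans D.card
  rcases hr.dvd_mul.1 h2 with h | h
  · exact Or.inl h
  rcases hr.dvd_mul.1 h with h | h
  · right
    rw [D.dvd_p hr (hr.dvd_of_dvd_pow h)]
    exact dvd_mul_right _ _
  · have h3 : q ^ 2 - 1 = (q + 1) * (q - 1) := by
      have := Nat.sq_sub_sq q 1
      simpa only [_root_.one_pow] using this
    rw [h3] at h
    rcases hr.dvd_mul.1 h with h | h
    · left
      rw [D.fact1]
      exact h.mul_right _
    · right
      exact h.mul_left _

/-- `q` odd: the vertex `2`. -/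
theorem kite_u3_odd (D : DD S q p) (ho : Odd q) (h5 : 5 ≤ (Nat.card S).primeFactors.card) : Kite S := by
  have hq := D.hq
  refine kite_of_star 2 ((Nat.card S).primeFactors.erase 2) ?_ ?_
  · have := Finset.pred_card_le_card_erase (s := (Nat.card S).primeFactors) (a := 2)
    omega
  · intro x hx
    rw [Finset.mem_erase, Nat.mem_primeFactors] at hx
    obtain ⟨hx2, px, hxd, -⟩ := hx
    rcases u3_cases D px hxd with h | h
    · exact D.adjA Nat.prime_two px hx2.symm (even_iff_two_dvd.1 ho.pow.add_one) h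
    · refine D.adjB Nat.prime_two px hx2.symm (Dvd.dvd.mul_left ?_ _) h
      rw [Nat.odd_iff] at ho
      omega

/-- `q` even. -/
theorem kite_u3_even (D : DD S q p) (ho : Even q) (h5 : 5 ≤ (Nat.card S).primeFactors.card)
    (h16 : q = 16 → Kite S) : Kite S := by
  classical
  have hq := D.hq
  have hp2 : p = 2 := (D.dvd_p Nat.prime_two (even_iff_two_dvd.1 ho)).symm
  obtain ⟨k, hk⟩ := D.hpk
  subst hp2
  have h2q := D.p_dvd
  have hle := D.le_sq
  have hq2 : q ^ 2 = q * q := sq q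
  have hmul : 3 * q ≤ q * q := Nat.mul_le_mul_right _ hq
  obtain ⟨A, hA⟩ : ∃ A, A = (q ^ 3 + 1).primeFactors := ⟨_, rfl⟩
  obtain ⟨B, hB⟩ : ∃ B, B = (q - 1).primeFactors := ⟨_, rfl⟩
  obtain ⟨R, hR⟩ : ∃ R, R = (q ^ 2 - q + 1).primeFactors := ⟨_, rfl⟩
  have memA : ∀ x, x ∈ A ↔ x.Prime ∧ x ∣ q ^ 3 + 1 := by
    intro x
    rw [hA, Nat.mem_primeFactors]
    exact ⟨fun h => ⟨h.1, h.2.1⟩, fun h => ⟨h.1, h.2, by omega⟩⟩
  have memB : ∀ x, x ∈ B ↔ x.Prime ∧ x ∣ q - 1 := by
    intro x
    rw [hB, Nat.mem_primeFactors]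
    exact ⟨fun h => ⟨h.1, h.2.1⟩, fun h => ⟨h.1, h.2, by omega⟩⟩
  have memR : ∀ x, x ∈ R ↔ x.Prime ∧ x ∣ q ^ 2 - q + 1 := by
    intro x
    rw [hR, Nat.mem_primeFactors]
    exact ⟨fun h => ⟨h.1, h.2.1⟩, fun h => ⟨h.1, h.2, by omega⟩⟩
  have hRA : ∀ x ∈ R, x ∈ A := by
    intro x hx
    rw [memR] at hx
    rw [memA, D.fact1]
    exact ⟨hx.1, hx.2.mul_left _⟩
  have hA2 : ∀ x ∈ A, x ≠ 2 := by
    intro x hx
    rw [memA] at hx
    rintro rfl
    have h1 := (Nat.dvd_add_right (h2q.trans (dvd_pow_self q (by norm_num)))).1 hx.2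
    exact absurd h1 (by norm_num)
  have hB2 : ∀ x ∈ B, x ≠ 2 := by
    intro x hx
    rw [memB] at hx
    rintro rfl
    have := hx.2
    omega
  have hAB : ∀ x ∈ A, ∀ y ∈ B, x ≠ y := by
    intro x hx y hy
    rintro rfl
    have h2 := hA2 x hx
    rw [memA] at hx
    rw [memB] at hy
    have h3 : q - 1 ∣ q ^ 3 - 1 := by
      have := Nat.sub_dvd_pow_sub_pow q 1 3
      simpa only [_root_.one_pow] using this
    have h4 := Nat.dvd_sub hx.2 (hy.2.trans h3)
    have h5 : 1 ≤ q ^ 3 := Nat.one_le_pow _ _ (by omega)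
    have h6 : q ^ 3 + 1 - (q ^ 3 - 1) = 2 := by omega
    rw [h6] at h4
    exact h2 ((Nat.prime_dvd_prime_iff_eq hx.1 Nat.prime_two).1 h4)
  -- adjacency
  have aA : ∀ x ∈ A, ∀ y ∈ A, x ≠ y → Adj x y S := fun x hx y hy hxy =>
    D.adjA ((memA x).1 hx).1 ((memA y).1 hy).1 hxy ((memA x).1 hx).2 ((memA y).1 hy).2
  have aR : ∀ x ∈ R, Adj 2 x S := fun x hx =>
    D.adjC Nat.prime_two ((memR x).1 hx).1 (hA2 x (hRA x hx)).symm (h2q.mul_right _) (((memR x).1 hx).2.mul_left _)
  have aB : ∀ x ∈ B, Adj 2 x S := fun x hx =>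
    D.adjB Nat.prime_two ((memB x).1 hx).1 (hB2 x hx).symm (dvd_mul_right _ _) (((memB x).1 hx).2.mul_left _)
  -- the number of primes
  have hcard : 5 ≤ A.card + B.card + 1 := by
    refine h5.trans ?_
    have hsub : (Nat.card S).primeFactors ⊆ insert 2 (A ∪ B) := by
      intro x hx
      rw [Nat.mem_primeFactors] at hx
      rw [Finset.mem_insert, Finset.mem_union]
      rcases u3_cases D hx.1 hx.2.1 with h | h
      · exact Or.inr (Or.inl ((memA x).2 ⟨hx.1, h⟩))
      · rcases hx.1.dvd_mul.1 h with h | h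
        · exact Or.inl ((Nat.prime_dvd_prime_iff_eq hx.1 Nat.prime_two).1 h)
        · exact Or.inr (Or.inr ((memB x).2 ⟨hx.1, h⟩))
    refine (Finset.card_le_card hsub).trans ((Finset.card_insert_le _ _).trans ?_)
    have := Finset.card_union_le A B
    omega
  have hRB : Disjoint R B := Finset.disjoint_left.2 fun x hx hy => hAB x (hRA x hx) x hy rfl
  have hstar : 4 ≤ R.card + B.card → Kite S := fun h => by
    refine kite_of_star 2 (R ∪ B) (by rw [Finset.card_union_of_disjoint hRB]; exact h) ?_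
    intro x hx
    rcases Finset.mem_union.1 hx with hx | hx
    · exact aR x hx
    · exact aB x hx
  by_cases hR2 : 2 ≤ R.card
  · obtain ⟨r, hr, s, hs, hrs⟩ := Finset.one_lt_card.1 hR2
    by_cases hA3 : 3 ≤ A.card
    · obtain ⟨a, ha⟩ : ((A.erase r).erase s).Nonempty := by
        rw [← Finset.card_pos]
        have h1 := Finset.pred_card_le_card_erase (s := A) (a := r)
        have h2 := Finset.pred_card_le_card_erase (s := A.erase r) (a := s)
        omega
      rw [Finset.mem_erase, Finset.mem_erase] at ha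
      obtain ⟨has, har, haA⟩ := ha
      exact kite_of_edge (aA r (hRA r hr) s (hRA s hs) hrs) (aA r (hRA r hr) a haA har.symm)
        (aA s (hRA s hs) a haA has.symm) (adj_symm (aR r hr)) (adj_symm (aR s hs)) (hA2 a haA)
    · exact hstar (by omega)
  -- one prime in `q² - q + 1`
  have hR1 : ∀ x y : ℕ, x.Prime → y.Prime → x ∣ q ^ 2 - q + 1 → y ∣ q ^ 2 - q + 1 → x = y := by
    intro x y hx hy h1 h2
    by_contra hne
    exact hR2 (Finset.one_lt_card.2 ⟨x, (memR x).2 ⟨hx, h1⟩, y, (memR y).2 ⟨hy, h2⟩, hne⟩)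
  have hRpos : 1 ≤ R.card := by
    obtain ⟨r, hr, hrd, -, -⟩ := D.exists_r
    exact Finset.card_pos.2 ⟨r, (memR r).2 ⟨hr, hrd⟩⟩
  by_cases hB3 : 3 ≤ B.card
  · exact hstar (by omega)
  rcases Nat.even_or_odd k with ⟨j, hj⟩ | ⟨j, hj⟩
  · have hq1 : q - 1 = (2 ^ j + 1) * (2 ^ j - 1) := by
      rw [hk, hj, pow_add]
      have := Nat.sq_sub_sq (2 ^ j) 1
      rw [one_pow, sq] at this
      exact this
    rcases Nat.lt_or_ge j 2 with hj2 | hj2
    · exfalso
      have h4 : q = 4 := by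
        have : j = 0 ∨ j = 1 := by omega
        rcases this with rfl | rfl
        · rw [hk, hj] at hq
          norm_num at hq
        · rw [hk, hj]
          norm_num
      have e1 : A.card ≤ 2 := by
        have h6 : A ⊆ {5, 13} := by
          intro x hx
          rw [memA, h4] at hx
          have h7 : x ∣ 5 * 13 := hx.2
          rw [Finset.mem_insert, Finset.mem_singleton]
          rcases hx.1.dvd_mul.1 h7 with h8 | h8
          · exact Or.inl ((Nat.prime_dvd_prime_iff_eq hx.1 (by norm_num)).1 h8)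
          · exact Or.inr ((Nat.prime_dvd_prime_iff_eq hx.1 (by norm_num)).1 h8)
        exact (Finset.card_le_card h6).trans (by decide)
      have e2 : B.card ≤ 1 := by
        have h6 : B ⊆ {3} := by
          intro x hx
          rw [memB, h4] at hx
          have h7 : x ∣ 3 := hx.2
          rw [Finset.mem_singleton]
          exact (Nat.prime_dvd_prime_iff_eq hx.1 (by norm_num)).1 h7
        exact (Finset.card_le_card h6).trans (by decide)
      omega
    · have h6 : 4 ≤ 2 ^ j := by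
        calc 4 = 2 ^ 2 := by norm_num
          _ ≤ 2 ^ j := Nat.pow_le_pow_right (by norm_num) hj2
      have hev : 2 ∣ 2 ^ j := dvd_pow_self 2 (by omega)
      obtain ⟨s, hs, hsd⟩ := Nat.exists_prime_and_dvd (show 2 ^ j + 1 ≠ 1 by omega)
      obtain ⟨t, ht, htd⟩ := Nat.exists_prime_and_dvd (show 2 ^ j - 1 ≠ 1 by omega)
      have hcop : ∀ x y : ℕ, x.Prime → x ∣ 2 ^ j + 1 → y.Prime → y ∣ 2 ^ j - 1 → x ≠ y := by
        rintro x y hx h1 hy h2 rfl
        have h7 := Nat.dvd_sub h1 h2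
        have h8 : 2 ^ j + 1 - (2 ^ j - 1) = 2 := by (clear * - h6; omega)
        rw [h8] at h7
        have h9 := (Nat.prime_dvd_prime_iff_eq hx Nat.prime_two).1 h7
        rw [h9] at h1
        exact absurd ((Nat.dvd_add_right hev).1 h1) (by norm_num)
      have mB1 : ∀ x : ℕ, x.Prime → x ∣ 2 ^ j + 1 → x ∈ B := fun x hx h => by
        rw [memB, hq1]; exact ⟨hx, h.mul_right _⟩
      have mB2 : ∀ x : ℕ, x.Prime → x ∣ 2 ^ j - 1 → x ∈ B := fun x hx h => by
        rw [memB, hq1]; exact ⟨hx, h.mul_left _⟩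
      have hthree : ∀ x y z : ℕ, x ∈ B → y ∈ B → z ∈ B → x ≠ y → x ≠ z → y = z := by
        intro x y z hx hy hz hxy hxz
        by_contra hyz
        exact hB3 (Finset.two_lt_card.2 ⟨x, hx, y, hy, z, hz, hxy, hxz, hyz⟩)
      obtain ⟨i, hi⟩ := eq_pow_of_forall (N := 2 ^ j - 1) (x := t) (by omega) fun r hr hrd =>
        hthree s r t (mB1 s hs hsd) (mB2 r hr hrd) (mB2 t ht htd) (hcop s r hs hsd hr hrd) (hcop s t hs hsd ht htd)
      obtain ⟨i', hi'⟩ := eq_pow_of_forall (N := 2 ^ j + 1) (x := s) (by omega) fun r hr hrd =>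
        hthree t r s (mB2 t ht htd) (mB1 r hr hrd) (mB1 s hs hsd) (hcop r t hr hrd ht htd).symm
          (hcop s t hs hsd ht htd).symm
      rcases two_pow_cases hj2 ht hs hi hi' with rfl | rfl
      · exact h16 (by rw [hk, hj]; norm_num)
      · exfalso
        have hq64 : q = 64 := by rw [hk, hj]; norm_num
        have := hR1 37 109 (by norm_num) (by norm_num) (by rw [hq64]; norm_num) (by rw [hq64]; norm_num)
        omega
  · exfalso
    have h5 : q % 3 = 2 := by
      rw [hk, hj, pow_succ, pow_mul]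
      have : (2 ^ 2) ^ j % 3 = 1 := by
        rw [Nat.pow_mod]
        norm_num
      omega
    obtain ⟨c, hc⟩ : ∃ c, q = 3 * c + 2 := ⟨q / 3, by omega⟩
    have h6 : q ^ 2 - q + 1 = 3 * (3 * c ^ 2 + 3 * c + 1) := by
      rw [hc] at hle ⊢
      zify [hle]
      ring
    have hm1 : 3 * c ^ 2 + 3 * c + 1 ≠ 1 := by
      intro h7
      rw [h7] at h6
      (clear * - hq hc h7; omega)
    obtain ⟨r, hr, hrd⟩ := Nat.exists_prime_and_dvd hm1
    have h7 := hR1 3 r Nat.prime_three hr (by rw [h6]; exact dvd_mul_right _ _) (by rw [h6]; exact hrd.mul_left _)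
    rw [← h7] at hrd
    have h8 : 3 ∣ 3 * c ^ 2 + 3 * c := ⟨c ^ 2 + c, by ring⟩
    exact absurd ((Nat.dvd_add_right h8).1 hrd) (by norm_num)

end

/-- `q = 16` -/
theorem kite_u3_sixteen {F : Type*} [Field F] [Fintype F] (hF : Fintype.card F = 16 ^ 2) : Kite (PSU 3 F 16) := by
  obtain ⟨σ, hσ, hs, ⟨e'⟩⟩ := exists_iso hF
  obtain ⟨p, D⟩ := exists_DD hF (by norm_num) e'.symm
  have hp2 : p = 2 := (D.dvd_p Nat.prime_two (by norm_num)).symm
  subst hp2
  obtain ⟨χ, h15, h⟩ := sixteen (σ := σ) hF hs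
  have h3 : 3 ∣ charDegree (χ : S σ → ℂ) := Dvd.dvd.trans (by norm_num) h15
  have h5 : 5 ∣ charDegree (χ : S σ → ℂ) := Dvd.dvd.trans (by norm_num) h15
  have a35 : Adj 3 5 (S σ) := adj_of_dvd (φ := χ) (by norm_num) (by norm_num) (by norm_num) h3 h5
  have a32 : Adj 3 2 (S σ) := D.adjB (by norm_num) (by norm_num) (by norm_num) (by norm_num) (by norm_num)
  have a52 : Adj 5 2 (S σ) := D.adjB (by norm_num) (by norm_num) (by norm_num) (by norm_num) (by norm_num)
  refine Kite.congr e' ?_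
  rcases h with h | h
  · exact kite_of_edge a35 a32 a52 (adj_of_dvd (φ := χ) (by norm_num) (by norm_num) (by norm_num) h3 h)
      (adj_of_dvd (φ := χ) (by norm_num) (by norm_num) (by norm_num) h5 h) (by norm_num)
  · exact kite_of_edge a35 a32 a52 (adj_of_dvd (φ := χ) (by norm_num) (by norm_num) (by norm_num) h3 h)
      (adj_of_dvd (φ := χ) (by norm_num) (by norm_num) (by norm_num) h5 h) (by norm_num)

/-- **`PSU(3,q)`.** -/
theorem kite_u3 {S : Type u} [Group S] [Finite S] (h : H113.PSU.Main.IsU3 S)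
    (h5 : 5 ≤ (Nat.card S).primeFactors.card) : Kite S := by
  obtain ⟨F, _, _, q, hF, hq2, ⟨e⟩⟩ := h
  have hq : 3 ≤ q := by
    by_contra hcon
    have h1 : 1 < Fintype.card F := Fintype.one_lt_card
    rw [hF] at h1
    have : q = 0 ∨ q = 1 := by omega
    rcases this with rfl | rfl <;> simp at h1
  obtain ⟨p, D⟩ := exists_DD hF hq e
  rcases Nat.even_or_odd q with ho | ho
  · refine kite_u3_even D ho h5 ?_
    rintro rfl
    exact Kite.congr e (kite_u3_sixteen hF)
  · exact kite_u3_odd D ho h5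

end Cfsg.Agent.H40.KiteG
end

-- part: H40/Kite/Classical
section
/-!
# Kites in the degree graphs of the symplectic and orthogonal groups (S4919, helper40)
-/

set_option autoImplicit false
set_option linter.unusedSectionVars false

namespace Cfsg.Agent.H40.KiteG

open Cfsg Cfsg.Agent.H671.H5 Cfsg.Agent.H670.Reg Cfsg.Agent.H477.HC

universe u

theorem kite_of_Np {S : Type u} [Group S] {p : ℕ} (h5 : 5 ≤ (Nat.card S).primeFactors.card) (h : Np p S) : Kite S :=
  kite_of_np (r := p) h5 fun _ _ ha hb hap hbp hab h1 h2 => h _ _ ha hb hap hbp hab h1 h2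

/-- `PSp_6(3)` -/
theorem kite_sp63 {K : Type} [Field K] [Fintype K] (hK : Fintype.card K = 3) : Kite (PSp 3 K) := by
  obtain ⟨h195, h168⟩ := rsp63 K hK
  refine kite_of_star 3 {2, 5, 7, 13} (by decide) ?_
  intro x hx
  simp only [Finset.mem_insert, Finset.mem_singleton] at hx
  rcases hx with rfl | rfl | rfl | rfl
  · exact adj_of_ch h168 (by norm_num) (by norm_num) (by norm_num) (by norm_num) (by norm_num)
  · exact adj_of_ch h195 (by norm_num) (by norm_num) (by norm_num) (by norm_num) (by norm_num)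
  · exact adj_of_ch h168 (by norm_num) (by norm_num) (by norm_num) (by norm_num) (by norm_num)
  · exact adj_of_ch h195 (by norm_num) (by norm_num) (by norm_num) (by norm_num) (by norm_num)

/-- **`PSp_{2m}(q)`** -/
theorem kite_psp {S : Type u} [Group S] (h : IsPSp S) (h5 : 5 ≤ (Nat.card S).primeFactors.card) : Kite S := by
  obtain ⟨F, _, _, m, hm, h3, ⟨e⟩⟩ := h
  obtain ⟨p, hp⟩ := CharP.exists F
  have hpr : p.Prime := (CharP.char_is_prime_or_zero F p).resolve_right (CharP.char_ne_zero_of_finite F p)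
  have : Fact p.Prime := ⟨hpr⟩
  refine Kite.congr e ?_
  by_cases c63 : m = 3 ∧ Fintype.card F = 3
  · obtain ⟨rfl, hF⟩ := c63
    exact kite_sp63 hF
  rw [Nat.card_congr e.toEquiv] at h5
  exact kite_of_Np h5 (sp_np (K := F) (p := p) hm h3 tsp62 c63)

/-- **`PΩ_{2m+1}(q)`** -/
theorem kite_omega_odd {S : Type u} [Group S] (h : IsPOmegaOdd S) (h5 : 5 ≤ (Nat.card S).primeFactors.card) :
    Kite S := by
  obtain ⟨F, _, _, m, hm, ho, ⟨e⟩⟩ := h
  obtain ⟨p, hp⟩ := CharP.exists F
  have hpr : p.Prime := (CharP.char_is_prime_or_zero F p).resolve_right (CharP.char_ne_zero_of_finite F p)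
  have : Fact p.Prime := ⟨hpr⟩
  have ho' : Odd (Nat.card F) := by rwa [Nat.card_eq_fintype_card]
  rw [Nat.card_congr e.toEquiv] at h5
  exact Kite.congr e (kite_of_Np (p := p) h5 fun r s hr hs hrp hsp hrs hd hd' =>
    np_odd F (p := p) ho' hm hr hs hrp hsp hrs hd hd')

/-- **`PΩ⁺_{2m}(q)`** -/
theorem kite_omega_plus {S : Type u} [Group S] (h : IsPOmegaPlus S) (h5 : 5 ≤ (Nat.card S).primeFactors.card) :
    Kite S := by
  obtain ⟨F, _, _, m, hm, ⟨e⟩⟩ := h
  obtain ⟨p, hp⟩ := CharP.exists F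
  have hpr : p.Prime := (CharP.char_is_prime_or_zero F p).resolve_right (CharP.char_ne_zero_of_finite F p)
  have : Fact p.Prime := ⟨hpr⟩
  rw [Nat.card_congr e.toEquiv] at h5
  exact Kite.congr e (kite_of_Np (p := p) h5 fun r s hr hs hrp hsp hrs hd hd' =>
    np_plus F (p := p) hm hr hs hrp hsp hrs hd hd')

/-- an odd prime divisor of `q ^ (2 k) + 1` -/
theorem exists_odd_prime {q k : ℕ} (hq : 2 ≤ q) (hk : 0 < k) : ∃ r, r.Prime ∧ r ≠ 2 ∧ r ∣ q ^ (2 * k) + 1 := by
  by_contra hcon
  push Not at hcon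
  have hle : q ^ 2 ≤ q ^ (2 * k) := Nat.pow_le_pow_right (by omega) (by omega)
  have h4 : 4 ≤ q ^ 2 := by nlinarith only [hq]
  have h1 : q ^ (2 * k) + 1 = 2 ^ (q ^ (2 * k) + 1).primeFactorsList.length :=
    Nat.eq_prime_pow_of_unique_prime_dvd (by omega) fun {d} hd hdN => by
      by_contra hne
      exact hcon d hd hne hdN
  generalize (q ^ (2 * k) + 1).primeFactorsList.length = n at h1
  rcases Nat.lt_or_ge n 2 with hn | hn
  · interval_cases n <;> omega
  · obtain ⟨c, rfl⟩ := Nat.exists_eq_add_of_le hn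
    have h2 : (q ^ k) ^ 2 + 1 = 4 * 2 ^ c := by
      rw [← pow_mul, mul_comm k 2, h1, pow_add]
      norm_num
    generalize q ^ k = x at h2
    rcases Nat.even_or_odd' x with ⟨y, rfl | rfl⟩
    · have : (2 * y) ^ 2 = 4 * y ^ 2 := by ring
      omega
    · have : (2 * y + 1) ^ 2 = 4 * (y ^ 2 + y) + 1 := by ring
      omega

/-- four primes, `q ≥ 3` -/
theorem exists_four {q : ℕ} (hq : 3 ≤ q) : ∃ a b c d : ℕ, a.Prime ∧ b.Prime ∧ c.Prime ∧ d.Prime ∧ a ≠ b ∧ a ≠ c ∧
    a ≠ d ∧ b ≠ c ∧ b ≠ d ∧ c ≠ d ∧ a ∣ q - 1 ∧ b ∣ q ^ 2 + 1 ∧ c ∣ q ^ 4 + 1 ∧ d ∣ q ^ 2 - q + 1 := by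
  have hsq : q ^ 2 = q * q := sq q
  have hmul : 3 * q ≤ q * q := Nat.mul_le_mul_right _ hq
  obtain ⟨a, ha, had⟩ := Nat.exists_prime_and_dvd (n := q - 1) (by omega)
  obtain ⟨b, hb, hb2, hbd⟩ := exists_odd_prime (q := q) (k := 1) (by omega) one_pos
  obtain ⟨c, hc, hc2, hcd⟩ := exists_odd_prime (q := q) (k := 2) (by omega) two_pos
  obtain ⟨d, hd, hdd⟩ := Nat.exists_prime_and_dvd (n := q ^ 2 - q + 1) (by omega)
  have hz : ∀ {x : ℕ}, x.Prime → (2 : ZMod x) = 0 → x = 2 := fun {x} hx h => by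
    have h3 : ((2 : ℕ) : ZMod x) = 0 := by exact_mod_cast h
    exact (Nat.prime_dvd_prime_iff_eq hx Nat.prime_two).1 ((ZMod.natCast_eq_zero_iff _ _).1 h3)
  have za : ((q - 1 : ℕ) : ZMod a) = 0 := (ZMod.natCast_eq_zero_iff _ _).2 had
  rw [Nat.cast_sub (by omega), Nat.cast_one] at za
  have zb : ((q ^ (2 * 1) + 1 : ℕ) : ZMod b) = 0 := (ZMod.natCast_eq_zero_iff _ _).2 hbd
  have zc : ((q ^ (2 * 2) + 1 : ℕ) : ZMod c) = 0 := (ZMod.natCast_eq_zero_iff _ _).2 hcd
  have zd : ((q ^ 2 - q + 1 : ℕ) : ZMod d) = 0 := (ZMod.natCast_eq_zero_iff _ _).2 hdd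
  rw [Nat.cast_add, Nat.cast_sub (by omega)] at zd
  push_cast at zb zc zd
  refine ⟨a, b, c, d, ha, hb, hc, hd, ?_, ?_, ?_, ?_, ?_, ?_, had, hbd, hcd, hdd⟩
  · rintro rfl
    apply hb2
    apply hz ha
    linear_combination zb - ((q : ZMod a) + 1) * za
  · rintro rfl
    apply hc2
    apply hz ha
    linear_combination zc - ((q : ZMod a) ^ 3 + (q : ZMod a) ^ 2 + q + 1) * za
  · rintro rfl
    have : Fact a.Prime := ⟨ha⟩
    have h1 : (1 : ZMod a) = 0 := by linear_combination zd - (q : ZMod a) * za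
    exact one_ne_zero h1
  · rintro rfl
    apply hc2
    apply hz hb
    linear_combination zc - ((q : ZMod b) ^ 2 - 1) * zb
  · rintro rfl
    have : Fact b.Prime := ⟨hb⟩
    have h0 : (q : ZMod b) = 0 := by linear_combination zb - zd
    rw [h0] at zb
    simp at zb
  · rintro rfl
    have : Fact c.Prime := ⟨hc⟩
    have h3 : (q : ZMod c) ^ 3 = -1 := by linear_combination ((q : ZMod c) + 1) * zd
    have h1 : (q : ZMod c) = 1 := by linear_combination -zc + (q : ZMod c) * h3
    rw [h1] at zd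
    simp at zd

/-- `PΩ₈⁻(q)` -/
theorem kite_minus3 {K : Type} [Field K] [Fintype K] (a b : K)
    (hab : ∀ z₁ z₂ : K, z₁ ^ 2 + a * z₁ * z₂ + b * z₂ ^ 2 = 0 → z₁ = 0 ∧ z₂ = 0) :
    Kite (POmega K (quadFormMinus 3 K a b)) := by
  obtain ⟨p, hp⟩ := CharP.exists K
  have hpr : p.Prime := (CharP.char_is_prime_or_zero K p).resolve_right (CharP.char_ne_zero_of_finite K p)
  have : Fact p.Prime := ⟨hpr⟩
  have hq2 : 2 ≤ Nat.card K := Finite.one_lt_card
  have hpK : p ∣ Nat.card K := char_dvd_card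
  obtain ⟨f, -, hf⟩ := FiniteField.card K p
  obtain ⟨d₁, e0, e1, -⟩ := minus_ch_top K (p := p) a b hab (l := 3) le_rfl
  by_cases hq3 : 3 ≤ Nat.card K
  · obtain ⟨x, y, z, t, hx, hy, hz, ht, hxy, hxz, hxt, hyz, hyt, hzt, dx, dy, dz, dt⟩ := exists_four hq3
    have hne : ∀ {w m : ℕ}, w.Prime → w ∣ m * Nat.card K + 1 → w ≠ p := by
      rintro w m hw h rfl
      exact hw.one_lt.ne' (Nat.dvd_one.1 ((Nat.dvd_add_right (hpK.mul_left m)).1 h))
    have nx : x ≠ p := by
      rintro rfl
      have h1 := Nat.dvd_sub hpK dx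
      have h2 : Nat.card K - (Nat.card K - 1) = 1 := by omega
      rw [h2] at h1
      exact hx.one_lt.ne' (Nat.dvd_one.1 h1)
    have ny : y ≠ p := hne (m := Nat.card K) hy (by rw [← sq]; exact dy)
    have nz : z ≠ p := hne (m := Nat.card K ^ 3) hz (by rw [← pow_succ]; exact dz)
    have nt : t ≠ p := by
      refine hne (m := Nat.card K - 1) ht ?_
      have : Nat.card K ^ 2 - Nat.card K = (Nat.card K - 1) * Nat.card K := by
        rw [sq, Nat.sub_mul, one_mul]
      rwa [← this]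
    have m1 : x ∣ M1 (Nat.card K) 3 := by
      unfold M1
      exact Dvd.dvd.mul_right (Dvd.dvd.mul_right (Dvd.dvd.mul_left dx _) _) _
    have m2 : y ∣ M1 (Nat.card K) 3 := by
      unfold M1
      refine Dvd.dvd.mul_left (Dvd.dvd.trans dy ?_) _
      have h1 : Finset.Ico 1 (3 - 1) = {1} := by decide
      rw [h1, Finset.prod_singleton]
      have h2 : Nat.card K ^ (2 * (1 + 1)) - 1 = (Nat.card K ^ 2 + 1) * (Nat.card K ^ 2 - 1) := by
        have := Nat.sq_sub_sq (Nat.card K ^ 2) 1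
        rw [← pow_mul] at this
        simpa only [_root_.Nat.card_eq_fintype_card, _root_.Nat.reduceAdd, _root_.Nat.reduceMul, _root_.one_pow] using this
      rw [h2]
      exact dvd_mul_right _ _
    have m3 : z ∣ M1 (Nat.card K) 3 := by
      unfold M1
      exact Dvd.dvd.mul_right (Dvd.dvd.mul_right (Dvd.dvd.mul_right dz _) _) _
    have m4 : t ∣ M1 (Nat.card K) 3 := by
      unfold M1
      have h1 : Nat.card K ^ 3 + 1 = (Nat.card K + 1) * (Nat.card K ^ 2 - Nat.card K + 1) := by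
        have : Nat.card K ≤ Nat.card K ^ 2 := Nat.le_self_pow two_ne_zero _
        zify [this]
        ring
      rw [h1]
      exact Dvd.dvd.mul_right (Dvd.dvd.mul_left (Dvd.dvd.mul_left dt _) _) _
    obtain ⟨χ, hχ⟩ := e0.exists_irr
    exact kite_of_primes χ hx hy hz ht hxy hxz hxt hyz hyt hzt (by rw [hχ]; exact e1 x hx nx m1)
      (by rw [hχ]; exact e1 y hy ny m2) (by rw [hχ]; exact e1 z hz nz m3) (by rw [hχ]; exact e1 t ht nt m4)
  · have hq : Nat.card K = 2 := by omega
    rw [hq] at hpK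
    have hp2 : p = 2 := (Nat.prime_dvd_prime_iff_eq hpr Nat.prime_two).1 hpK
    subst hp2
    obtain ⟨d₀, c0, c1, c2⟩ := ro8m K a b hab
    rw [← Nat.card_eq_fintype_card, hq] at c1 c2
    rw [hq] at e1
    have m3 : 3 ∣ d₁ := e1 3 (by norm_num) (by norm_num) (by decide +kernel)
    have m5 : 5 ∣ d₁ := e1 5 (by norm_num) (by norm_num) (by decide +kernel)
    have m17 : 17 ∣ d₁ := e1 17 (by norm_num) (by norm_num) (by decide +kernel)
    have n2 : 2 ∣ d₀ := c1 2 (by norm_num) dvd_rfl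
    have n3 : 3 ∣ d₀ := c2 3 (by norm_num) (by norm_num)
    have n7 : 7 ∣ d₀ := c2 7 (by norm_num) (by norm_num)
    refine kite_of_star 3 {2, 7, 5, 17} (by decide) ?_
    intro x hx
    simp only [Finset.mem_insert, Finset.mem_singleton] at hx
    rcases hx with rfl | rfl | rfl | rfl
    · exact adj_of_ch c0 (by norm_num) (by norm_num) (by norm_num) n3 n2
    · exact adj_of_ch c0 (by norm_num) (by norm_num) (by norm_num) n3 n7
    · exact adj_of_ch e0 (by norm_num) (by norm_num) (by norm_num) m3 m5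
    · exact adj_of_ch e0 (by norm_num) (by norm_num) (by norm_num) m3 m17

/-- **`PΩ⁻_{2m}(q)`** -/
theorem kite_omega_minus {S : Type u} [Group S] (h : IsPOmegaMinus S) (h5 : 5 ≤ (Nat.card S).primeFactors.card) :
    Kite S := by
  obtain ⟨F, _, _, m, a, b, hm, hab, ⟨e⟩⟩ := h
  obtain ⟨l, rfl⟩ : ∃ l, m = l + 1 := ⟨m - 1, by omega⟩
  change S ≃* POmega F (quadFormMinus l F a b) at e
  refine Kite.congr e ?_
  by_cases hl3 : l = 3
  · subst hl3
    exact kite_minus3 a b hab
  obtain ⟨p, hp⟩ := CharP.exists F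
  have hpr : p.Prime := (CharP.char_is_prime_or_zero F p).resolve_right (CharP.char_ne_zero_of_finite F p)
  have : Fact p.Prime := ⟨hpr⟩
  rw [Nat.card_congr e.toEquiv] at h5
  exact kite_of_Np (p := p) h5 fun r s hr hs hrp hsp hrs hd hd' =>
    (np_minus F (p := p) a b hab (by omega) hr hs hrp hsp hrs hd hd' (fun h => absurd h hl3)).resolve_right
      fun h => hl3 h.1

end Cfsg.Agent.H40.KiteG
end

-- part: H40/Kite/Rows
section
/-!
# Kites in degree graphs: alternating groups, exceptional groups, `Sz(q)`, `Ree(q)` (S4919, helper40)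
-/

set_option autoImplicit false
set_option linter.unusedSectionVars false

namespace Cfsg.Agent.H40.KiteG

open Cfsg Cfsg.Agent.H671.H5 Cfsg.Agent.H670.Reg Cfsg.Agent.H53.HC

universe u

/-- alternating groups -/
theorem kite_alt {S : Type u} [Group S] (h : IsAlternating S) (h5 : 5 ≤ (Nat.card S).primeFactors.card) : Kite S := by
  obtain ⟨n, hn, ⟨e⟩⟩ := h
  rw [Nat.card_congr e.toEquiv] at h5
  refine Kite.congr e ?_
  by_cases h9 : 9 ≤ n
  · have key : ∀ p q : ℕ, p.Prime → q.Prime → p < 11 → q < 11 → p ≠ q → Adj p q (alternatingGroup (Fin n)) :=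
      fun p q hp hq h1 h2 h3 => H600.AltDeg.adj_small h9 hp hq h1 h2 h3
    exact kite_of_four (key 2 3 (by norm_num) (by norm_num) (by norm_num) (by norm_num) (by norm_num))
      (key 2 5 (by norm_num) (by norm_num) (by norm_num) (by norm_num) (by norm_num))
      (key 2 7 (by norm_num) (by norm_num) (by norm_num) (by norm_num) (by norm_num))
      (key 3 5 (by norm_num) (by norm_num) (by norm_num) (by norm_num) (by norm_num))
      (key 3 7 (by norm_num) (by norm_num) (by norm_num) (by norm_num) (by norm_num)) (by norm_num)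
  · exfalso
    have hsub : (Nat.card (alternatingGroup (Fin n))).primeFactors ⊆ {2, 3, 5, 7} := by
      intro x hx
      rw [Nat.mem_primeFactors] at hx
      have h1 := H600.AltDeg.le_of_dvd_card hx.1 hx.2.1
      have h2 := H600.AltDeg.small_prime hx.1 (by omega)
      simpa using h2
    have := (Finset.card_le_card hsub).trans (show ({2, 3, 5, 7} : Finset ℕ).card ≤ 4 by decide)
    omega

/-- from a row of helper53 -/
theorem kite_of_row {S : Type u} [Group S] [Finite S] (h5 : 5 ≤ (Nat.card S).primeFactors.card) (h : ExcIM.Row S) :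
    Kite S := by
  obtain ⟨r, f, q, -, -, -, hB⟩ := h.bigF
  exact kite_of_big h5 hB.big

theorem kite_suz {S : Type u} [Group S] (h : Lie.IsoSuzuki S) (h5 : 5 ≤ (Nat.card S).primeFactors.card) : Kite S := by
  obtain ⟨m, -, hc, -, hadj⟩ := H732.DegSz.graph h
  refine kite_of_np (r := 2) h5 fun a b ha hb ha2 hb2 hab h1 h2 => (hadj a b).2 ⟨hab, ha, hb, Or.inl ⟨?_, ?_⟩⟩
  · rw [hc, mul_assoc] at h1
    rcases ha.dvd_mul.1 h1 with h3 | h3
    · exact absurd ((Nat.prime_dvd_prime_iff_eq ha Nat.prime_two).1 (ha.dvd_of_dvd_pow (ha.dvd_of_dvd_pow h3))) ha2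
    · exact h3
  · rw [hc, mul_assoc] at h2
    rcases hb.dvd_mul.1 h2 with h3 | h3
    · exact absurd ((Nat.prime_dvd_prime_iff_eq hb Nat.prime_two).1 (hb.dvd_of_dvd_pow (hb.dvd_of_dvd_pow h3))) hb2
    · exact h3

/-- an odd prime dividing `q + 1` -/
theorem ree_odd_prime {q : ℕ} (h8 : q % 8 = 3) (h3 : q ≠ 3) : ∃ t, t.Prime ∧ t ≠ 2 ∧ t ∣ q + 1 := by
  obtain ⟨t, ht, htd⟩ := Nat.exists_prime_and_dvd (n := (q + 1) / 4) (by omega)
  refine ⟨t, ht, ?_, htd.trans ⟨4, by omega⟩⟩
  rintro rfl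
  omega

theorem kite_ree {S : Type u} [Group S] (h : Lie.IsoRee S) : Kite S := by
  obtain ⟨m, hm, F, hc⟩ := H732.DegRee.facts_of_iso h
  have ar := LieRecognition.ReeClass.arith m
  have hle : 3 ^ (m + 1) + 1 ≤ 3 ^ (2 * m + 1) := Nat.pow_lt_pow_right (by norm_num) (by omega)
  have hab : (3 ^ (2 * m + 1) - 3 ^ (m + 1) + 1) * (3 ^ (2 * m + 1) + 3 ^ (m + 1) + 1) =
      (3 ^ (2 * m + 1)) ^ 2 - 3 ^ (2 * m + 1) + 1 := by
    have hr : (3 ^ (m + 1)) ^ 2 = 3 * 3 ^ (2 * m + 1) := by ring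
    obtain ⟨c, hc⟩ := Nat.exists_eq_add_of_le (Nat.le_of_succ_le hle)
    have hQ := ar.Q_eq
    set q := 3 ^ (2 * m + 1) with hq
    set r := 3 ^ (m + 1) with hrr
    have e1 : q - r + 1 = c + 1 := by omega
    rw [e1]
    have e2 : (c + 1) * (q + r + 1) + q = q ^ 2 + 1 := by
      rw [hc]
      have h3 : r ^ 2 = 3 * (r + c) := by rw [hr, hc]
      linarith only [hr, hc]
    omega
  have hpos : 0 < 3 ^ (m + 1) := by positivity
  have h27 : 3 ^ (2 * m + 1) ≠ 3 := by
    have : 3 ^ 2 ≤ 3 ^ (2 * m + 1) := Nat.pow_le_pow_right (by norm_num) (by omega)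
    omega
  obtain ⟨t, ht, ht2, htd⟩ := ree_odd_prime ar.q8 h27
  obtain ⟨r, hr, hrd⟩ := Nat.exists_prime_and_dvd (n := 3 ^ (2 * m + 1) - 3 ^ (m + 1) + 1) (by omega)
  obtain ⟨s, hs, hsd⟩ := Nat.exists_prime_and_dvd (n := 3 ^ (2 * m + 1) + 3 ^ (m + 1) + 1) (by omega)
  have hrQ : r ∣ (3 ^ (2 * m + 1)) ^ 2 - 3 ^ (2 * m + 1) + 1 := by rw [← hab]; exact hrd.mul_right _
  have hsQ : s ∣ (3 ^ (2 * m + 1)) ^ 2 - 3 ^ (2 * m + 1) + 1 := by rw [← hab]; exact hsd.mul_left _
  obtain ⟨r2, r3, -, -, r1⟩ := ar.prime_Q hr hrQ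
  obtain ⟨s2, s3, -, -, s1⟩ := ar.prime_Q hs hsQ
  have hrs : r ≠ s := by
    rintro rfl
    have h3 := Nat.dvd_sub hsd hrd
    have h4 : 3 ^ (2 * m + 1) + 3 ^ (m + 1) + 1 - (3 ^ (2 * m + 1) - 3 ^ (m + 1) + 1) = 2 * 3 ^ (m + 1) := by (clear * - hle; omega)
    rw [h4] at h3
    rcases (Nat.Prime.dvd_mul hr).1 h3 with h5 | h5
    · exact r2 ((Nat.prime_dvd_prime_iff_eq hr Nat.prime_two).1 h5)
    · exact r3 ((Nat.prime_dvd_prime_iff_eq hr Nat.prime_three).1 (hr.dvd_of_dvd_pow h5))
  have d2 : 2 ∣ (3 ^ (2 * m + 1)) ^ 3 + 1 := by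
    rw [ar.cube]
    refine Dvd.dvd.mul_right ?_ _
    have := ar.q8
    omega
  have dt : t ∣ (3 ^ (2 * m + 1)) ^ 3 + 1 := by rw [ar.cube]; exact htd.mul_right _
  have dr : r ∣ (3 ^ (2 * m + 1)) ^ 3 + 1 := by rw [ar.cube]; exact hrQ.mul_left _
  have ds : s ∣ (3 ^ (2 * m + 1)) ^ 3 + 1 := by rw [ar.cube]; exact hsQ.mul_left _
  have htr : t ≠ r := by rintro rfl; exact r1 htd
  have hts : t ≠ s := by rintro rfl; exact s1 htd
  exact kite_of_four (H732.DegRee.adj_one F Nat.prime_two ht ht2.symm d2 dt)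
    (H732.DegRee.adj_one F Nat.prime_two hr r2.symm d2 dr) (H732.DegRee.adj_one F Nat.prime_two hs s2.symm d2 ds)
    (H732.DegRee.adj_one F ht hr htr dt dr) (H732.DegRee.adj_one F ht hs hts dt ds) hrs

/-- the Tits group has only four primes -/
theorem not_five_tits {S : Type u} [Group S] (h : Lie.IsoTits S) : ¬ 5 ≤ (Nat.card S).primeFactors.card := by
  intro h5
  obtain ⟨e⟩ := h
  rw [Nat.card_congr e.toEquiv, S1074.result.2.2.2] at h5
  have hsub : (2 ^ 11 * 3 ^ 3 * 5 ^ 2 * 13).primeFactors ⊆ {2, 3, 5, 13} := by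
    intro x hx
    rw [Nat.mem_primeFactors] at hx
    obtain ⟨px, hx, -⟩ := hx
    simp only [Finset.mem_insert, Finset.mem_singleton]
    rcases px.dvd_mul.1 hx with h1 | h1
    · rcases px.dvd_mul.1 h1 with h1 | h1
      · rcases px.dvd_mul.1 h1 with h1 | h1
        · exact Or.inl ((Nat.prime_dvd_prime_iff_eq px (by norm_num)).1 (px.dvd_of_dvd_pow h1))
        · exact Or.inr (Or.inl ((Nat.prime_dvd_prime_iff_eq px (by norm_num)).1 (px.dvd_of_dvd_pow h1)))
      · exact Or.inr (Or.inr (Or.inl ((Nat.prime_dvd_prime_iff_eq px (by norm_num)).1 (px.dvd_of_dvd_pow h1))))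
    · exact Or.inr (Or.inr (Or.inr ((Nat.prime_dvd_prime_iff_eq px (by norm_num)).1 h1)))
  have := (Finset.card_le_card hsub).trans (show ({2, 3, 5, 13} : Finset ℕ).card ≤ 4 by decide)
  omega

/-- **Exceptional groups.** -/
theorem kite_exc {S : Type u} [Group S] [Finite S] [hs : IsSimpleGroup S] (h5 : 5 ≤ (Nat.card S).primeFactors.card)
    (h : IsExceptionalLieType S) : Kite S := by
  rcases h with h | h | h | h | h | h | h | h | h | h | h
  · obtain ⟨r, -, -, hB⟩ := H115.HC.Rows.big_G2 S h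
    exact kite_of_big h5 hB
  · exact kite_of_row h5 (ExcIM.row_F4 h hs)
  · exact kite_of_row h5 (ExcIM.row_E6 h hs)
  · exact kite_of_row h5 (ExcIM.row_E7 h hs)
  · exact kite_of_row h5 (ExcIM.row_E8 h hs)
  · exact kite_of_row h5 (ExcIM.row_TwE6 h hs)
  · obtain ⟨r, -, -, hB⟩ := H115.HC.Rows.big_3D4 S h
    exact kite_of_big h5 hB
  · exact kite_suz h h5
  · exact kite_ree h
  · exact kite_of_big h5 (H42.Deg.F4.big2 h)
  · exact absurd h5 (not_five_tits h)

end Cfsg.Agent.H40.KiteG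
end

-- part: H40/Kite/Big
section
/-!
# `FactKiteBig` (S4919, helper40, task KBIG)

`kite_nonsporadic` : a nonsporadic nonabelian simple group, not a `PSL(2,F)`, with at least five prime divisors;
`kiteBig` : `FactKiteBig` from the classification and the sporadic rows.
-/

set_option autoImplicit false

namespace Cfsg.Agent.H40.KiteG

open Cfsg Cfsg.Agent.H671.H5 Cfsg.Agent.H670.Reg

universe u v

theorem kite_psu {S : Type u} [Group S] [Finite S] (h : IsPSU S) (h5 : 5 ≤ (Nat.card S).primeFactors.card) :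
    Kite S := by
  rcases H113.PSU.Main.shape h with h | h
  · exact kite_u3 h h5
  · exact kite_psu_un h h5

/-- Every finite simple group is known. -/
def KnownAll : Prop := ∀ (X : Type u) [Group X] [Finite X] [IsSimpleGroup X], IsKnownSimple' X

/-- **The nonsporadic groups.** -/
theorem kite_or_sporadic {S : Type u} [Group S] [Finite S] [hs : IsSimpleGroup S] (hk : IsKnownSimple' S)
    (hna : ¬ IsMulCommutative S) (hL : ¬ IsL2 S) (h5 : 5 ≤ (Nat.card S).primeFactors.card) :
    Kite S ∨ IsSporadicGroup S := by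
  rcases hk with h | h | h | h | h | h | h | h | h | h
  · exfalso
    apply hna
    have : Fact (Nat.card S).Prime := ⟨h⟩
    have h1 : IsCyclic S := isCyclic_of_prime_card rfl
    exact ⟨⟨fun a b => (IsCyclic.commGroup (α := S)).mul_comm a b⟩⟩
  · exact Or.inl (kite_alt h h5)
  · exact Or.inl (kite_psl hL h h5)
  · exact Or.inl (kite_psp h h5)
  · exact Or.inl (kite_psu h h5)
  · exact Or.inl (kite_omega_odd h h5)
  · exact Or.inl (kite_omega_plus h h5)
  · exact Or.inl (kite_omega_minus h h5)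
  · exact Or.inl (kite_exc h5 h)
  · exact Or.inr h

/-- **`FactKiteBig`.** -/
theorem kiteBig (hK : KnownAll.{v})
    (hs : ∀ (S : Type v) [Group S] [Finite S] [IsSimpleGroup S], IsSporadicGroup S →
      5 ≤ (Nat.card S).primeFactors.card → (Nat.card S).primeFactors.card ≤ 6 → Kite S) : FactKiteBig.{v} := by
  intro S _ _ _ hna hL h5 h6
  rcases kite_or_sporadic (hK S) hna hL h5 with h | h
  · exact h
  · exact hs S h h5 h6

end Cfsg.Agent.H40.KiteG
end

private theorem dce_c4ff6048a2f8 : _root_.True := by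
  try have : _root_.True := by simp only [_root_.Cfsg.Agent.H730.Hit.can.eq_def]
  try have : _root_.True := by simp only [_root_.Cfsg.Agent.H730.Hit.can.eq_1]
  try have : _root_.True := by simp only [_root_.Cfsg.Agent.H730.Hit.can.eq_2]
  exact _root_.True.intro
end

-- part: H670/Reg/Four
section
prune_inst 0x94704d704722120000008012d2002234300000001020000048a0000008084322800229000c801108106222800005006002000060400000000a0004000005012090b8400033400104a6001f801084010000000000000000000000000000000000004010000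
set_option linter.all false
open scoped Cfsg.Agent.FastGrp

-- part: H128/KitePsl
section
/-!
# S4919, KFOUR-A: `Kite` for `PSL₃(q)`, `q = 5, 7, 8, 17`, and `PSL₄(3)` (helper128, task 2898)
-/

set_option autoImplicit false
set_option linter.unusedSectionVars false

namespace Cfsg.Agent.H128.KitePsl

open Cfsg Matrix
open Cfsg.Agent.H671.H5 Cfsg.Agent.H670.Reg Cfsg.Agent.H113.PSL Cfsg.Agent.H113.PSL.Facts
open Cfsg.Agent.H113.PSL.Degrees Cfsg.Agent.H113.PSL.Three

universe u v w

theorem kite_congr {S : Type u} {T : Type v} [Group S] [Group T] (e : S ≃* T) (h : Kite T) : Kite S := by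
  have h1 : ∀ a b, Adj a b S ↔ Adj a b T := fun a b => by
    unfold Adj
    rw [Cfsg.Agent.H424.DegTools.degreeGraph_congr e]
  unfold Kite at h ⊢
  simp only [h1]
  exact h

variable {F : Type u} [Field F] [Fintype F]

/-- the kite from two characters sharing the primes `a`, `b` -/
theorem kite_of {S : Type v} [Group S] {a b c d : ℕ} (ha : a.Prime) (hb : b.Prime) (hc : c.Prime) (hd : d.Prime)
    (hab : a ≠ b) (hac : a ≠ c) (hbc : b ≠ c) (had : a ≠ d) (hbd : b ≠ d) (hcd : c ≠ d) {φ ψ₁ ψ₂ ψ₃ ψ₄ : IrrCharacter S}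
    (h1 : a * b ∣ charDegree (φ : S → ℂ)) (h2 : a * c ∣ charDegree (ψ₁ : S → ℂ)) (h3 : b * c ∣ charDegree (ψ₂ : S → ℂ))
    (h4 : a * d ∣ charDegree (ψ₃ : S → ℂ)) (h5 : b * d ∣ charDegree (ψ₄ : S → ℂ)) : Kite S :=
  Or.inl ⟨a, b, c, d, hcd,
    adj_of ha hb hab (dvd_of_mul_right_dvd h1) (dvd_of_mul_left_dvd h1),
    adj_of ha hc hac (dvd_of_mul_right_dvd h2) (dvd_of_mul_left_dvd h2),
    adj_of hb hc hbc (dvd_of_mul_right_dvd h3) (dvd_of_mul_left_dvd h3),
    adj_of ha hd had (dvd_of_mul_right_dvd h4) (dvd_of_mul_left_dvd h4),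
    adj_of hb hd hbd (dvd_of_mul_right_dvd h5) (dvd_of_mul_left_dvd h5)⟩

theorem kite_five (h : Fintype.card F = 5) : Kite (ProjectiveSpecialLinearGroup (Fin 3) F) := by
  classical
  obtain ⟨φ, t, ht, hφ⟩ := exists_ps (F := F) (by omega)
  obtain ⟨ψ, hψ⟩ := t3 (F := F) (n := 3) (by norm_num)
  rw [h] at ht hφ hψ
  norm_num at ht
  subst ht
  have h1 : charDegree (φ : ProjectiveSpecialLinearGroup (Fin 3) F → ℂ) = 186 := by omega
  have h2 : charDegree (ψ : ProjectiveSpecialLinearGroup (Fin 3) F → ℂ) = 30 := by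
    rw [hψ]; simp [Finset.sum_range_succ]
  exact kite_of (a := 2) (b := 3) (c := 31) (d := 5) (by norm_num) (by norm_num) (by norm_num) (by norm_num)
    (by norm_num) (by norm_num) (by norm_num) (by norm_num) (by norm_num) (by norm_num)
    (φ := φ) (ψ₁ := φ) (ψ₂ := φ) (ψ₃ := ψ) (ψ₄ := ψ)
    (by rw [h1]; norm_num) (by rw [h1]; norm_num) (by rw [h1]; norm_num) (by rw [h2]; norm_num) (by rw [h2]; norm_num)

theorem kite_seventeen (h : Fintype.card F = 17) : Kite (ProjectiveSpecialLinearGroup (Fin 3) F) := by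
  classical
  obtain ⟨φ, t, ht, hφ⟩ := exists_ps (F := F) (by omega)
  obtain ⟨ψ, hψ⟩ := t3 (F := F) (n := 3) (by norm_num)
  rw [h] at ht hφ hψ
  norm_num at ht
  subst ht
  have h1 : charDegree (φ : ProjectiveSpecialLinearGroup (Fin 3) F → ℂ) = 5526 := by omega
  have h2 : charDegree (ψ : ProjectiveSpecialLinearGroup (Fin 3) F → ℂ) = 306 := by
    rw [hψ]; simp [Finset.sum_range_succ]
  exact kite_of (a := 2) (b := 3) (c := 307) (d := 17) (by norm_num) (by norm_num) (by norm_num) (by norm_num)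
    (by norm_num) (by norm_num) (by norm_num) (by norm_num) (by norm_num) (by norm_num)
    (φ := φ) (ψ₁ := φ) (ψ₂ := φ) (ψ₃ := ψ) (ψ₄ := ψ)
    (by rw [h1]; norm_num) (by rw [h1]; norm_num) (by rw [h1]; norm_num) (by rw [h2]; norm_num) (by rw [h2]; norm_num)

theorem kite_eight (h : Fintype.card F = 8) : Kite (ProjectiveSpecialLinearGroup (Fin 3) F) := by
  classical
  have hC : ∀ m, 1 ≤ m → HasCusp F m := fun m hm => Main.hasCusp F m hm
  obtain ⟨φ, t, ht, hφ⟩ := exists_ps (F := F) (by omega)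
  obtain ⟨ψ, hψ⟩ := t3 (F := F) (n := 3) (by norm_num)
  obtain ⟨σ, s, hs, hσ⟩ := exists_st (F := F) (by omega) (by omega)
  obtain ⟨α, hα⟩ := exA (F := F) (n := 3) (by norm_num) (hC 3 (by norm_num))
  obtain ⟨β, hβ⟩ := exB (F := F) (n := 3) (by norm_num) (hC 2 (by norm_num))
  rw [h] at ht hφ hψ hs hσ
  norm_num at ht hs
  subst ht hs
  have h1 : charDegree (φ : ProjectiveSpecialLinearGroup (Fin 3) F → ℂ) = 657 := by omega
  have h2 : charDegree (ψ : ProjectiveSpecialLinearGroup (Fin 3) F → ℂ) = 72 := by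
    rw [hψ]; simp [Finset.sum_range_succ]
  have h3 : charDegree (σ : ProjectiveSpecialLinearGroup (Fin 3) F → ℂ) = 584 := by omega
  have h4 : 3 * 7 ∣ charDegree (α : ProjectiveSpecialLinearGroup (Fin 3) F → ℂ) :=
    Nat.Coprime.mul_dvd_of_dvd_of_dvd (by norm_num) (hα 3 ⟨2, by norm_num, by norm_num, by rw [h]; norm_num⟩)
      (hα 7 ⟨1, by norm_num, by norm_num, by rw [h]; norm_num⟩)
  have h5 : 73 * 7 ∣ charDegree (β : ProjectiveSpecialLinearGroup (Fin 3) F → ℂ) :=
    Nat.Coprime.mul_dvd_of_dvd_of_dvd (by norm_num) (hβ 73 (by norm_num) (Or.inl (by rw [h]; norm_num)))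
      (hβ 7 (by norm_num) (Or.inl (by rw [h]; norm_num)))
  exact kite_of (a := 3) (b := 73) (c := 7) (d := 2) (by norm_num) (by norm_num) (by norm_num) (by norm_num)
    (by norm_num) (by norm_num) (by norm_num) (by norm_num) (by norm_num) (by norm_num)
    (φ := φ) (ψ₁ := α) (ψ₂ := β) (ψ₃ := ψ) (ψ₄ := σ)
    (by rw [h1]; norm_num) h4 h5 (by rw [h2]; norm_num) (by rw [h3]; norm_num)

theorem kite_seven (h : Fintype.card F = 7) : Kite (ProjectiveSpecialLinearGroup (Fin 3) F) := by
  classical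
  have hC : ∀ m, 1 ≤ m → HasCusp F m := fun m hm => Main.hasCusp F m hm
  obtain ⟨ψ, hψ⟩ := t3 (F := F) (n := 3) (by norm_num)
  obtain ⟨σ, s, hs, hσ⟩ := exists_st (F := F) (by omega) (by omega)
  obtain ⟨β, hβ⟩ := exB (F := F) (n := 3) (by norm_num) (hC 2 (by norm_num))
  rw [h] at hψ hs hσ
  norm_num at hs
  have h2 : charDegree (ψ : ProjectiveSpecialLinearGroup (Fin 3) F → ℂ) = 56 := by
    rw [hψ]; simp [Finset.sum_range_succ]
  have h3 : 19 * 7 ∣ charDegree (σ : ProjectiveSpecialLinearGroup (Fin 3) F → ℂ) := by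
    rcases (Nat.dvd_prime Nat.prime_three).1 hs with rfl | rfl
    · exact ⟨3, by omega⟩
    · exact ⟨1, by omega⟩
  have b2 := hβ 2 (by norm_num) (Or.inl (by rw [h]; norm_num))
  have b3 := hβ 3 (by norm_num) (Or.inl (by rw [h]; norm_num))
  have b19 := hβ 19 (by norm_num) (Or.inl (by rw [h]; norm_num))
  exact kite_of (a := 2) (b := 19) (c := 3) (d := 7) (by norm_num) (by norm_num) (by norm_num) (by norm_num)
    (by norm_num) (by norm_num) (by norm_num) (by norm_num) (by norm_num) (by norm_num)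
    (φ := β) (ψ₁ := β) (ψ₂ := β) (ψ₃ := ψ) (ψ₄ := σ)
    (Nat.Coprime.mul_dvd_of_dvd_of_dvd (by norm_num) b2 b19) (Nat.Coprime.mul_dvd_of_dvd_of_dvd (by norm_num) b2 b3)
    (Nat.Coprime.mul_dvd_of_dvd_of_dvd (by norm_num) b19 b3) (by rw [h2]; norm_num) h3

theorem kite_four_three (h : Fintype.card F = 3) : Kite (ProjectiveSpecialLinearGroup (Fin 4) F) := by
  obtain ⟨φ, t, ht, hφ⟩ := t7 (F := F) (Main.hasCusp F 2 (by norm_num))
  rw [h] at ht hφ
  norm_num at ht
  have h3 : 2 * 3 * 5 * 13 ∣ charDegree (φ : ProjectiveSpecialLinearGroup (Fin 4) F → ℂ) := by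
    rcases (Nat.dvd_prime Nat.prime_two).1 ht with rfl | rfl
    · exact ⟨2, by omega⟩
    · exact ⟨1, by omega⟩
  exact kite_of (a := 2) (b := 3) (c := 5) (d := 13) (by norm_num) (by norm_num) (by norm_num) (by norm_num)
    (by norm_num) (by norm_num) (by norm_num) (by norm_num) (by norm_num) (by norm_num)
    (φ := φ) (ψ₁ := φ) (ψ₂ := φ) (ψ₃ := φ) (ψ₄ := φ)
    (dvd_trans (by norm_num) h3) (dvd_trans (by norm_num) h3) (dvd_trans (by norm_num) h3)
    (dvd_trans (by norm_num) h3) (dvd_trans (by norm_num) h3)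

/-- **`Kite` for `PSL₃(q)`, `q = 5, 7, 8, 17`.** -/
theorem kite_psl3 {S : Type v} [Group S] (h : Fintype.card F = 5 ∨ Fintype.card F = 7 ∨ Fintype.card F = 8 ∨
    Fintype.card F = 17) (e : S ≃* ProjectiveSpecialLinearGroup (Fin 3) F) : Kite S := by
  refine kite_congr e ?_
  rcases h with h | h | h | h
  · exact kite_five h
  · exact kite_seven h
  · exact kite_eight h
  · exact kite_seventeen h

/-- **`Kite` for `PSL₄(3)`.** -/
theorem kite_psl4 {S : Type v} [Group S] (h : Fintype.card F = 3)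
    (e : S ≃* ProjectiveSpecialLinearGroup (Fin 4) F) : Kite S :=
  kite_congr e (kite_four_three h)

end Cfsg.Agent.H128.KitePsl
end

-- part: H791/Kite/Unit
section
/-!
# Kites in the degree graphs of `PSU₃(q)`, `q = 4, 5, 7, 8, 9`, `PSU₄(3)`, `PSU₅(2)` (helper791, task of S4919)
-/

set_option autoImplicit false
set_option linter.unusedSectionVars false

namespace Cfsg.Agent.H791.Kite

open Cfsg Cfsg.Agent.H671.H5 Cfsg.Agent.H670.Reg Cfsg.Agent.H664.R1 Cfsg.Agent.H664.R1.U3
open Cfsg.Agent.H681.DegBasic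

universe u

/-- kites are transported by isomorphisms -/
theorem kite_congr {S T : Type*} [Group S] [Group T] (e : S ≃* T) (h : Kite T) : Kite S := by
  unfold Kite Adj at *
  rwa [H424.DegTools.degreeGraph_congr e]

/-- two triangles with a common edge -/
theorem kite_of {S : Type*} [Group S] {u v w z : ℕ} (hwz : w ≠ z) (h1 : Adj u v S) (h2 : Adj u w S) (h3 : Adj v w S)
    (h4 : Adj u z S) (h5 : Adj v z S) : Kite S :=
  Or.inl ⟨u, v, w, z, hwz, h1, h2, h3, h4, h5⟩

/-- adjacency from an irreducible character -/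
theorem adj_char {S : Type u} [Group S] (χ : IrrCharacter S) {a b : ℕ} (ha : a.Prime) (hb : b.Prime)
    (hab : a ≠ b) (h1 : a ∣ charDegree (χ : S → ℂ)) (h2 : b ∣ charDegree (χ : S → ℂ)) : Adj a b S :=
  adj_of_mem (n := charDegree (χ : S → ℂ)) ⟨χ, rfl⟩ ha hb hab h1 h2

theorem prime7 : Nat.Prime 7 := by norm_num
theorem prime13 : Nat.Prime 13 := by norm_num
theorem prime19 : Nat.Prime 19 := by norm_num
theorem prime43 : Nat.Prime 43 := by norm_num
theorem prime73 : Nat.Prime 73 := by norm_num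
theorem prime11 : Nat.Prime 11 := by norm_num

/-- the characteristic -/
theorem p_eq {S : Type u} [Group S] {q p r : ℕ} (D : DD S q p) (hr : r.Prime) (h : r ∣ q) : p = r :=
  (D.dvd_p hr h).symm

/-- `PSU₃(5)` -/
theorem five {S : Type u} [Group S] {F : Type*} [Field F] [Fintype F] (hF : Fintype.card F = 5 ^ 2)
    (e : S ≃* Cfsg.PSU 3 F 5) : Kite S := by
  obtain ⟨p, D⟩ := exists_DD hF (by norm_num) e
  obtain rfl := p_eq D Nat.prime_five dvd_rfl
  refine kite_of (u := 3) (v := 7) (w := 2) (z := 5) (by norm_num) ?_ ?_ ?_ ?_ ?_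
  · exact D.adjA Nat.prime_three prime7 (by norm_num) (by norm_num) (by norm_num)
  · exact D.adjA Nat.prime_three Nat.prime_two (by norm_num) (by norm_num) (by norm_num)
  · exact D.adjA prime7 Nat.prime_two (by norm_num) (by norm_num) (by norm_num)
  · exact D.adjC Nat.prime_three Nat.prime_five (by norm_num) (by norm_num) (by norm_num)
  · exact D.adjC prime7 Nat.prime_five (by norm_num) (by norm_num) (by norm_num)

/-- `PSU₃(7)` -/
theorem seven {S : Type u} [Group S] {F : Type*} [Field F] [Fintype F] (hF : Fintype.card F = 7 ^ 2)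
    (e : S ≃* Cfsg.PSU 3 F 7) : Kite S := by
  obtain ⟨p, D⟩ := exists_DD hF (by norm_num) e
  obtain rfl := p_eq D prime7 dvd_rfl
  refine kite_of (u := 2) (v := 7) (w := 3) (z := 43) (by norm_num) ?_ ?_ ?_ ?_ ?_
  · exact D.adjB Nat.prime_two prime7 (by norm_num) (by norm_num) (by norm_num)
  · exact D.adjB Nat.prime_two Nat.prime_three (by norm_num) (by norm_num) (by norm_num)
  · exact D.adjB prime7 Nat.prime_three (by norm_num) (by norm_num) (by norm_num)
  · exact D.adjA Nat.prime_two prime43 (by norm_num) (by norm_num) (by norm_num)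
  · exact D.adjC prime7 prime43 (by norm_num) (by norm_num) (by norm_num)

/-- `PSU₃(9)` -/
theorem nine {S : Type u} [Group S] {F : Type*} [Field F] [Fintype F] (hF : Fintype.card F = 9 ^ 2)
    (e : S ≃* Cfsg.PSU 3 F 9) : Kite S := by
  obtain ⟨p, D⟩ := exists_DD hF (by norm_num) e
  obtain rfl := p_eq D Nat.prime_three (by norm_num)
  refine kite_of (u := 2) (v := 73) (w := 5) (z := 3) (by norm_num) ?_ ?_ ?_ ?_ ?_
  · exact D.adjA Nat.prime_two prime73 (by norm_num) (by norm_num) (by norm_num)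
  · exact D.adjA Nat.prime_two Nat.prime_five (by norm_num) (by norm_num) (by norm_num)
  · exact D.adjA prime73 Nat.prime_five (by norm_num) (by norm_num) (by norm_num)
  · exact D.adjB Nat.prime_two Nat.prime_three (by norm_num) (by norm_num) (by norm_num)
  · exact D.adjC prime73 Nat.prime_three (by norm_num) (by norm_num) (by norm_num)

/-- `PSU₃(17)` (five prime divisors) -/
theorem seventeen {S : Type u} [Group S] {F : Type*} [Field F] [Fintype F] (hF : Fintype.card F = 17 ^ 2)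
    (e : S ≃* Cfsg.PSU 3 F 17) : Kite S := by
  obtain ⟨p, D⟩ := exists_DD hF (by norm_num) e
  refine kite_of (u := 2) (v := 3) (w := 7) (z := 13) (by norm_num) ?_ ?_ ?_ ?_ ?_
  · exact D.adjA Nat.prime_two Nat.prime_three (by norm_num) (by norm_num) (by norm_num)
  · exact D.adjA Nat.prime_two prime7 (by norm_num) (by norm_num) (by norm_num)
  · exact D.adjA Nat.prime_three prime7 (by norm_num) (by norm_num) (by norm_num)
  · exact D.adjA Nat.prime_two prime13 (by norm_num) (by norm_num) (by norm_num)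
  · exact D.adjA Nat.prime_three prime13 (by norm_num) (by norm_num) (by norm_num)

/-- `PSU₄(3)` -/
theorem four_three {S : Type u} [Group S] {F : Type*} [Field F] [Fintype F] (hF : Fintype.card F = 3 ^ 2)
    (e : S ≃* Cfsg.PSU 4 F 3) : Kite S := by
  refine kite_congr e ?_
  obtain ⟨φ₁, h1⟩ := H113.PSU.Facts.exF (F := F) (n := 4) (q := 3) hF le_rfl
  obtain ⟨φ₂, h2⟩ := H113.PSU.Facts.exG (F := F) (n := 4) (q := 3) hF le_rfl
  obtain ⟨φ₃, h3, -⟩ := H113.PSU.Facts.exA (F := F) (n := 4) (q := 3) hF le_rfl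
  have e1 : charDegree (φ₁ : PSU 4 F 3 → ℂ) = 90 := by
    have : H113.PSU.Levi.uu 3 4 = 80 := by decide
    have h' : H113.PSU.Levi.uu 3 1 = 4 := by decide
    norm_num [this, h'] at h1
    omega
  have e2 : charDegree (φ₂ : PSU 4 F 3 → ℂ) = 189 := by
    have : H113.PSU.Levi.uu 3 3 = 28 := by decide
    have h' : H113.PSU.Levi.uu 3 2 = 8 := by decide
    norm_num [this, h'] at h2
    omega
  refine kite_of (u := 2) (v := 3) (w := 5) (z := 7) (by norm_num) ?_ ?_ ?_ ?_ ?_
  · exact adj_char φ₁ Nat.prime_two Nat.prime_three (by norm_num) (by rw [e1]; norm_num) (by rw [e1]; norm_num)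
  · exact adj_char φ₁ Nat.prime_two Nat.prime_five (by norm_num) (by rw [e1]; norm_num) (by rw [e1]; norm_num)
  · exact adj_char φ₁ Nat.prime_three Nat.prime_five (by norm_num) (by rw [e1]; norm_num) (by rw [e1]; norm_num)
  · exact adj_char φ₃ Nat.prime_two prime7 (by norm_num) (h3 2 Nat.prime_two ⟨3, by decide, by decide⟩)
      (h3 7 prime7 ⟨3, by decide, by decide⟩)
  · exact adj_char φ₂ Nat.prime_three prime7 (by norm_num) (by rw [e2]; norm_num) (by rw [e2]; norm_num)

/-- `PSU₅(2)` -/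
theorem five_two {S : Type u} [Group S] {F : Type*} [Field F] [Fintype F] (hF : Fintype.card F = 2 ^ 2)
    (e : S ≃* Cfsg.PSU 5 F 2) : Kite S := by
  refine kite_congr e ?_
  obtain ⟨φ₁, h1⟩ := H113.PSU.Facts.exF (F := F) (n := 5) (q := 2) hF (by norm_num)
  obtain ⟨φ₂, h2⟩ := H113.PSU.Facts.exG (F := F) (n := 5) (q := 2) hF (by norm_num)
  obtain ⟨φ₃, h3, -⟩ := H113.PSU.Facts.exA (F := F) (n := 5) (q := 2) hF (by norm_num)
  have e1 : charDegree (φ₁ : PSU 5 F 2 → ℂ) = 44 := by
    have : H113.PSU.Levi.uu 2 5 = 33 := by decide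
    have h' : H113.PSU.Levi.uu 2 2 = 3 := by decide
    norm_num [this, h'] at h1
    omega
  have e2 : charDegree (φ₂ : PSU 5 F 2 → ℂ) = 120 := by
    have : H113.PSU.Levi.uu 2 4 = 15 := by decide
    have h' : H113.PSU.Levi.uu 2 3 = 9 := by decide
    norm_num [this, h'] at h2
    omega
  refine kite_of (u := 2) (v := 3) (w := 5) (z := 11) (by norm_num) ?_ ?_ ?_ ?_ ?_
  · exact adj_char φ₂ Nat.prime_two Nat.prime_three (by norm_num) (by rw [e2]; norm_num) (by rw [e2]; norm_num)
  · exact adj_char φ₂ Nat.prime_two Nat.prime_five (by norm_num) (by rw [e2]; norm_num) (by rw [e2]; norm_num)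
  · exact adj_char φ₂ Nat.prime_three Nat.prime_five (by norm_num) (by rw [e2]; norm_num) (by rw [e2]; norm_num)
  · exact adj_char φ₁ Nat.prime_two prime11 (by norm_num) (by rw [e1]; norm_num) (by rw [e1]; norm_num)
  · exact adj_char φ₃ Nat.prime_three prime11 (by norm_num) (h3 3 Nat.prime_three ⟨5, by decide, by decide⟩)
      (h3 11 prime11 ⟨5, by decide, by decide⟩)

end Cfsg.Agent.H791.Kite
end

-- part: H791/Kite/UnitFour
section
/-!
# `PSU(3,4)` has an irreducible character of degree divisible by `15` (helper791)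

The proof follows helper664 (`H664.R1.U3Four`, degree divisible by `39`).
-/

set_option autoImplicit false
set_option linter.unusedSimpArgs false
set_option linter.unusedSectionVars false

namespace Cfsg.Agent.H791.Kite

open Matrix Cfsg Cfsg.Agent.LieRecognition.PSUThreeSylow Cfsg.Agent.LieClassical.HermBasic
open Cfsg.Agent.H681.DegBasic Cfsg.Agent.H664.R1 Cfsg.Agent.H664.R1.U3 Cfsg.Agent.H671.H5 Cfsg.Agent.H670.Reg
open scoped ComplexConjugate

universe u

section four

variable {F : Type*} [Field F] [Fintype F] {σ : F →+* F} [hσ : Fact (∀ x, σ (σ x) = x)]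

/-- **A degree divisible by `15`.** -/
theorem exists_15 (hF : Fintype.card F = 4 ^ 2) (hs : ∀ x, σ x = x ^ 4) :
    ∃ n ∈ charDegrees (PG σ), 15 ∣ n := by
  classical
  have : Finite (GUJ σ) := inferInstance
  have : Finite (PG σ) := inferInstance
  have := Fintype.ofFinite (PG σ)
  have := Fintype.ofFinite (spP σ).U
  have := finite_Inv (σ := σ) hs
  have := Fintype.ofFinite {f : (spP σ).B →* ℂˣ // (spP σ).Inv f}
  have := Characters.Core.finite_irr (G := PG σ)
  have := Fintype.ofFinite (IrrCharacter (PG σ))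
  by_contra hcon
  push Not at hcon
  have H := fus (σ := σ) hF (by norm_num) hs
  obtain ⟨θ, hθ1, hθX, hfree⟩ := exists_theta (σ := σ) hF hs
  obtain ⟨x, hx, hx1⟩ := H.exists_x
  obtain ⟨u, hu, hu1⟩ := H.exists_u
  have hcardG : Nat.card (PG σ) = 62400 := by
    rw [(spP σ).card_G, (spP σ).card_B, card_UP hF hs, card_TP hF hs]
    norm_num
  have hidx : (spP σ).U.index = 975 := by
    have h1 := (spP σ).U.card_mul_index
    rw [hcardG, card_UP hF hs] at h1
    omega
  -- the values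
  have hv := fun ψ : IrrCharacter (PG σ) => H.values ψ.2 hx hx1 hu hu1
  choose n m k a b h1 h2 h3 h4 h5 h6 h7 h8 h9 using hv
  -- the Gelfand-Graev character
  obtain ⟨c, hc⟩ := Characters.Core.exists_nat_comb ((spP σ).isCharacter_gg θ)
  have hcψ : ∀ ψ : IrrCharacter (PG σ), classInner ((spP σ).gg θ) (ψ : PG σ → ℂ) = c ψ := by
    intro ψ
    rw [hc, Characters.Core.classInner_sum_nsmul_irr]
  have hcθ : ∀ ψ : IrrCharacter (PG σ),
      classInner (fun u : (spP σ).U => (ψ : PG σ → ℂ) u) (fun u => (θ u : ℂ)) = c ψ := by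
    intro ψ
    rw [← Complex.conj_natCast, ← hcψ, (spP σ).inner_gg θ ψ.2,
      Characters.Core.classInner_conj_symm]
  have hckb : ∀ ψ : IrrCharacter (PG σ), (c ψ : ℤ) = k ψ - b ψ := by
    intro ψ
    have e := H.inner_theta (Characters.Core.isIrr_isClassFunction ψ.2) hu hu1 θ hθ1 hθX
    rw [hcθ, h4, h3] at e
    exact_mod_cast e
  have hsum : ∑ ψ : IrrCharacter (PG σ), c ψ * n ψ = 975 := by
    have e := congrFun hc 1
    rw [Split.gg_def, OddOrderCharacters.IndRes.indFun_apply_one, hidx, map_one, Units.val_one,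
      mul_one, Finset.sum_apply] at e
    have e2 : ∀ ψ : IrrCharacter (PG σ), (c ψ • (ψ : PG σ → ℂ)) 1 = ((c ψ * n ψ : ℕ) : ℂ) := by
      intro ψ
      rw [Pi.smul_apply, nsmul_eq_mul, h1]
      push_cast
      ring
    rw [Finset.sum_congr rfl fun ψ _ => e2 ψ] at e
    exact_mod_cast e.symm
  have hnorm : ∑ ψ : IrrCharacter (PG σ), c ψ ^ 2 = 16 := by
    have e := (spP σ).norm_gg θ hfree
    rw [hc, norm_eq_sum, card_TP hF hs] at e
    exact_mod_cast e
  -- the constituents of the reducible principal series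
  have hpair : ∀ f : {f : (spP σ).B →* ℂˣ // (spP σ).Inv f}, ∃ β : IrrCharacter (PG σ),
      classInner ((spP σ).ps f.1) (β : PG σ → ℂ) ≠ 0 ∧ c β = 1 ∧ k β = 1 ∧
      n β = (if f.1 = 1 then 64 else 52) ∧
      ∀ ψ : IrrCharacter (PG σ), classInner ((spP σ).ps f.1) (ψ : PG σ → ℂ) ≠ 0 → ψ ≠ β →
        c ψ = 0 := by
    rintro ⟨f, hf⟩
    obtain ⟨χ, χ', hne, e, e1, e2, e3, e4, e5⟩ := H.pair hu hu1 f hf
    have hb0 : b χ' = 0 := by
      have := h3 χ'
      rw [e2] at this
      exact_mod_cast this.symm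
    have hb1 : b χ = 1 := by
      have := h3 χ
      rw [e1] at this
      exact_mod_cast this.symm
    have hk0 : k χ' = 1 := by
      have := h4 χ'
      rw [e4] at this
      exact_mod_cast this.symm
    have hk1 : k χ = 1 := by
      have := h4 χ
      rw [e3] at this
      exact_mod_cast this.symm
    refine ⟨χ', ?_, ?_, hk0, ?_, ?_⟩
    · show classInner ((spP σ).ps f) (χ' : PG σ → ℂ) ≠ 0
      rw [e, Characters.Core.classInner_add_left, Characters.Core.classInner_irr_self χ'.2,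
        Characters.Core.classInner_irr_ne χ.2 χ'.2 (fun h' => hne (Subtype.ext h')), zero_add]
      exact one_ne_zero
    · have := hckb χ'
      rw [hk0, hb0] at this
      omega
    · show n χ' = if f = 1 then 64 else 52
      split_ifs with h
      · subst h
        -- the trivial character is a constituent
        have g1 := (spP σ).inner_ps_one
        rw [e, Characters.Core.classInner_add_left] at g1
        rcases e5 with ⟨-, e6⟩ | ⟨e6, e7⟩
        · rw [h1] at e6
          have : n χ' = 4 ^ 3 := by exact_mod_cast e6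
          omega
        · exfalso
          rw [Characters.Core.classInner_irr_ne χ.2 Characters.Core.isIrr_one,
            Characters.Core.classInner_irr_ne χ'.2 Characters.Core.isIrr_one, add_zero] at g1
          · exact zero_ne_one g1
          · intro h
            rw [h, Pi.one_apply] at e7
            have : 1 = 4 * (4 ^ 2 - 4 + 1) := by exact_mod_cast e7
            omega
          · intro h
            rw [h, Pi.one_apply] at e6
            have : 1 = 4 ^ 2 - 4 + 1 := by exact_mod_cast e6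
            omega
      · rcases e5 with ⟨e6, -⟩ | ⟨-, e7⟩
        · exfalso
          apply h
          -- `χ` is linear, hence trivial
          obtain ⟨η, hη⟩ := Cfsg.Agent.Characters.Linear.exists_hom_of_isIrrCharacter χ.2 e6
          have htop := S_eq_top (σ := σ) hs
          have hη1 : η = 1 := by
            have g1 := perfect (σ := σ) hF (by norm_num) hs (η.comp (S σ).subtype)
            refine MonoidHom.ext fun y => ?_
            have hy : y ∈ S σ := by rw [htop]; exact Subgroup.mem_top y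
            exact DFunLike.congr_fun g1 ⟨y, hy⟩
          have hχ1 : (χ : PG σ → ℂ) = 1 := by
            rw [hη, hη1]
            rfl
          by_contra hf1
          have g2 := (spP σ).inner_ps_one_eq_zero f hf1
          rw [e, Characters.Core.classInner_add_left, hχ1,
            Characters.Core.classInner_irr_self Characters.Core.isIrr_one] at g2
          obtain ⟨d, hd⟩ := Characters.Core.classInner_isNat
            (Characters.Core.isIrr_isCharacter χ'.2)
            (Characters.Core.isCharacter_one (G := PG σ))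
          rw [hd] at g2
          have : 1 + d = 0 := by exact_mod_cast g2
          omega
        · rw [h1] at e7
          have : n χ' = 4 * (4 ^ 2 - 4 + 1) := by exact_mod_cast e7
          omega
    · intro ψ hψ hψ'
      have hψχ : ψ = χ := by
        by_contra hne'
        apply hψ
        show classInner ((spP σ).ps f) (ψ : PG σ → ℂ) = 0
        rw [e, Characters.Core.classInner_add_left,
          Characters.Core.classInner_irr_ne χ.2 ψ.2 (fun h' => hne' (Subtype.ext h'.symm)),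
          Characters.Core.classInner_irr_ne χ'.2 ψ.2 (fun h' => hψ' (Subtype.ext h'.symm)),
          add_zero]
      subst hψχ
      have := hckb ψ
      rw [hk1, hb1] at this
      omega
  choose β hβ1 hβ2 hβ3 hβ4 hβ5 using hpair
  have hβinj : Function.Injective β := by
    intro f g hfg
    by_contra hne
    have hne' : f.1 ≠ g.1 := fun h => hne (Subtype.ext h)
    have h10 := (spP σ).two_le f.2.1 g.2.1 hne' (β f).2 (hβ1 f) (by rw [hfg]; exact hβ1 g) (h4 (β f))
    rw [hβ3] at h10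
    omega
  -- the sum over the image of `β`
  have hcardI : Fintype.card {f : (spP σ).B →* ℂˣ // (spP σ).Inv f} = 5 := by
    rw [← Nat.card_eq_fintype_card]
    exact card_Inv_four (σ := σ) hF hs
  have hone : (spP σ).Inv (1 : (spP σ).B →* ℂˣ) := ⟨fun _ _ => rfl, fun _ _ => rfl⟩
  have hsum1 : ∑ ψ ∈ Finset.univ.image β, c ψ * n ψ = 272 := by
    rw [Finset.sum_image (fun f _ g _ h => hβinj h)]
    have e1 : ∀ f : {f : (spP σ).B →* ℂˣ // (spP σ).Inv f}, c (β f) * n (β f) =
        (if f = ⟨1, hone⟩ then 12 else 0) + 52 := by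
      intro f
      rw [hβ2, hβ4, one_mul]
      by_cases h : f = ⟨1, hone⟩
      · rw [if_pos h, if_pos (by rw [h])]
      · rw [if_neg h, if_neg (fun h' => h (Subtype.ext h'))]
    rw [Finset.sum_congr rfl fun f _ => e1 f, Finset.sum_add_distrib,
      Finset.sum_ite_eq' Finset.univ, if_pos (Finset.mem_univ _), Finset.sum_const,
      Finset.card_univ, hcardI]
    norm_num
  -- the other terms are divisible by thirteen
  have hdiv : ∀ ψ ∈ (Finset.univ.image β)ᶜ, 13 ∣ c ψ * n ψ := by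
    intro ψ hψ
    rw [Finset.mem_compl, Finset.mem_image] at hψ
    push Not at hψ
    by_cases hk : k ψ = 0
    · -- cuspidal
      by_cases hc0 : c ψ = 0
      · rw [hc0, zero_mul]
        exact dvd_zero _
      apply Dvd.dvd.mul_left
      have e1 := hckb ψ
      have e2 := h5 ψ
      have e3 := h6 ψ
      have e4 := h7 ψ
      have e5 := h9 ψ
      rw [hk] at e1 e3
      push_cast at e1 e2 e3 e4
      have hm : m ψ = 15 * c ψ := by omega
      obtain ⟨t, ht⟩ : ∃ t, n ψ = 15 * c ψ + 4 * t := by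
        obtain ⟨t, ht⟩ := e4
        refine ⟨t.toNat, ?_⟩
        (clear * - e5 e1 e3 ht; omega)
      have hnd : n ψ ∣ 62400 := by
        rw [← hcardG]
        exact dvd_card (mem_charDegrees.2 ⟨_, ψ.2, h1 ψ⟩)
      have h3n : 3 ∣ n ψ := by omega
      have h15 := hcon (n ψ) (mem_charDegrees.2 ⟨_, ψ.2, h1 ψ⟩)
      by_contra h13
      have hc3 : c ψ ≤ 3 := by
        have e6 : ∑ ψ' ∈ ({ψ, β ⟨1, hone⟩} : Finset (IrrCharacter (PG σ))), c ψ' ^ 2 ≤ 16 := by
          rw [← hnorm]
          exact Finset.sum_le_sum_of_subset (Finset.subset_univ _)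
        rw [Finset.sum_pair (fun h => hψ ⟨1, hone⟩ (Finset.mem_univ _) h.symm), hβ2] at e6
        by_contra hlt
        have : 4 ≤ c ψ := by omega
        nlinarith only [e6, hlt]
      have h5n := arith_five hnd h13 (Nat.one_le_iff_ne_zero.2 hc0) hc3 ht
      (clear * - e2 e3 h15 h5n; omega)
    · -- principal series
      obtain ⟨f, hfU, hfψ⟩ := (spP σ).exists_ps ψ.2 (by
        rw [h4]
        exact_mod_cast hk)
      by_cases hinv : ∀ t, ∀ ht : t ∈ (spP σ).T, f ⟨t, (spP σ).TB ht⟩ =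
          f ⟨(spP σ).w⁻¹ * t * (spP σ).w, (spP σ).TB ((spP σ).wT t ht)⟩
      · have := hβ5 ⟨f, hfU, hinv⟩ ψ hfψ (fun h => hψ _ (Finset.mem_univ _) h.symm)
        rw [this, zero_mul]
        exact dvd_zero _
      · push Not at hinv
        have hirr := (spP σ).isIrr_ps f hinv
        have e1 : (spP σ).ps f = (ψ : PG σ → ℂ) := by
          by_contra hne
          exact hfψ (Characters.Core.classInner_irr_ne hirr ψ.2 hne)
        have e2 := h1 ψ
        rw [← e1, (spP σ).ps_one, card_UP hF hs] at e2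
        have e3 : 4 ^ 3 + 1 = n ψ := by exact_mod_cast e2
        apply Dvd.dvd.mul_left
        omega
  have htot := Finset.sum_add_sum_compl (Finset.univ.image β) (fun ψ => c ψ * n ψ)
  rw [hsum, hsum1] at htot
  obtain ⟨z, hz⟩ := Finset.dvd_sum hdiv
  rw [hz] at htot
  omega

end four

/-- A degree of `PSU(3,4)` divisible by `15`. -/
theorem degree_fifteen {S' : Type u} [Group S'] {F : Type*} [Field F] [Fintype F]
    (hF : Fintype.card F = 4 ^ 2) (e : S' ≃* Cfsg.PSU 3 F 4) : ∃ n ∈ charDegrees S', 15 ∣ n := by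
  obtain ⟨σ, hσ, hs, ⟨e'⟩⟩ := exists_iso hF
  obtain ⟨n, hn, h39⟩ := exists_15 (σ := σ) hF hs
  have htop := S_eq_top (σ := σ) hs
  let e2 : S σ ≃* PG σ := (MulEquiv.subgroupCongr htop).trans Subgroup.topEquiv
  exact ⟨n, PSLTwo.mem_of_equiv ((e.trans e').trans e2) hn, h39⟩

/-- `PSU₃(4)` -/
theorem four {S : Type u} [Group S] {F : Type*} [Field F] [Fintype F] (hF : Fintype.card F = 4 ^ 2)
    (e : S ≃* Cfsg.PSU 3 F 4) : Kite S := by
  obtain ⟨p, D⟩ := exists_DD hF (by norm_num) e
  obtain rfl := p_eq D Nat.prime_two (by norm_num)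
  obtain ⟨n, hn, h39⟩ := degree_four hF e
  obtain ⟨n', hn', h15⟩ := degree_fifteen hF e
  refine kite_of (u := 3) (v := 13) (w := 2) (z := 5) (by norm_num) ?_ ?_ ?_ ?_ ?_
  · exact adj_of_mem hn Nat.prime_three prime13 (by norm_num) (dvd_trans (by norm_num) h39) (dvd_trans (by norm_num) h39)
  · exact D.adjB Nat.prime_three Nat.prime_two (by norm_num) (by norm_num) (by norm_num)
  · exact D.adjC prime13 Nat.prime_two (by norm_num) (by norm_num) (by norm_num)
  · exact adj_of_mem hn' Nat.prime_three Nat.prime_five (by norm_num) (dvd_trans (by norm_num) h15)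
      (dvd_trans (by norm_num) h15)
  · exact D.adjA prime13 Nat.prime_five (by norm_num) (by norm_num) (by norm_num)

end Cfsg.Agent.H791.Kite
end

-- part: H791/Kite/UnitEight
section
/-!
# `PSU(3,8)`: the prime `7` is adjacent to `3` or to `19` (helper791)

A cuspidal constituent of a Gelfand-Graev type character of `PGU(3,8)` has degree `63 c + 8 t`, `1 ≤ c ≤ 7`, divisible by `7`;
it is divisible by `19` or by `9`.
-/

set_option autoImplicit false
set_option linter.unusedSectionVars false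

namespace Cfsg.Agent.H791.Kite

open Matrix Cfsg Cfsg.Agent.LieRecognition.PSUThreeSylow Cfsg.Agent.LieClassical.HermBasic
open Cfsg.Agent.H681.DegBasic Cfsg.Agent.H664.R1 Cfsg.Agent.H664.R1.U3 Cfsg.Agent.H671.H5 Cfsg.Agent.H670.Reg
open scoped ComplexConjugate

universe u

/-- the arithmetic of the degrees -/
theorem arith_eight {n c t : ℕ} (hn : n ∣ 512 * 63 * 513) (h7 : 7 ∣ n) (hc1 : 1 ≤ c) (hc7 : c ≤ 7)
    (hnt : n = 63 * c + 8 * t) : 7 * 19 ∣ n ∨ 7 * 9 ∣ n := by
  obtain ⟨m, rfl⟩ := h7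
  have hm : m ∣ 512 * 9 * 513 := by
    have h : 7 * m ∣ 7 * (512 * 9 * 513) := by
      refine hn.trans (dvd_of_eq (by norm_num))
    exact Nat.dvd_of_mul_dvd_mul_left (by norm_num) h
  obtain ⟨s, rfl⟩ : 7 ∣ t := by omega
  have hms : m = 9 * c + 8 * s := by omega
  by_cases h19 : 19 ∣ m
  · exact Or.inl (Nat.mul_dvd_mul_left _ h19)
  right
  apply Nat.mul_dvd_mul_left
  by_contra h9
  have h1 : m ∣ 2 ^ 9 * 3 ^ 5 := by
    have h2 : Nat.Coprime m 19 := by
      rw [Nat.coprime_comm, Nat.Prime.coprime_iff_not_dvd (by norm_num)]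
      exact h19
    refine h2.dvd_of_dvd_mul_left (m := 19) ?_
    exact hm.trans (dvd_of_eq (by norm_num))
  obtain ⟨a, b, ha, hb, rfl⟩ := (Nat.dvd_mul).1 h1
  obtain ⟨i, hi, rfl⟩ := (Nat.dvd_prime_pow Nat.prime_two).1 ha
  obtain ⟨j, hj, rfl⟩ := (Nat.dvd_prime_pow Nat.prime_three).1 hb
  have hj1 : j ≤ 1 := by
    by_contra hj2
    apply h9
    have : 3 ^ 2 ∣ 3 ^ j := pow_dvd_pow 3 (by omega)
    exact this.mul_left _
  interval_cases j <;> interval_cases i <;> (clear * - hnt hc1 hc7; omega)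

section eight

variable {F : Type*} [Field F] [Fintype F] {σ : F →+* F} [hσ : Fact (∀ x, σ (σ x) = x)]

/-- **The cuspidal character.** -/
theorem exists_cusp_eight (hF : Fintype.card F = 8 ^ 2) (hs : ∀ x, σ x = x ^ 8) :
    ∃ n ∈ charDegrees (PG σ), 7 * 19 ∣ n ∨ 7 * 9 ∣ n := by
  classical
  have : Finite (GUJ σ) := inferInstance
  have : Finite (PG σ) := inferInstance
  have := Fintype.ofFinite (PG σ)
  have := Fintype.ofFinite (spP σ).U
  have := Characters.Core.finite_irr (G := PG σ)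
  have := Fintype.ofFinite (IrrCharacter (PG σ))
  have H := fus (σ := σ) hF (by norm_num) hs
  obtain ⟨θ, hθ1, hθX, hfree⟩ := exists_theta (σ := σ) hF hs
  obtain ⟨x, hx, hx1⟩ := H.exists_x
  obtain ⟨u, hu, hu1⟩ := H.exists_u
  have hcardG : Nat.card (PG σ) = 512 * 63 * 513 := by
    rw [(spP σ).card_G, (spP σ).card_B, card_UP hF hs, card_TP hF hs]
    norm_num
  -- the values
  have hv := fun ψ : IrrCharacter (PG σ) => H.values ψ.2 hx hx1 hu hu1
  choose n m k a b h1 h2 h3 h4 h5 h6 h7 h8 h9 using hv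
  -- the Gelfand-Graev character
  obtain ⟨c, hc⟩ := Characters.Core.exists_nat_comb ((spP σ).isCharacter_gg θ)
  have hcψ : ∀ ψ : IrrCharacter (PG σ), classInner ((spP σ).gg θ) (ψ : PG σ → ℂ) = c ψ := by
    intro ψ
    rw [hc, Characters.Core.classInner_sum_nsmul_irr]
  have hcθ : ∀ ψ : IrrCharacter (PG σ),
      classInner (fun u : (spP σ).U => (ψ : PG σ → ℂ) u) (fun u => (θ u : ℂ)) = c ψ := by
    intro ψ
    rw [← Complex.conj_natCast, ← hcψ, (spP σ).inner_gg θ ψ.2,
      Characters.Core.classInner_conj_symm]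
  have hckb : ∀ ψ : IrrCharacter (PG σ), (c ψ : ℤ) = k ψ - b ψ := by
    intro ψ
    have e := H.inner_theta (Characters.Core.isIrr_isClassFunction ψ.2) hu hu1 θ hθ1 hθX
    rw [hcθ, h4, h3] at e
    exact_mod_cast e
  have hnorm : ∑ ψ : IrrCharacter (PG σ), c ψ ^ 2 = 64 := by
    have e := (spP σ).norm_gg θ hfree
    rw [hc, norm_eq_sum, card_TP hF hs] at e
    exact_mod_cast e
  -- the Steinberg character
  have hone : (spP σ).Inv (1 : (spP σ).B →* ℂˣ) := ⟨fun _ _ => rfl, fun _ _ => rfl⟩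
  obtain ⟨β, hβc, hβk⟩ : ∃ β : IrrCharacter (PG σ), c β = 1 ∧ k β = 1 := by
    obtain ⟨χ, χ', hne, e, e1, e2, e3, e4, e5⟩ := H.pair hu hu1 _ hone
    have hb0 : b χ' = 0 := by
      have := h3 χ'
      rw [e2] at this
      exact_mod_cast this.symm
    have hk0 : k χ' = 1 := by
      have := h4 χ'
      rw [e4] at this
      exact_mod_cast this.symm
    refine ⟨χ', ?_, hk0⟩
    have := hckb χ'
    rw [hk0, hb0] at this
    omega
  obtain ⟨ψ, hψθ, hψ1⟩ := (spP σ).exists_cusp θ hθ1 hfree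
  rw [hcθ] at hψθ
  rw [h4] at hψ1
  have hc0 : c ψ ≠ 0 := by exact_mod_cast hψθ
  have hk : k ψ = 0 := by exact_mod_cast hψ1
  refine ⟨n ψ, mem_charDegrees.2 ⟨_, ψ.2, h1 ψ⟩, ?_⟩
  have e1 := hckb ψ
  have e2 := h5 ψ
  have e3 := h6 ψ
  have e4 := h7 ψ
  have e5 := h9 ψ
  rw [hk] at e1 e3
  push_cast at e1 e2 e3 e4
  have hm : m ψ = 63 * c ψ := by omega
  obtain ⟨t, ht⟩ : ∃ t, n ψ = 63 * c ψ + 8 * t := by
    obtain ⟨t, ht⟩ := e4
    refine ⟨t.toNat, ?_⟩
    (clear * - e5 e1 e3 ht; omega)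
  have hnd : n ψ ∣ 512 * 63 * 513 := by
    rw [← hcardG]
    exact dvd_card (mem_charDegrees.2 ⟨_, ψ.2, h1 ψ⟩)
  have h7n : 7 ∣ n ψ := by omega
  have hc7 : c ψ ≤ 7 := by
    have e6 : ∑ ψ' ∈ ({ψ, β} : Finset (IrrCharacter (PG σ))), c ψ' ^ 2 ≤ 64 := by
      rw [← hnorm]
      exact Finset.sum_le_sum_of_subset (Finset.subset_univ _)
    rw [Finset.sum_pair (fun h => by rw [h, hβk] at hk; exact one_ne_zero hk), hβc] at e6
    by_contra hlt
    have : 8 ≤ c ψ := by omega
    nlinarith only [e6, hlt]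
  exact arith_eight hnd h7n (Nat.one_le_iff_ne_zero.2 hc0) hc7 ht

/-- The index of `PSU(3,8)` in `PGU(3,8)`. -/
theorem index_eight (hF : Fintype.card F = 8 ^ 2) (hs : ∀ x, σ x = x ^ 8) : (S σ).index = 3 := by
  have : Finite (GUJ σ) := inferInstance
  have : Finite (PG σ) := inferInstance
  have hcardG : Nat.card (PG σ) = 512 * 63 * 513 := by
    rw [(spP σ).card_G, (spP σ).card_B, card_UP hF hs, card_TP hF hs]
    norm_num
  obtain ⟨e⟩ := nonempty_iso (σ := σ) hF hs
  have h1 := Cfsg.Agent.S0280.result hF 3 (by norm_num)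
  rw [Nat.card_congr e.toEquiv] at h1
  have h2 := (S σ).card_mul_index
  simp only [Finset.prod_range_succ, Finset.prod_range_zero] at h1
  norm_num only [_root_.ite_true, _root_.one_mul, _root_.ite_false] at h1
  have h3 : Nat.card (S σ) = 5515776 := by omega
  rw [hcardG, h3] at h2
  omega

theorem degree_eight (hF : Fintype.card F = 8 ^ 2) (hs : ∀ x, σ x = x ^ 8) :
    ∃ n ∈ charDegrees (S σ), 7 ∣ n ∧ (19 ∣ n ∨ 3 ∣ n) := by
  have : Finite (GUJ σ) := inferInstance
  have : Finite (PG σ) := inferInstance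
  have : (S σ).Normal := inferInstance
  obtain ⟨n, hn, h⟩ := exists_cusp_eight (σ := σ) hF hs
  obtain ⟨c, hc, hcn, hi⟩ := H424.DegTools.clifford_down (S σ) hn
  rw [index_eight hF hs] at hi
  obtain ⟨r, rfl⟩ := hcn
  have hc0 : 0 < c := pos_of_mem hc
  rw [Nat.mul_div_cancel_left _ hc0] at hi
  refine ⟨c, hc, ?_⟩
  rcases (Nat.dvd_prime Nat.prime_three).1 hi with rfl | rfl
  · rcases h with h | h <;> omega
  · rcases h with h | h <;> omega

end eight

/-- `PSU₃(8)` -/
theorem eight {S : Type u} [Group S] {F : Type*} [Field F] [Fintype F] (hF : Fintype.card F = 8 ^ 2)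
    (e : S ≃* Cfsg.PSU 3 F 8) : Kite S := by
  obtain ⟨p, D⟩ := exists_DD hF (by norm_num) e
  obtain rfl := p_eq D Nat.prime_two (by norm_num)
  obtain ⟨σ, hσ, hs, ⟨e'⟩⟩ := exists_iso hF
  obtain ⟨n, hn, h7, h⟩ := degree_eight (σ := σ) hF hs
  have hn' := PSLTwo.mem_of_equiv (e.trans e') hn
  have a27 : Adj 2 7 S := D.adjB Nat.prime_two prime7 (by norm_num) (by norm_num) (by norm_num)
  have a23 : Adj 2 3 S := D.adjC Nat.prime_two Nat.prime_three (by norm_num) (by norm_num) (by norm_num)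
  have a219 : Adj 2 19 S := D.adjC Nat.prime_two prime19 (by norm_num) (by norm_num) (by norm_num)
  have a319 : Adj 3 19 S := D.adjC Nat.prime_three prime19 (by norm_num) (by norm_num) (by norm_num)
  rcases h with h | h
  · exact kite_of (u := 2) (v := 19) (w := 3) (z := 7) (by norm_num) a219 a23 a319.symm a27
      (adj_of_mem hn' prime19 prime7 (by norm_num) h h7)
  · exact kite_of (u := 2) (v := 3) (w := 19) (z := 7) (by norm_num) a23 a219 a319 a27
      (adj_of_mem hn' Nat.prime_three prime7 (by norm_num) h h7)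

end Cfsg.Agent.H791.Kite
end

-- part: H791/Kite/FourB
section
/-!
# The unitary rows with four prime divisors (helper791, task KFOUR-B of S4919)

In the form of `Real (.psu n q) S` (`OrdDiv.Main`).
-/

set_option autoImplicit false

namespace Cfsg.Agent.H791.Kite

open Cfsg Cfsg.Agent.H670.Reg

universe u

/-- `PSU₃(q)`, `q = 4, 5, 7, 8, 9, 17` -/
theorem kite_psu3 {S : Type u} [Group S] {q : ℕ} (hq : q = 4 ∨ q = 5 ∨ q = 7 ∨ q = 8 ∨ q = 9 ∨ q = 17)
    (h : ∃ (F : Type) (_ : Field F) (_ : Fintype F), Fintype.card F = q ^ 2 ∧ Nonempty (S ≃* PSU 3 F q)) : Kite S := by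
  obtain ⟨F, _, _, hF, ⟨e⟩⟩ := h
  rcases hq with rfl | rfl | rfl | rfl | rfl | rfl
  · exact four hF e
  · exact five hF e
  · exact seven hF e
  · exact eight hF e
  · exact nine hF e
  · exact seventeen hF e

/-- `PSU₄(3)` -/
theorem kite_psu4_3 {S : Type u} [Group S]
    (h : ∃ (F : Type) (_ : Field F) (_ : Fintype F), Fintype.card F = 3 ^ 2 ∧ Nonempty (S ≃* PSU 4 F 3)) : Kite S := by
  obtain ⟨F, _, _, hF, ⟨e⟩⟩ := h
  exact four_three hF e

/-- `PSU₅(2)` -/
theorem kite_psu5_2 {S : Type u} [Group S]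
    (h : ∃ (F : Type) (_ : Field F) (_ : Fintype F), Fintype.card F = 2 ^ 2 ∧ Nonempty (S ≃* PSU 5 F 2)) : Kite S := by
  obtain ⟨F, _, _, hF, ⟨e⟩⟩ := h
  exact five_two hF e

end Cfsg.Agent.H791.Kite
end

-- part: H679/Reg/KiteC
section
/-!
# Kites (S4919, KFOUR-C, helper679 for helper670)

`Kite` for `PSp4(4)`, `PSp4(5)`, `PSp4(7)`, `PSp4(9)`, `PSp6(2)`, `PΩ8⁺(2)`, `A7`, `A8`, `A9`, `A10`, `M12`.
-/

set_option autoImplicit false

namespace Cfsg.Agent.H679.Reg

open Cfsg Cfsg.Agent.H671.H5 Cfsg.Agent.H670.Reg Cfsg.Agent.H477.HC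

universe u v

theorem Kite.congr {S : Type u} {S' : Type v} [Group S] [Group S'] (e : S ≃* S') (h : Kite S') : Kite S := by
  have key : ∀ {a b : ℕ}, Adj a b S' → Adj a b S := fun {a b} h => (H600.AltDeg.adj_congr e).2 h
  rcases h with ⟨u, v, w, z, h0, h1, h2, h3, h4, h5⟩ | ⟨u, a, b, c, d, h1, h2, h3, h4, h5, h6, h7, h8, h9, h10⟩
  · exact Or.inl ⟨u, v, w, z, h0, key h1, key h2, key h3, key h4, key h5⟩
  · exact Or.inr ⟨u, a, b, c, d, h1, h2, h3, h4, h5, h6, key h7, key h8, key h9, key h10⟩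

/-- two triangles with a common edge -/
theorem Kite.mk {S : Type u} [Group S] (u v w z : ℕ) (h0 : w ≠ z) (h1 : Adj u v S) (h2 : Adj u w S) (h3 : Adj v w S)
    (h4 : Adj u z S) (h5 : Adj v z S) : Kite S := Or.inl ⟨u, v, w, z, h0, h1, h2, h3, h4, h5⟩

/-! ### symplectic groups of dimension four -/

theorem card_psp_two (F : Type) [Field F] [Fintype F] :
    Nat.gcd 2 (Fintype.card F - 1) * Nat.card (PSp 2 F) =
      Fintype.card F ^ 4 * ((Fintype.card F ^ 2 - 1) * (Fintype.card F ^ 4 - 1)) := by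
  have h3 := Subgroup.card_mul_index (Subgroup.center ↥(Matrix.symplecticGroup (Fin 2) F))
  rw [LieClassical.SympCenter.card_center (by norm_num), LieClassical.SympCount.card_symplecticGroup] at h3
  change _ * Nat.card (PSp 2 F) = _ at h3
  simpa only [Finset.prod_range_succ, _root_.Nat.reducePow, _root_.Finset.range_one, _root_.Finset.prod_singleton, _root_.zero_add, _root_.mul_one, _root_.Nat.reduceAdd, _root_.Nat.reduceMul] using h3

theorem char_eq {F : Type} [Field F] [Fintype F] {p n : ℕ} (hp : p.Prime) (hF : Fintype.card F = p ^ n) : CharP F p := by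
  obtain ⟨r, hr⟩ := CharP.exists F
  have hrp : r.Prime := CharP.char_is_prime F r
  have : Fact r.Prime := ⟨hrp⟩
  obtain ⟨k, hk, h⟩ := FiniteField.card F r
  rw [hF] at h
  have h1 : r ∣ p ^ n := by rw [h]; exact dvd_pow_self r k.ne_zero
  have h2 := (Nat.prime_dvd_prime_iff_eq hrp hp).1 (hrp.dvd_of_dvd_pow h1)
  rwa [← h2]

/-- the rank three characters -/
theorem chars_two (F : Type) [Field F] [Fintype F] {q a b : ℕ} (hF : Fintype.card F = q)
    (ha : 2 * ((q : ℤ) - 1) * a = q * ((q : ℤ) ^ 2 - 1) * ((q : ℤ) + 1))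
    (hb : 2 * ((q : ℤ) - 1) * b = q * ((q : ℤ) ^ 2 + 1) * ((q : ℤ) - 1)) (hq : 2 ≤ q) :
    Ch (PSp 2 F) a ∧ Ch (PSp 2 F) b := by
  obtain ⟨χ₁, χ₂, f, g, h1, h2, h3, h4, h5, h6⟩ := H677.SpRank.exists_chars (F := F) (m := 2) (by norm_num)
  rw [Nat.card_eq_fintype_card, hF] at h5 h6
  have h0 : 2 * ((q : ℤ) - 1) ≠ 0 := by
    have : (2 : ℤ) ≤ q := by exact_mod_cast hq
    omega
  have e1 : (f : ℤ) = a := by
    apply mul_left_cancel₀ h0
    rw [h5, ha]
    norm_num
  have e2 : (g : ℤ) = b := by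
    apply mul_left_cancel₀ h0
    rw [h6, hb]
    norm_num
  have e1' : f = a := by exact_mod_cast e1
  have e2' : g = b := by exact_mod_cast e2
  subst e1'
  subst e2'
  exact ⟨⟨χ₁, h1, h3⟩, ⟨χ₂, h2, h4⟩⟩

theorem np_two {F : Type} [Field F] [Fintype F] {p n : ℕ} (hp : p.Prime) (hF : Fintype.card F = p ^ n)
    (h3 : 3 ≤ Fintype.card F) : Np p (PSp 2 F) := by
  have : Fact p.Prime := ⟨hp⟩
  have := char_eq hp hF
  exact sp_np (K := F) le_rfl (fun _ => h3) tsp62 (fun h => by omega)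

/-- `PSp4(4)` -/
theorem kite_psp44 (F : Type) [Field F] [Fintype F] (hF : Fintype.card F = 4) : Kite (PSp 2 F) := by
  have hn := np_two (F := F) (p := 2) (n := 2) (by norm_num) (by rw [hF]; norm_num) (by omega)
  have hc := card_psp_two F
  rw [hF] at hc
  norm_num at hc
  obtain ⟨h1, h2⟩ := chars_two F (a := 50) (b := 34) hF (by norm_num) (by norm_num) (by norm_num)
  exact Kite.mk 5 17 2 3 (by norm_num)
    (hn 5 17 (by norm_num) (by norm_num) (by norm_num) (by norm_num) (by norm_num) (by rw [hc]; norm_num)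
      (by rw [hc]; norm_num))
    (adj_of_ch h1 (by norm_num) (by norm_num) (by norm_num) (by norm_num) (by norm_num))
    (adj_of_ch h2 (by norm_num) (by norm_num) (by norm_num) (by norm_num) (by norm_num))
    (hn 5 3 (by norm_num) (by norm_num) (by norm_num) (by norm_num) (by norm_num) (by rw [hc]; norm_num)
      (by rw [hc]; norm_num))
    (hn 17 3 (by norm_num) (by norm_num) (by norm_num) (by norm_num) (by norm_num) (by rw [hc]; norm_num)
      (by rw [hc]; norm_num))

/-- `PSp4(5)` -/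
theorem kite_psp45 (F : Type) [Field F] [Fintype F] (hF : Fintype.card F = 5) : Kite (PSp 2 F) := by
  have hn := np_two (F := F) (p := 5) (n := 1) (by norm_num) (by rw [hF]; norm_num) (by omega)
  have hc := card_psp_two F
  rw [hF] at hc
  norm_num at hc
  have hc' : Nat.card (PSp 2 F) = 4680000 := by omega
  obtain ⟨h1, h2⟩ := chars_two F (a := 90) (b := 65) hF (by norm_num) (by norm_num) (by norm_num)
  exact Kite.mk 2 3 5 13 (by norm_num)
    (hn 2 3 (by norm_num) (by norm_num) (by norm_num) (by norm_num) (by norm_num) (by rw [hc']; norm_num)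
      (by rw [hc']; norm_num))
    (adj_of_ch h1 (by norm_num) (by norm_num) (by norm_num) (by norm_num) (by norm_num))
    (adj_of_ch h1 (by norm_num) (by norm_num) (by norm_num) (by norm_num) (by norm_num))
    (hn 2 13 (by norm_num) (by norm_num) (by norm_num) (by norm_num) (by norm_num) (by rw [hc']; norm_num)
      (by rw [hc']; norm_num))
    (hn 3 13 (by norm_num) (by norm_num) (by norm_num) (by norm_num) (by norm_num) (by rw [hc']; norm_num)
      (by rw [hc']; norm_num))

/-- `PSp4(7)` -/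
theorem kite_psp47 (F : Type) [Field F] [Fintype F] (hF : Fintype.card F = 7) : Kite (PSp 2 F) := by
  have hn := np_two (F := F) (p := 7) (n := 1) (by norm_num) (by rw [hF]; norm_num) (by omega)
  have hc := card_psp_two F
  rw [hF] at hc
  norm_num at hc
  have hc' : Nat.card (PSp 2 F) = 138297600 := by omega
  obtain ⟨h1, h2⟩ := chars_two F (a := 224) (b := 175) hF (by norm_num) (by norm_num) (by norm_num)
  exact Kite.mk 2 5 7 3 (by norm_num)
    (hn 2 5 (by norm_num) (by norm_num) (by norm_num) (by norm_num) (by norm_num) (by rw [hc']; norm_num)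
      (by rw [hc']; norm_num))
    (adj_of_ch h1 (by norm_num) (by norm_num) (by norm_num) (by norm_num) (by norm_num))
    (adj_of_ch h2 (by norm_num) (by norm_num) (by norm_num) (by norm_num) (by norm_num))
    (hn 2 3 (by norm_num) (by norm_num) (by norm_num) (by norm_num) (by norm_num) (by rw [hc']; norm_num)
      (by rw [hc']; norm_num))
    (hn 5 3 (by norm_num) (by norm_num) (by norm_num) (by norm_num) (by norm_num) (by rw [hc']; norm_num)
      (by rw [hc']; norm_num))

/-- `PSp4(9)` -/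
theorem kite_psp49 (F : Type) [Field F] [Fintype F] (hF : Fintype.card F = 9) : Kite (PSp 2 F) := by
  have hn := np_two (F := F) (p := 3) (n := 2) (by norm_num) (by rw [hF]; norm_num) (by omega)
  have hc := card_psp_two F
  rw [hF] at hc
  norm_num at hc
  have hc' : Nat.card (PSp 2 F) = 1721606400 := by omega
  obtain ⟨h1, h2⟩ := chars_two F (a := 450) (b := 369) hF (by norm_num) (by norm_num) (by norm_num)
  exact Kite.mk 2 5 3 41 (by norm_num)
    (hn 2 5 (by norm_num) (by norm_num) (by norm_num) (by norm_num) (by norm_num) (by rw [hc']; norm_num)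
      (by rw [hc']; norm_num))
    (adj_of_ch h1 (by norm_num) (by norm_num) (by norm_num) (by norm_num) (by norm_num))
    (adj_of_ch h1 (by norm_num) (by norm_num) (by norm_num) (by norm_num) (by norm_num))
    (hn 2 41 (by norm_num) (by norm_num) (by norm_num) (by norm_num) (by norm_num) (by rw [hc']; norm_num)
      (by rw [hc']; norm_num))
    (hn 5 41 (by norm_num) (by norm_num) (by norm_num) (by norm_num) (by norm_num) (by rw [hc']; norm_num)
      (by rw [hc']; norm_num))

/-- `PSp6(2)` -/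
theorem kite_psp62 (F : Type) [Field F] [Fintype F] (hF : Fintype.card F = 2) : Kite (PSp 3 F) := by
  obtain ⟨d, hd, h⟩ := tsp62 F hF
  have key : ∀ {m : ℕ}, m ∣ 210 → m ∣ d := fun h => h.trans hd
  exact Kite.mk 2 3 5 7 (by norm_num)
    (adj_of_ch h (by norm_num) (by norm_num) (by norm_num) (key (by norm_num)) (key (by norm_num)))
    (adj_of_ch h (by norm_num) (by norm_num) (by norm_num) (key (by norm_num)) (key (by norm_num)))
    (adj_of_ch h (by norm_num) (by norm_num) (by norm_num) (key (by norm_num)) (key (by norm_num)))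
    (adj_of_ch h (by norm_num) (by norm_num) (by norm_num) (key (by norm_num)) (key (by norm_num)))
    (adj_of_ch h (by norm_num) (by norm_num) (by norm_num) (key (by norm_num)) (key (by norm_num)))

/-- `PΩ8⁺(2)` -/
theorem kite_o8p2 (F : Type) [Field F] [Fintype F] (hF : Fintype.card F = 2) : Kite (POmega F (quadFormPlus 4 F)) := by
  have : Fact (Nat.Prime 2) := ⟨Nat.prime_two⟩
  have := char_eq (F := F) (p := 2) (n := 1) Nat.prime_two (by rw [hF]; norm_num)
  obtain ⟨d, hd, hd', -⟩ := plus_ch_top F (p := 2) (m := 4) le_rfl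
  obtain ⟨a, b, h1, h2, h3, h4⟩ := rk3_plus F (m := 4) le_rfl
  rw [Nat.card_eq_fintype_card, hF] at h3 h4 hd'
  norm_num at h3 h4
  have ha : a = 50 := by omega
  have hb : b = 84 := by omega
  subst ha
  subst hb
  have k3 : 3 ∣ d := hd' 3 (by norm_num) (by norm_num) (Dvd.dvd.trans (by norm_num) (D1_idx (q := 2) (m := 4) (i := 1) (by omega)))
  have k5 : 5 ∣ d := hd' 5 (by norm_num) (by norm_num) (Dvd.dvd.trans (by norm_num) (D1_idx (q := 2) (m := 4) (i := 1) (by omega)))
  have k7 : 7 ∣ d := hd' 7 (by norm_num) (by norm_num) (Dvd.dvd.trans (by norm_num) (D1_idx (q := 2) (m := 4) (i := 2) (by omega)))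
  exact Kite.mk 3 7 5 2 (by norm_num)
    (adj_of_ch hd (by norm_num) (by norm_num) (by norm_num) k3 k7)
    (adj_of_ch hd (by norm_num) (by norm_num) (by norm_num) k3 k5)
    (adj_of_ch hd (by norm_num) (by norm_num) (by norm_num) k7 k5)
    (adj_of_ch h2 (by norm_num) (by norm_num) (by norm_num) (by norm_num) (by norm_num))
    (adj_of_ch h2 (by norm_num) (by norm_num) (by norm_num) (by norm_num) (by norm_num))

/-! ### alternating groups -/

section alt

open Cfsg.Agent.H614 Cfsg.Agent.H600.AltDeg Cfsg.Agent.Characters.Core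

theorem kite_alt7 : Kite (alternatingGroup (Fin 7)) :=
  Kite.mk 3 7 2 5 (by norm_num) adj_three_seven_s (H600.AltDeg.adj_symm adj_two_three_s)
    (H600.AltDeg.adj_symm adj_two_seven_s) adj_three_five_s (H600.AltDeg.adj_symm adj_five_seven_s)

/-- the beta-set `{1, 2, 4, 7}` : degree 90 -/
theorem adj_three_five_e : Adj 3 5 (alternatingGroup (Fin 8)) := by
  have : Nontrivial (Fin 8) := Fin.nontrivial_iff_two_le.2 (by norm_num)
  have hγ : StrictMono (![1, 2, 4, 7] : Fin 4 → ℕ) := by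
    intro i j h
    fin_cases i <;> fin_cases j <;> simp_all
  have hs : ∑ i, (![1, 2, 4, 7] : Fin 4 → ℕ) i = Fintype.card (Fin 8) + ∑ i : Fin 4, (i : ℕ) := by
    simp [Fin.sum_univ_four]
  have hs' : ∑ i, (![1, 2, 4, 7] : Fin 4 → ℕ) i = 8 + ∑ i : Fin 4, (i : ℕ) := by
    simp [Fin.sum_univ_four]
  have hχ := isIrr_ch (α := Fin 8) hγ hs
  have h90 : FM (Multiset.replicate 8 1) (![1, 2, 4, 7] : Fin 4 → ℕ) = 90 := by
    have h1 := FM_ones_formula 8 (![1, 2, 4, 7] : Fin 4 → ℕ) hs'
    have e1 : ∏ i : Fin 4, (((![1, 2, 4, 7] : Fin 4 → ℕ) i).factorial : ℤ) = 241920 := by decide +kernel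
    have e2 : ((Nat.factorial 8 : ℕ) : ℤ) * ∏ i : Fin 4, ∏ j ∈ Finset.Ioi i, (((![1, 2, 4, 7] : Fin 4 → ℕ) j : ℤ) -
        (![1, 2, 4, 7] : Fin 4 → ℕ) i) = 90 * 241920 := by decide +kernel
    rw [e1, e2] at h1
    exact mul_right_cancel₀ (by norm_num) h1
  have hone : ch (Fin 8) (![1, 2, 4, 7] : Fin 4 → ℕ) 1 = 90 := by
    rw [ch_apply, ty_one, Fintype.card_fin, h90]
    norm_num
  obtain ⟨θ, hθ⟩ := _root_.Cfsg.Agent.H614.exists_constituent (alternatingGroup (Fin 8)) hχ
  have hdeg : (θ : alternatingGroup (Fin 8) → ℂ) 1 = (charDegree (θ : alternatingGroup (Fin 8) → ℂ) : ℂ) := by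
    obtain ⟨k, -, hk⟩ := isIrr_apply_one θ.2
    rw [H670.PSing.charDegree_eq_of hk, hk]
  have h15 : 3 * 5 ∣ charDegree (θ : alternatingGroup (Fin 8) → ℂ) := by
    rcases restrict_two (alternatingGroup (Fin 8)) alternatingGroup.index_eq_two hχ θ.2 hθ with h | ⟨h, -⟩
    · have h2 := h 1
      rw [OneMemClass.coe_one, hone, hdeg] at h2
      have h3 : 90 = charDegree (θ : alternatingGroup (Fin 8) → ℂ) := by exact_mod_cast h2
      rw [← h3]
      norm_num
    · rw [hone, hdeg] at h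
      have h3 : 90 = 2 * charDegree (θ : alternatingGroup (Fin 8) → ℂ) := by exact_mod_cast h
      omega
  exact adj_of_char Nat.prime_three Nat.prime_five (by norm_num) ⟨θ, h15⟩

theorem kite_alt8 : Kite (alternatingGroup (Fin 8)) :=
  Kite.mk 5 7 2 3 (by norm_num) adj_five_seven_e (H600.AltDeg.adj_symm adj_two_five_e)
    (H600.AltDeg.adj_symm adj_two_seven_e) (H600.AltDeg.adj_symm adj_three_five_e)
    (H600.AltDeg.adj_symm adj_three_seven_e)

theorem kite_alt_ge {n : ℕ} (hn : 9 ≤ n) : Kite (alternatingGroup (Fin n)) :=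
  Kite.mk 2 3 5 7 (by norm_num) (adj_two_three hn) (adj_two_five hn) (adj_three_five hn) (adj_two_seven hn)
    (adj_three_seven hn)

/-- alternating groups of degree at least seven -/
theorem kite_alt {n : ℕ} (hn : 7 ≤ n) : Kite (alternatingGroup (Fin n)) := by
  rcases Nat.lt_or_ge n 9 with h | h
  · interval_cases n
    · exact kite_alt7
    · exact kite_alt8
  · exact kite_alt_ge h

end alt

/-! ### the Mathieu group `M12` -/

theorem adj_of_im {S : Type u} [Group S] {d r s : ℕ} (h : IM d S) (hr : r.Prime) (hs : s.Prime) (hrs : r ≠ s)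
    (hd : r * s ∣ d) : Adj r s S := by
  obtain ⟨χ, hχ⟩ := h
  exact adj_iff.2 ⟨hrs, hr, hs, χ, hd.trans hχ⟩

theorem kite_m12 {S : Type u} [Group S] (h : Cfsg.Spor.IsoM12 S) : Kite S := by
  obtain ⟨e⟩ := h
  have h12 : IsM12 Spor.M12 := ⟨CpAutTThree.MTwelve.simple, CpAutTThree.MTwelve.card⟩
  have hcard : Nat.card Spor.M12 = 95040 := h12.2
  have : Finite Spor.M12 := Nat.finite_of_card_ne_zero (by rw [hcard]; norm_num)
  refine Kite.congr e ?_
  obtain ⟨⟨d, ⟨χ, hχ⟩, hd⟩, ⟨d', ⟨χ', hχ'⟩, hd'⟩⟩ := H417.DegMTwelve.exists_both h12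
  have h120 := H678.DG.Mathieu.exists_120 h12
  have h55 : IM 55 Spor.M12 := ⟨χ, by rw [hχ]; exact hd⟩
  have h33 : IM 33 Spor.M12 := ⟨χ', by rw [hχ']; exact hd'⟩
  exact Kite.mk 3 5 2 11 (by norm_num)
    (adj_of_im h120 (by norm_num) (by norm_num) (by norm_num) (by norm_num))
    (adj_of_im h120 (by norm_num) (by norm_num) (by norm_num) (by norm_num))
    (adj_of_im h120 (by norm_num) (by norm_num) (by norm_num) (by norm_num))
    (adj_of_im h33 (by norm_num) (by norm_num) (by norm_num) (by norm_num))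
    (adj_of_im h55 (by norm_num) (by norm_num) (by norm_num) (by norm_num))

end Cfsg.Agent.H679.Reg
end

-- part: H679/Reg/Pts
section
/-!
# Degrees from an orbital, a second criterion (helper679)

`class_invariant'`, `deg_of_pts'` : the versions of `Orbital.class_invariant`, `Pts.deg_of_pts` (helper678) which use an element
of even order fixing the two base points.
-/

set_option autoImplicit false

namespace Cfsg.Agent.H679.Reg.Pts

open Cfsg Equiv Cfsg.Agent.SporadicA.PermTab Cfsg.Agent.H678.DG Cfsg.Agent.H678.DG.Pts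
open Cfsg.Agent.H678.DG.Blk hiding chkW chkF chkB

universe u v

section inv

variable {G : Type u} [Group G] {Y : Type v} [MulAction G Y] {M n : ℕ}

theorem class_invariant' (y : Fin M → Y) (hinj : Function.Injective y) (i₀ : Fin M)
    (hcl : ∀ g : G, ∀ i, ∃ j, g • y i = y j)
    (K : Subgroup G) (hK : ∀ g ∈ K, g • y i₀ = y i₀) (cls : Fin M → Fin n) (r : Fin n → Fin M)
    (htr : ∀ i, ∃ g ∈ K, g • y (r (cls i)) = y i) (c₁ : Fin n) (s : ℕ)
    (hs : Nat.card (MulAction.stabilizer G (y i₀)) = s) (kk : Fin n → ℕ)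
    (hk : ∀ j, (Finset.univ.filter fun i => cls i = j).card = kk j)
    (h₀ : G) (h01 : h₀ • y i₀ = y i₀) (h02 : h₀ • y (r c₁) = y (r c₁)) (h03 : 2 ∣ orderOf h₀)
    (hdiv : ∀ J : Finset (Fin n), c₁ ∈ J → (∑ j ∈ J, kk j) * 2 ∣ s → J = {c₁}) :
    ∀ g : G, g • y i₀ = y i₀ → ∀ k k', cls k = c₁ → g • y k = y k' → cls k' = c₁ := by
  classical
  intro g hg k k' hk1 hgk
  set S := MulAction.stabilizer G (y i₀) with hS
  let O : Finset (Fin M) := Finset.univ.filter fun i => ∃ h ∈ S, h • y k = y i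
  let J : Finset (Fin n) := O.image cls
  have hmem : ∀ i, i ∈ O ↔ ∃ h ∈ S, h • y k = y i := fun i => by
    show i ∈ Finset.univ.filter _ ↔ _
    rw [Finset.mem_filter]
    exact ⟨fun h => h.2, fun h => ⟨Finset.mem_univ _, h⟩⟩
  -- the orbit is a union of classes
  have hunion : ∀ i j, i ∈ O → cls i = cls j → j ∈ O := by
    intro i j hi hij
    rw [hmem] at hi ⊢
    obtain ⟨h, hh, h1⟩ := hi
    obtain ⟨g1, hg1, h2⟩ := htr i
    obtain ⟨g2, hg2, h3⟩ := htr j
    refine ⟨g2 * g1⁻¹ * h, ?_, ?_⟩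
    · exact S.mul_mem (S.mul_mem (MulAction.mem_stabilizer_iff.2 (hK g2 hg2))
        (S.inv_mem (MulAction.mem_stabilizer_iff.2 (hK g1 hg1)))) hh
    · rw [mul_smul, h1, mul_smul, ← h2, inv_smul_smul, hij, h3]
  have hO : O = J.biUnion fun j => Finset.univ.filter fun i => cls i = j := by
    ext i
    rw [Finset.mem_biUnion]
    constructor
    · intro hi
      exact ⟨cls i, Finset.mem_image_of_mem _ hi, by simp only [_root_.Finset.mem_filter, _root_.Finset.mem_univ, _root_.and_self]⟩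
    · rintro ⟨j, hj, hi⟩
      obtain ⟨i', hi', rfl⟩ := Finset.mem_image.1 hj
      exact hunion i' i hi' (Finset.mem_filter.1 hi).2.symm
  have hcard : O.card = ∑ j ∈ J, kk j := by
    rw [hO, Finset.card_biUnion]
    · exact Finset.sum_congr rfl fun j _ => hk j
    · intro j _ j' _ hjj
      show Disjoint (Finset.univ.filter fun i => cls i = j) (Finset.univ.filter fun i => cls i = j')
      rw [Finset.disjoint_left]
      intro i h1 h2
      exact hjj ((Finset.mem_filter.1 h1).2.symm.trans (Finset.mem_filter.1 h2).2)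
  have horb : O.card * 2 ∣ s := by
    have h1 : O.card = (MulAction.orbit S (y k)).ncard := by
      have e : MulAction.orbit S (y k) = ((O.image y : Finset Y) : Set Y) := by
        ext z
        rw [Finset.mem_coe, Finset.mem_image]
        constructor
        · rintro ⟨h, rfl⟩
          obtain ⟨i, hi⟩ := hcl (h : G) k
          exact ⟨i, (hmem i).2 ⟨h, h.2, hi⟩, hi.symm⟩
        · rintro ⟨i, hi, rfl⟩
          obtain ⟨h, hh, h2⟩ := (hmem i).1 hi
          exact ⟨⟨h, hh⟩, h2⟩
      rw [e, Set.ncard_coe_finset, Finset.card_image_of_injective _ hinj]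
    rw [h1, ← hs, ← Nat.card_coe_set_eq, Nat.card_congr (MulAction.orbitEquivQuotientStabilizer S (y k)),
      ← Subgroup.index_eq_card, ← Subgroup.index_mul_card (MulAction.stabilizer S (y k))]
    refine Nat.mul_dvd_mul_left _ ?_
    obtain ⟨g1, hg1, h2⟩ := htr k
    rw [hk1] at h2
    have h3 : g1 * h₀ * g1⁻¹ ∈ S := S.mul_mem (S.mul_mem (MulAction.mem_stabilizer_iff.2 (hK g1 hg1))
      (MulAction.mem_stabilizer_iff.2 h01)) (S.inv_mem (MulAction.mem_stabilizer_iff.2 (hK g1 hg1)))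
    have h4 : (⟨g1 * h₀ * g1⁻¹, h3⟩ : S) ∈ MulAction.stabilizer S (y k) := by
      rw [MulAction.mem_stabilizer_iff]
      change (g1 * h₀ * g1⁻¹) • y k = y k
      rw [← h2, mul_smul, inv_smul_smul, mul_smul, h02]
    have h5 : orderOf (⟨⟨g1 * h₀ * g1⁻¹, h3⟩, h4⟩ : MulAction.stabilizer S (y k)) = orderOf h₀ := by
      rw [← Subgroup.orderOf_coe, ← Subgroup.orderOf_coe]
      change orderOf (g1 * h₀ * g1⁻¹) = _
      exact orderOf_injective (MulAut.conj g1).toMonoidHom (MulAut.conj g1).injective h₀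
    exact h03.trans (h5 ▸ orderOf_dvd_natCard _)
  have hc : c₁ ∈ J := Finset.mem_image.2 ⟨k, (hmem k).2 ⟨1, S.one_mem, one_smul _ _⟩, hk1⟩
  have hJ := hdiv J hc (hcard ▸ horb)
  have h2 : cls k' ∈ J := Finset.mem_image_of_mem _ ((hmem k').2 ⟨g, MulAction.mem_stabilizer_iff.2 hg, hgk⟩)
  rw [hJ, Finset.mem_singleton] at h2
  exact h2

theorem even_orderOf {G : Type u} [Group G] {α : Type v} [MulAction G α] {g : G} {i : α} (h1 : g • i ≠ i)
    (h2 : g • g • i = i) : 2 ∣ orderOf g := by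
  by_contra hodd
  have h3 : ∀ k : ℕ, g ^ (2 * k + 1) • i = g • i := by
    intro k
    induction k with
    | zero => rw [mul_zero, zero_add, pow_one]
    | succ k ih =>
      rw [show 2 * (k + 1) + 1 = 2 + (2 * k + 1) by ring, pow_add, mul_smul, ih, pow_two, mul_smul, h2]
  obtain ⟨k, hk⟩ : ∃ k, orderOf g = 2 * k + 1 := ⟨orderOf g / 2, by omega⟩
  have h4 := h3 k
  rw [← hk, pow_orderOf_eq_one, one_smul] at h4
  exact h1 h4.symm

end inv

variable {G : Type u} [Group G] [Finite G] {M n : ℕ}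

/-- **Degrees from a permutation representation**, with an element of even order. -/
theorem deg_of_pts' (φ : G →* Perm (Fin M)) {S : Type} (s : S → G) (A : S → ℕ → ℕ)
    (hA : ∀ x (i : Fin M), ((φ (s x) i : Fin M) : ℕ) = A x i) {KW : List (List S)} {bs : List ℕ} {pr kk : ℕ → ℕ}
    {γ : ℕ → List S} {c₁ : ℕ} {B : ℕ → ℕ → ℕ} {st : ℕ} (hcard : Nat.card G = M * st)
    (hM : 0 < M) (hM' : M < 65536) (hlab0 : lab bs 0 = 0) (hn : 0 < n) (hc₁ : c₁ < n)
    (hBB : ∀ i < n, ∀ j < n, B i j < 65536)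
    (h1 : allL (chkW A M bs) KW = true) (h2 : chkF A M bs KW pr = true) (h3 : chkK M n bs kk = true)
    (h4 : chkB A M n c₁ bs γ B = true)
    (hdiv : ∀ J : Finset (Fin n), ⟨c₁, hc₁⟩ ∈ J → (∑ j ∈ J, kk j) * 2 ∣ st → J = {⟨c₁, hc₁⟩})
    (w₀ : List S) (x₀ : ℕ) (hx₀ : x₀ < M) (hw1 : av A w₀ 0 = 0) (hw2 : av A w₀ (rt bs c₁) = rt bs c₁)
    (hw3 : av A w₀ x₀ ≠ x₀) (hw4 : av A w₀ (av A w₀ x₀) = x₀)
    (a : Fin n → ℚ) (t : ℚ) (L : Fin n → Fin n → ℚ) (d : ℕ)
    (ha : a ⟨0, hn⟩ = 1) (hBa : ∀ i : Fin n, ∑ j : Fin n, (B i j : ℚ) * a j = t * a i)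
    (hL : ∀ i j : Fin n, ∑ l : Fin n, L i l * ((B l j : ℚ) - if l = j then t else 0) =
      (if i = j then 1 else 0) - if j = ⟨0, hn⟩ then a i else 0)
    (hd : (d : ℚ) * ∑ j : Fin n, (kk j : ℚ) * (a j * a j) = M) :
    ∃ χ : IrrCharacter G, charDegree (χ : G → ℂ) = d := by
  classical
  let act : MulAction G (Fin M) := MulAction.compHom (Fin M) φ
  have hsm : ∀ (g : G) (i : Fin M), g • i = φ g i := fun _ _ => rfl
  -- words
  have hw : ∀ (w : List S) (i : Fin M), (((w.map s).prod • i : Fin M) : ℕ) = av A w i := by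
    intro w
    induction w with
    | nil => intro i; rw [List.map_nil, List.prod_nil, one_smul, av_nil]
    | cons x w ih =>
      intro i
      rw [List.map_cons, List.prod_cons, mul_smul, hsm (s x), hA, ih, av_cons]
  unfold chkK at h3
  rw [band_eq_true, band_eq_true, allB_iff, allB_iff, allB_iff] at h3
  obtain ⟨h5a, h5b, h5c⟩ := h3
  have hlt : ∀ x < M, lab bs x < n := fun x hx => Nat.blt_eq ▸ h5a x hx
  have hrt : ∀ j < n, rt bs j < M := fun j hj => Nat.blt_eq ▸ h5b j hj
  let z : Fin M := ⟨0, hM⟩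
  let K : Subgroup G :=
    { carrier := {g | g • z = z ∧ ∀ x : Fin M, lab bs (g • x : Fin M) = lab bs x}
      one_mem' := ⟨one_smul _ _, fun x => by rw [one_smul]⟩
      mul_mem' := by
        rintro a b ⟨h1, h2⟩ ⟨h3, h4⟩
        exact ⟨by rw [mul_smul, h3, h1], fun x => by rw [mul_smul, h2, h4]⟩
      inv_mem' := by
        rintro a ⟨h1, h2⟩
        refine ⟨by rw [inv_smul_eq_iff, h1], fun x => ?_⟩
        have h3 := h2 (a⁻¹ • x)
        rw [smul_inv_smul] at h3
        exact h3.symm }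
  have hK : ∀ g, g ∈ K ↔ g • z = z ∧ ∀ x : Fin M, lab bs (g • x : Fin M) = lab bs x := fun _ => Iff.rfl
  have hKW : ∀ w ∈ KW, (w.map s).prod ∈ K := by
    intro w hwK
    have h7 := (allL_iff _ _).1 h1 w hwK
    unfold chkW at h7
    rw [band_eq_true] at h7
    rw [hK]
    refine ⟨Fin.ext ?_, fun x => ?_⟩
    · rw [hw]
      exact Nat.eq_of_beq_eq_true h7.1
    · rw [hw]
      exact Nat.eq_of_beq_eq_true ((allB_iff _ _).1 h7.2 x x.2)
  unfold chkF at h2
  rw [allB_iff] at h2
  have hreach : ∀ x, ∀ hx : x < M, ∃ g ∈ K, g • (⟨rt bs (lab bs x), hrt _ (hlt x hx)⟩ : Fin M) = ⟨x, hx⟩ := by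
    intro x
    induction x using Nat.strong_induction_on with
    | _ x ih =>
      intro hx
      have h7 := h2 x hx
      rw [bor_iff, forceB_eq, band_eq_true, band_eq_true, anyB_iff] at h7
      rcases h7 with h7 | ⟨h7, h8, w, hwK, h9⟩
      · refine ⟨1, K.one_mem, ?_⟩
        rw [one_smul]
        exact Fin.ext (Nat.eq_of_beq_eq_true h7)
      · have h10 : pr x < x := Nat.blt_eq ▸ h7
        obtain ⟨g, hg, hgx⟩ := ih _ h10 (h10.trans hx)
        refine ⟨(w.map s).prod * g, K.mul_mem (hKW w hwK) hg, ?_⟩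
        have h11 : (⟨rt bs (lab bs x), hrt _ (hlt x hx)⟩ : Fin M) =
            ⟨rt bs (lab bs (pr x)), hrt _ (hlt _ (h10.trans hx))⟩ :=
          Fin.ext (congrArg (rt bs) (Nat.eq_of_beq_eq_true h8).symm)
        rw [h11, mul_smul, hgx]
        refine Fin.ext ?_
        rw [hw]
        exact Nat.eq_of_beq_eq_true h9
  unfold chkB at h4
  rw [allB_iff] at h4
  have hγ : ∀ i (hi : i < n), ((γ i).map s).prod • z = ⟨rt bs i, hrt i hi⟩ := by
    intro i hi
    have h7 := h4 i hi
    rw [band_eq_true] at h7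
    refine Fin.ext ?_
    rw [hw]
    exact Nat.eq_of_beq_eq_true h7.1
  have htrG : ∀ i : Fin M, ∃ g : G, g • z = i := by
    intro i
    obtain ⟨g, -, hg⟩ := hreach i i.2
    exact ⟨g * ((γ (lab bs i)).map s).prod, by rw [mul_smul, hγ _ (hlt i i.2), hg]⟩
  have hst : Nat.card (MulAction.stabilizer G z) = st := by
    have h7 : Nat.card (MulAction.orbit G z) = M := by
      have h8 : MulAction.orbit G z = Set.univ := by
        ext i
        exact ⟨fun _ => trivial, fun _ => htrG i⟩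
      rw [h8, Nat.card_coe_set_eq, Set.ncard_univ, Nat.card_eq_fintype_card, Fintype.card_fin]
    have h9 : Nat.card (MulAction.orbit G z) * Nat.card (MulAction.stabilizer G z) = Nat.card G := by
      rw [Nat.card_congr (MulAction.orbitEquivQuotientStabilizer G z), ← Subgroup.index_eq_card, mul_comm,
        Subgroup.card_mul_index]
    rw [h7, hcard] at h9
    exact Nat.eq_of_mul_eq_mul_left hM h9
  have hkk : ∀ j : Fin n, (Finset.univ.filter fun i : Fin M => (⟨lab bs i, hlt i i.2⟩ : Fin n) = j).card = kk j := by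
    intro j
    have h7 := (cntB_iff _ _ _).1 (h5c j j.2)
    rw [← h7, ← card_fin]
    congr 1
    ext i
    simp only [Finset.mem_filter, Finset.mem_univ, true_and, Fin.ext_iff]
    exact ⟨fun h => by rw [h]; exact Nat.beq_refl _, Nat.eq_of_beq_eq_true⟩
  have htr : ∀ i : Fin M, ∃ g ∈ K, g • (⟨rt bs (lab bs i), hrt _ (hlt i i.2)⟩ : Fin M) = i := fun i => hreach i i.2
  refine Orbital.deg_of_orbital (G := G) (Y := Fin M) (M := M) (n := n) (fun x => x) (fun _ _ h => h) z
    (fun g i => ⟨g • i, rfl⟩) htrG K (fun g hg => ((hK g).1 hg).1) (fun x => ⟨lab bs x, hlt x x.2⟩)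
    (fun j => ⟨rt bs j, hrt j j.2⟩) ?_ htr ⟨c₁, hc₁⟩ ?_ (fun i => ((γ i).map s).prod) (fun i => hγ i i.2)
    (fun i k => ((γ i).map s).prod • k) (fun i k => rfl) (fun i j => B i j) ?_ (fun j => kk j) hkk ⟨0, hn⟩ ?_ a t L d
    ha hBa hL hd
  · intro g hg i j hij
    rw [← hij]
    exact Fin.ext (((hK g).1 hg).2 i)
  · refine class_invariant' (G := G) (Y := Fin M) (fun x => x) (fun _ _ h => h) z (fun g i => ⟨g • i, rfl⟩) K
      (fun g hg => ((hK g).1 hg).1) (fun x => ⟨lab bs x, hlt x x.2⟩) (fun j => ⟨rt bs j, hrt j j.2⟩) htr ⟨c₁, hc₁⟩ st hst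
      (fun j => kk j) hkk (w₀.map s).prod ?_ ?_ ?_ hdiv
    · exact Fin.ext ((hw w₀ z).trans hw1)
    · exact Fin.ext ((hw w₀ _).trans hw2)
    · refine even_orderOf (i := (⟨x₀, hx₀⟩ : Fin M)) ?_ ?_
      · intro h
        have h7 := congrArg Fin.val h
        rw [hw] at h7
        exact hw3 h7
      · refine Fin.ext ?_
        rw [hw, hw]
        exact hw4
  · intro i j
    have h7 := h4 i i.2
    rw [band_eq_true] at h7
    rw [← card_of_pk hM' (fun j hj => hBB i i.2 j hj) (fun k hk _ => ?_) h7.2 j j.2]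
    · refine Finset.card_bij (fun k _ => (k : ℕ)) ?_ (fun k _ k' _ h => Fin.ext h) ?_
      · intro k hk
        rw [Finset.mem_filter] at hk ⊢
        refine ⟨Finset.mem_range.2 k.2, ?_, ?_⟩
        · have h8 : lab bs k = c₁ := congrArg Fin.val hk.2.1
          rw [h8]
          exact Nat.beq_refl _
        · have h8 := congrArg Fin.val hk.2.2
          have h9 : lab bs (((((γ i).map s).prod • k : Fin M)) : ℕ) = j := h8
          rwa [hw] at h9
      · intro k hk
        rw [Finset.mem_filter, Finset.mem_range] at hk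
        refine ⟨⟨k, hk.1⟩, ?_, rfl⟩
        rw [Finset.mem_filter]
        refine ⟨Finset.mem_univ _, Fin.ext (Nat.eq_of_beq_eq_true hk.2.1), Fin.ext ?_⟩
        show lab bs (((((γ i).map s).prod • (⟨k, hk.1⟩ : Fin M) : Fin M)) : ℕ) = j
        rw [hw]
        exact hk.2.2
    · have h8 := hw (γ i) ⟨k, hk⟩
      rw [← h8]
      exact hlt _ (Fin.is_lt _)
  · exact Fin.ext hlab0

end Cfsg.Agent.H679.Reg.Pts
end

-- part: H679/Reg/JTwoData
section
/-!
# Data for the action of the Hall-Janko group on 280 subsets of size 10 of the 100 points (helper679)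

Generated file. `SM` = masks of 100 bits, `qA` … `qE` = the action of the generators on the indices, `PR` = the parents.
-/

set_option autoImplicit false

namespace Cfsg.Agent.H679.Reg.JTwoData

/-- masks of the subsets -/
def SM : ℕ := 0x8000008120084802002040040000000411900500000042044000100000000820014200600200000000001880a008408204010000010424800200008040080000200c00000000c083400306000600000000000018030900000003000080200000600a0840000000060500a000000810050000800000000120221084000800000140284401000020805000008002050020200000220020000000000104058000541700980000000000000006000c08082022000000000800302800082000001020040001008c0100100000c000000300010303020028020400011000800000210880000850000002010200201800800000c0000018000810880a000010002040090002000901000000000822000848400808810088040080100400000004800100800000002040042103104801080240000180000000050100228000000108000005080288801000000000101000044c000210000420000008001c080100020000600028101002008100480001048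001001008000840020040040002804000002408812000000004012010048000288a05002001000000040000009050040020001000000102044400280000840000024000403020400002000000210040110c201002100800002000010002424808000000000100020608010300308000400808000000242400400000244002000a040002200202400000040000000a401050484000001018000000014202000000000180802000180300c01044000004000200004c000a090800000002021200100001810200000a0000401000020c80801100000a00000040000214420010000200044020000081110000000018000c00c00018a00000800120000200000a0011140400000000300040000660a00810a0001010000001800000060002000000228100000402112008000040084002000029088000600096060000000000000c0009000808800004820000028030100000020040008000140a080008000100804000001014052040002020c00018000000088030000001800000803800000c400080000400400140000846000006000000300020c01000030400000400140100000806060920000420080008020000008400000002006001600000014a000400080000010420080410090066010820080000000000003008001009000000012050080240080000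000848000001900120001200500000000140028840404008000502000002400000a00106000004400850000000c002011000000182001001000140004000000110100001281011108804180042000000000008208400100000000010104220480001008400002008004082018201202000008008800100001400000861c1800000000000a0040000202020000000a09000240004a04000000004200048201000010010000024208000c2200020100800a080048000002800110800000040220202000024000000048200304040200082008000a000000000880084420800048100000020100200050280100040142400010010000060000014100000080400100a050000000400000028100248881000200010012008200420008020110008000104000108400050080410008008240000040021000000220000018000210a0808200800448000010410000009002000440400a000000c0000110000040800000000842809021020001000010404021010002100200080011004000848002010800200002085000001800041500400018000010024000002280000400220000440802000810002030100240001800000820008185800005000000000004100000a140012040000010081000200100009000904010008401000001112000200001200804840004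0004080080040400042000002c2002108020000002100000024000000020508040c040014022800500000400000220204000400301000001200000504080048080802000008002040000020100008400210020304000005000000002048401202240401001008c000000800004401000c00a001000800200001200004911000040000000041420000048000008490000011090000020011068000800400020202001420840400000200000a0000040e8000040000000804812000020404000022050000028000020400a220010020000880400402002000800500800001800010900280002600000008082000410010000004805000009000080a0140082000004002084000408008000810040800048000020002400c02030000008220005010080004200800000844000400810008080402000006000038000c110000010000240000020203014000000a000801600010000030001000600003080040245020800000000840000008050180080040001021000100004c082000000000c4200008840312000000202010000000082028c0000900010080000000000f480000008403000000000024182000020c008040000000008c10440000200002410000401042860008000000022000000006b1000000080c80000000000060006038000c010000000000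00404800092021008200040004001400000010842a0000240040404000009200004400080020a2224000000000000500004001c10000021030400000000000600204c0c200008000000204414088010001400000000000000015000810090800500082021000082818400000000000128000c001000000120a00001010200000120000205022000208a0100080000100100101002000814000a84020000400000010040859004040200000000012241010001000000080440008900000212200000802400000000aa004040e20000000000000404401c0000200404020000080100800011000c0002005000000820000050001010094100000002004120080040101120004085100808000000020088000508000821000000000c010400400100810320c040000000000001420000808002004801100040005800800000440001404004888000081040001002800000100520022241200000000000004000000000093c420100000000000800880015000208011008000102000900000080582000208080141000000800200c000000020021400008202100900008013000002400220000420000020100004080220005080400201040208000000004242010008000000000003201c0e000003080100080811002001000000080000209000010840100240000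000000060060000306801004040000220000840202028000000220002800000908080a0000000a00000219001002021000002000002200821000280410085040000281004102000000001000809000007c0020000000048440000020000104002500000400000020086048008004400204210000400000090044800002004032504008000001000000000500000052800802084000820000041410000050420000024080030051040000010000000809010800006000d00000000244000040008140000403000000090021004403000000801000112480848020000800000000408080004082801020010000040080000081201404880000005000080820904000000a00000880002000000148348000000010008840000303000000044008000000100a0001204020110002220000450080810100000002091000041400020104000000300000001050058001040000008401838000012000020000001200040000010800050230000840000400120000500400240001200002608000220880000000122808000200018000040400080020000000209825200000005080400000400048080500000221010200200000024020100005200a00104080000001200000003000000030041ac00000001340000830000040210000000090020000060002028004100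00400902008100008001110004000800010240904020200000022000048088000804090000000800200004100090101804000040004c0082000240000a000240100000821010884000000000500000024a0240000500000004400110140040100000900002010400004000c8400048000044000002405020300020000000004000004224104040005000100000100804008a0108800001008400000204000a0428000020000200080d000408010100020000400100480012080c0008010020000000804b401000000900080001004420010010400002881100000020508010000010310088000002820400000000300000001f7000000000000060000000fe0800000000000000070000000000009c0e00000000067021000080100010000000060100000000c1203010000000006846000000200068000000011a8200000400802010000060000000018000840c0018000008014000000806001a4000000000019818300000000003000010000083040020410000840040000280041400802000c0000020000100c0202002400081002000030020110000180024000040040000000c401800d0000080088460000008104020000001008204100004003018000000001040000000486240120000090011c01000004008040000000a000100100c02800000140000025800400008520400000000010000800a01120008009000048000208002a00000400204000000008085012000140001400200002100260100400004010000000100a08420042000021000480040000000018025a00000044400620000010002840000000420805000001480102000000000000840c8308000008100008000010430220000800060000b000000c0001000300060000102a0002000009008018000009096800000000001000600000848900060000004200010000000000000000000000000ff5000000000000000000000000aff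

/-- action of the generator a -/
def qA : ℕ := 0x20443c6b10b21a388888de22c330898b6228428690ee20e2cc6a0e917845c6c0be17231c7e8f51763807b0c41c83e47e0c61823c8750c31d8420768ef19e3c4820d31ce32c728f719c448708fa1b6440520dc1be3686b9011b24546a9051d0424540d01d638c5810e1cc26c6489d1fc3d0570f81e02a87989f1424005a9031f62987f8a314a4305e89620c2b0548cd1563144c0b215e308588d11342e85b8dd1702785f8921802886409319429c4a0ad12a2d04b899138280488821102244608d1161d04708f10e218340620d82402188009a17c2c83c0b61c02505407e1483508a0821903287a0cc1442e08308a1d43488508e1bc388720b42103084c0fc1782786d0f618c3e8580aa1582b87805a1d8370500ba1383f8600641e4140480ce0e4358361020ac398350ee0e81787c0600f8230340661102003806e12c1703b07a0c42982a0840b013849052094130240460881082003e0500e80a0360440600f01c04c0901e02c0540d00403005c0301900e070040090160340281000600800800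

/-- action of the generator b -/
def qB : ℕ := 0x22c45c8a90e2184488410a206450809132004407e9111f83ec7f90421e3e08690b20a3cc8490720c3c07c9021d63b8748f41fc398788fa1c63d8760ed1ee37c7a8e81b63c86c8e41de35c700e11d434c6e8d11ce33c728cd1c432c650c81bc3186e0c51b43386c0c21ac354600d417e348680bd1863305d0c918e2dc620b5168304590b817c2bc5e0bb15a2e4588ab16c2a4598a7160294570a3158288550a01502984f0a41382844d09f1322744d8971302544b0941262444908f1202384688a116230428831021fc4487e1101e84387910c2103a8730ee2084006e0f61ac3e8690f819c360650de1e0318710ec1803a05e0e4174380640da1683086a0ae1a0330550a6188288580be13c2e04c0b612c2c8490ac11c230540a41102804209c1342004a07c1201e84507610c2083807e0e81c83c0680d81883705e0b81a82c0660c8150300520b41582604e0a0128240460881081e0380800d01f0320740d81802e0580a8120200500701301a0440780b0180240500800e0140300300800800800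

/-- action of the generator c -/
def qC : ℕ := 0x22643c8711422e4208890422c454811032164287f11220e3fc7d1102184347b8f420c424790f11e0414760eb2023bc751001cc3f47e0fb1ec388768f91f03d46f0db1ce3cc728d81ae3b86a8d41a63a4688dc1d0340670e41c6330708e01be31c6e8da188364668d6182320648ca1a42f85e8cf1762e8658b816e318628b6186308598c017e2f0570b41722b0558b01522d4538b2162298578a415a2a8508a813e2785289c1462884d8a013a2604b89a1322584a09512424c4889011c23c4608d10e228440891162003f083108208408860f02143b0770e41bc3707f0f81f4350740ce1ec368660f41e4388620c01d43085f0e61c02e05b0b41b03486b0d01582a8650c818c2905009e1782e84d0a6164250580ae1202a0450881442484e0821002604b0860f4238460780e82103f06e0f81a8340760c81c8380600d8188330560b81682905e09c16028054094130240460800f8220420780e81c0360600b81a03204c0901402c054078100220300580e01a0280400900c01c0280400400c00800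

/-- action of the generator d -/
def qD : ℕ := 0x22c45c8910d216454839092044048a1002263f4880fc2223ec7f0f91f043c8710c1e64148510820c3bc821031d43a4770e81fe394720e31f43d4708e01be3dc7b0f41b4364790f11e0358768ec1d63486e8d019e39c730cc196388648c718c378628dc1b630c610d81ae3006a8bf1a834c688bc19c3345c8ca1902d85a8c41662c8608b115e2f85e8ad1762e85c0aa16e2a05a0a614a2c0518ae1442b0558a415229c4e8a01362685089913e2784e09612a2604b8931282484888f12023447089116214460821002184507d0f42203c8870fe1d4420730ec20c4086d0d61ec3f0680f81983286c0c818c3c0700ee17c2f0740ba1c83886f0dc1642c0570d41a4338540a4144310610c01382605c09616c2d04808e158268550a610c2105009e1181f83e0941241e03b08a1101c0410800d81c83d0660e81802f06e0b4160350680a8190310500b81302b04a0a4138220420901181d0360681001903e0780e01602a0600b81101e0380a00d0260480800a012030058070100100180600a00401000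

/-- action of the generator e -/
def qE : ℕ := 0xda18c7a10b0e2410851080b44003286c228444731101ca1dc399120c41703810e0f83cc790d90f619c740550cc34c6b9151fc3f4670721be378738db0ba38c710f91da4248386f1d43a4270471de3b80c01d1d81587e07a1ea318240411ec32c0d05e09e3c4410be1a41080d83d182358340570c82dc638191743302f8840b62fc1e01718420c3f05307e0e0470901102141d83411e2944481106e2845500f01c2785300d0182881780b0560cc148300580b41502700e018028b01562c40a812116050548af10e200570bc16c334408860f22d4300ff1f63603f86e20c1ac3501e20a3c0899011c81e08b90c0ec1d4100c51f43dc868c322c40c1107d17a3407590217643c260211883687c0511681142a01f19e384250590801340e0d51c0110290460863286a04b1660f8640b915a0e81b0b214e0e4190ac1340d41709813a0c44b0971362544c80a128024040230481842c0690a01d06e049192344600dd1700584688a0262305401014828c5009f1380a0130251262484880400600800001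

/-- parents -/
def PR : ℕ := 0x22643c8710d21642083904204404809002003f47e8fc1f83ec7d0f91f03e07b8f41e63cc790f11e03bc760eb1d43a4748e81cc394720e31c6388708e01be37c6f0db1b43646c8d81ae3586a8d41a6348688d019e33c670cc19632c648c718c318628c518830c610c2182300600bf17e2f85e8bc1762e85c8b816e2d85a8b51662c8590b115e2bc570ad15a2b0558aa1522a0538a614a294518a3144288508a013e2784e89c1362684d0991322604b89612a2544a0931242444888f11c2344608910e214428821001fc3f07d0f41e83c8790f01d43a8730e41bc3706d0d61ac350680ce198328650c818c318620c017c2f05e0ba1742e05b0b41642c0570ae1582a8540a41442885009e1382604c09612c2504808e11c2304508810c210420821001f83e07c0f41e03b0760e81c03806e0d81a8340660c81802f05e0b41602c0560a81502905009c1302604a094128220420800f81d0360680d0190320600b81602a04c0901101e0380700d01a0300580a0120240400700c0100180300400400800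

end Cfsg.Agent.H679.Reg.JTwoData
end

-- part: H679/Reg/JTwoDeg
section
/-!
# The Hall-Janko group has an irreducible character of degree 126 (helper679)

The action on the 280 subsets of size 10 (fixed points of the elements of class 3A); the orbital of valency 108.
-/

set_option autoImplicit false
set_option maxRecDepth 100000

namespace Cfsg.Agent.H679.Reg.JTwoDeg

open Cfsg Equiv Cfsg.Agent.SporadicA.PermTab Cfsg.Agent.SporadicA.J2Data Cfsg.Agent.SporadicA.J2Hundred
open Cfsg.Agent.H679.Reg.JTwoData Cfsg.Agent.H678.DG.Blk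

/-- the mask of the subset -/
def mk (x : ℕ) : ℕ := Nat.land (Nat.shiftRight SM (Nat.mul 100 x)) 1267650600228229401496703205375

/-- the tables -/
def PQ : List (ℕ × ℕ) := [(tA, qA), (tB, qB), (tC, qC), (tD, qD), (tE, qE)]

theorem c1 : allL (chkPQ 100 280 mk) PQ = true := by decide +kernel
theorem c2 : chkInj 280 100 mk = true := by decide +kernel

theorem hGT : ∀ g ∈ gens, ∃ pq ∈ PQ, ∀ i : Fin 100, ((g i : Fin 100) : ℕ) = lk pq.1 i := by
  rintro g (rfl | rfl | rfl | rfl | rfl)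
  · exact ⟨(tA, qA), by simp [PQ], fun i => mkPerm_val tA tA iA i⟩
  · exact ⟨(tB, qB), by simp [PQ], fun i => mkPerm_val tB tB iB i⟩
  · exact ⟨(tC, qC), by simp [PQ], fun i => mkPerm_val tC tC iC i⟩
  · exact ⟨(tD, qD), by simp [PQ], fun i => mkPerm_val tD tD iD i⟩
  · exact ⟨(tE, qE), by simp [PQ], fun i => mkPerm_val tE tE iE i⟩

theorem inj : ∀ x < 280, ∀ y < 280, Fm 100 mk x = Fm 100 mk y → x = y := inj_of_chk (N := 100) c2

theorem cl : ∀ g : G, ∀ x < 280, ∃ y < 280, g • Fm 100 mk x = Fm 100 mk y :=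
  closed (GT := gens) rfl (by
    intro g hgT hg x hx
    obtain ⟨pq, hpq, hgi⟩ := hGT g hgT
    obtain ⟨h7, h8⟩ := cor_of_chkPQ ((allL_iff _ _).1 c1 pq hpq) (⟨g, hg⟩ : G) hgi x hx
    exact ⟨_, h7, h8⟩) inj

/-- the action on the indices -/
theorem exists_phi : ∃ φ : G →* Perm (Fin 280), ∀ (g : G) (i : Fin 280), g • Fm 100 mk i = Fm 100 mk (φ g i : Fin 280) := by
  have h1 : ∀ (g : G) (i : Fin 280), ∃ j : Fin 280, g • Fm 100 mk i = Fm 100 mk j := fun g i => by
    obtain ⟨y, hy, h⟩ := cl g i i.2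
    exact ⟨⟨y, hy⟩, h⟩
  choose f hf using h1
  have hinj : ∀ i j : Fin 280, Fm 100 mk i = Fm 100 mk j → i = j := fun i j h => Fin.ext (inj i i.2 j j.2 h)
  have hmul : ∀ (g h : G) i, f (g * h) i = f g (f h i) := fun g h i => by
    apply hinj
    rw [← hf, mul_smul, hf h, hf g]
  have hone : ∀ i, f 1 i = i := fun i => by
    apply hinj
    rw [← hf, one_smul]
  refine ⟨{ toFun := fun g => ⟨f g, f g⁻¹, fun i => ?_, fun i => ?_⟩, map_one' := ?_, map_mul' := fun g h => ?_ },
    fun g i => hf g i⟩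
  · rw [← hmul, inv_mul_cancel, hone]
  · rw [← hmul, mul_inv_cancel, hone]
  · ext i
    exact congrArg Fin.val (hone i)
  · ext i
    exact congrArg Fin.val (hmul g h i)

/-- the generators -/
def gen : Fin 5 → G := ![⟨pA, mA⟩, ⟨pB, mB⟩, ⟨pC, mC⟩, ⟨pD, mD⟩, ⟨pE, mE⟩]

/-- the tables of the generators -/
def tb' : Fin 5 → ℕ := ![qA, qB, qC, qD, qE]

/-- the action of the generators -/
def act' (x : Fin 5) (i : ℕ) : ℕ := lk (tb' x) i

theorem hA {φ : G →* Perm (Fin 280)} (hφ : ∀ (g : G) (i : Fin 280), g • Fm 100 mk i = Fm 100 mk (φ g i : Fin 280))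
    (x : Fin 5) (i : Fin 280) : ((φ (gen x) i : Fin 280) : ℕ) = act' x i := by
  have key : ∀ (g : G) (pq : ℕ × ℕ), pq ∈ PQ → (∀ i : Fin 100, (((g : Perm (Fin 100)) i : Fin 100) : ℕ) = lk pq.1 i) →
      ((φ g i : Fin 280) : ℕ) = lk pq.2 i := by
    intro g pq hpq hg
    obtain ⟨h7, h8⟩ := cor_of_chkPQ ((allL_iff _ _).1 c1 pq hpq) g hg i i.2
    rw [hφ] at h8
    exact inj _ (φ g i).2 _ h7 h8
  unfold act'
  fin_cases x
  · exact key _ (tA, qA) (by simp [PQ]) (fun i => mkPerm_val tA tA iA i)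
  · exact key _ (tB, qB) (by simp [PQ]) (fun i => mkPerm_val tB tB iB i)
  · exact key _ (tC, qC) (by simp [PQ]) (fun i => mkPerm_val tC tC iC i)
  · exact key _ (tD, qD) (by simp [PQ]) (fun i => mkPerm_val tD tD iD i)
  · exact key _ (tE, qE) (by simp [PQ]) (fun i => mkPerm_val tE tE iE i)

/-- the roots -/
def bs : List ℕ := [1, 37, 145]

/-- words of the stabiliser -/
def KW : List (List (Fin 5)) := [[1], [2], [3]]

/-- sizes -/
def kk (j : ℕ) : ℕ := [1, 36, 108, 135].getD j 0

/-- the collapsed matrix -/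
def B (i j : ℕ) : ℕ := ([[0, 0, 108, 0], [0, 12, 36, 60], [1, 12, 40, 55], [0, 16, 44, 48]].getD i []).getD j 0

/-- transversal -/
def ga (i : ℕ) : List (Fin 5) := [[], [4], [4, 3, 2, 3, 1, 2, 3, 4], [4, 3, 2, 3, 4]].getD i []

theorem d1 : allL (H678.DG.Pts.chkW act' 280 bs) KW = true := by decide +kernel
theorem d2 : H678.DG.Pts.chkF act' 280 bs KW (lk PR) = true := by decide +kernel
theorem d3 : chkK 280 4 bs kk = true := by decide +kernel
theorem d4 : H678.DG.Pts.chkB act' 280 4 2 bs ga B = true := by decide +kernel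

theorem deg_126 : ∃ χ : IrrCharacter G, charDegree (χ : G → ℂ) = 126 := by
  obtain ⟨φ, hφ⟩ := exists_phi
  exact H679.Reg.Pts.deg_of_pts' φ gen act' (hA hφ) (KW := KW) (bs := bs) (pr := lk PR) (kk := kk) (γ := ga) (c₁ := 2) (B := B)
    (st := 2160) (by rw [card_G]) (by norm_num) (by norm_num) rfl (by norm_num) (by norm_num) (by decide +kernel) d1 d2 d3 d4
    (by decide +kernel) [1] 3 (by norm_num) (by decide +kernel) (by decide +kernel) (by decide +kernel) (by decide +kernel)
    ![1, -1/9, 2/27, -1/27] 8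
    ![![0, 0, 0, 0], ![1/900, -11/100, 3/25, 0], ![1/108, 0, 0, 0], ![-19/3375, 3/125, -1/125, 0]] 126
    rfl (by decide +kernel) (by decide +kernel) (by decide +kernel)

end Cfsg.Agent.H679.Reg.JTwoDeg
end

-- part: H679/Reg/KiteJ2
section
/-!
# `Kite` for the Hall-Janko group (S4919, KFOUR-C, helper679 for helper670)

Degrees 90 and 126.
-/

set_option autoImplicit false

namespace Cfsg.Agent.H679.Reg

open Cfsg Cfsg.Agent.H671.H5 Cfsg.Agent.H670.Reg Cfsg.Agent.H672.SporIM

universe u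

/-- degrees of `J2` -/
theorem deg_j2 {S : Type u} [Group S] (h : Spor.IsoJ2 S) : IM 90 S ∧ IM 126 S := by
  obtain ⟨f⟩ := J2.HundredGens.J2_iso Cfsg.Agent.S1619.result.2.2.2
  obtain ⟨e⟩ := h
  have h2 : HasDeg S 90 := HasDeg.of_equiv (e.trans f) H678.DG.JTwoDeg.deg_90
  have h3 : HasDeg S 126 := HasDeg.of_equiv (e.trans f) JTwoDeg.deg_126
  exact ⟨H678.DG.Rows.im_of_hasDeg h2, H678.DG.Rows.im_of_hasDeg h3⟩

theorem kite_j2 {S : Type u} [Group S] (h : Spor.IsoJ2 S) : Kite S := by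
  obtain ⟨h1, h2⟩ := deg_j2 h
  exact Kite.mk 2 3 5 7 (by norm_num)
    (adj_of_im h1 (by norm_num) (by norm_num) (by norm_num) (by norm_num))
    (adj_of_im h1 (by norm_num) (by norm_num) (by norm_num) (by norm_num))
    (adj_of_im h1 (by norm_num) (by norm_num) (by norm_num) (by norm_num))
    (adj_of_im h2 (by norm_num) (by norm_num) (by norm_num) (by norm_num))
    (adj_of_im h2 (by norm_num) (by norm_num) (by norm_num) (by norm_num))

end Cfsg.Agent.H679.Reg
end

-- part: H670/Reg/Four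
section
/-!
# 3-regular degree graphs (S4919): simple groups with exactly four prime divisors (helper670)
-/

set_option autoImplicit false

namespace Cfsg.Agent.H670.Reg

open Cfsg Cfsg.Agent.OrdDiv Cfsg.Agent.H436

universe u v

/-- The rows of other helpers. -/
structure Rows4 : Prop where
  g23 : ∀ (S : Type v) [Group S] [Finite S] [IsSimpleGroup S], Real (.g2 3) S → Kite S
  d42 : ∀ (S : Type v) [Group S] [Finite S] [IsSimpleGroup S], Real (.td4 2) S → Kite S
  tits : ∀ (S : Type v) [Group S] [Finite S] [IsSimpleGroup S], Real .tits S → Kite S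
  m11 : ∀ (S : Type v) [Group S] [Finite S] [IsSimpleGroup S], Real .m11 S → Paw.{u, v} S
  l34 : ∀ (S : Type v) [Group S] [Finite S] [IsSimpleGroup S], Real (.psl 3 4) S → Paw.{u, v} S
  sz : ∀ (S : Type v) [Group S] [Finite S] [IsSimpleGroup S] (q : ℕ), Real (.sz q) S → (Nat.card S).primeFactors.card = 4 →
    Paw.{u, v} S

theorem card_pf (g : Grp) (h : (ordN g).primeFactors.card ≠ 4) {S : Type v} [Group S] (hn : IsNamed g S)
    (h4 : (Nat.card S).primeFactors.card = 4) : False := by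
  rw [hn.ord] at h4
  exact h h4

/-- **Exactly four prime divisors.** -/
theorem kiteFour (R : Rows4.{u, v})
    (hN : ∀ (S : Type v) [Group S] [Finite S] [IsSimpleGroup S], ¬ IsMulCommutative S → ∃ g, IsNamed g S) :
    FactKiteFour.{u, v} := by
  intro S _ _ hs hna hL h4
  obtain ⟨g, hg⟩ := hN S hna
  have hc := k_four hg (le_of_eq h4)
  rcases hc with ⟨q, rfl⟩ | ⟨q, rfl⟩ | hc
  · exfalso
    obtain ⟨F, iF, iF', hF, e⟩ := hg.real
    have h5 := hg.cond.2.1 rfl
    exact hL ⟨F, iF, iF', by rw [hF]; exact h5, e⟩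
  · exact Or.inr (R.sz S q hg.real h4)
  · simp only [KFL, List.mem_cons, List.not_mem_nil, or_false] at hc
    rcases hc with rfl | rfl | rfl | rfl | rfl | rfl | rfl | rfl | rfl | rfl | rfl | rfl | rfl | rfl | rfl | rfl |
      rfl | rfl | rfl | rfl | rfl | rfl | rfl | rfl | rfl | rfl | rfl | rfl | rfl | rfl | rfl | rfl | rfl | rfl |
      rfl | rfl | rfl | rfl | rfl | rfl | rfl
    · exact (card_pf _ (by decide +kernel) hg h4).elim
    · exact (card_pf _ (by decide +kernel) hg h4).elim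
    · obtain ⟨e⟩ := hg.real
      exact Or.inl (H679.Reg.Kite.congr e (H679.Reg.kite_alt (by norm_num)))
    · obtain ⟨e⟩ := hg.real
      exact Or.inl (H679.Reg.Kite.congr e (H679.Reg.kite_alt (by norm_num)))
    · obtain ⟨e⟩ := hg.real
      exact Or.inl (H679.Reg.Kite.congr e (H679.Reg.kite_alt (by norm_num)))
    · obtain ⟨e⟩ := hg.real
      exact Or.inl (H679.Reg.Kite.congr e (H679.Reg.kite_alt (by norm_num)))
    -- `PSL`
    · exact (card_pf _ (by decide +kernel) hg h4).elim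
    · exact (card_pf _ (by decide +kernel) hg h4).elim
    · exact Or.inr (R.l34 S hg.real)
    · obtain ⟨F, _, _, hF, ⟨e⟩⟩ := hg.real
      exact Or.inl (H128.KitePsl.kite_psl3 (Or.inl hF) e)
    · obtain ⟨F, _, _, hF, ⟨e⟩⟩ := hg.real
      exact Or.inl (H128.KitePsl.kite_psl3 (Or.inr (Or.inl hF)) e)
    · obtain ⟨F, _, _, hF, ⟨e⟩⟩ := hg.real
      exact Or.inl (H128.KitePsl.kite_psl3 (Or.inr (Or.inr (Or.inl hF))) e)
    · exact (card_pf _ (by decide +kernel) hg h4).elim
    · obtain ⟨F, _, _, hF, ⟨e⟩⟩ := hg.real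
      exact Or.inl (H128.KitePsl.kite_psl3 (Or.inr (Or.inr (Or.inr hF))) e)
    · obtain ⟨F, _, _, hF, ⟨e⟩⟩ := hg.real
      obtain ⟨e'⟩ := S0256.result hF
      exact Or.inl (H679.Reg.Kite.congr (e.trans e') (H679.Reg.kite_alt (by norm_num)))
    · obtain ⟨F, _, _, hF, ⟨e⟩⟩ := hg.real
      exact Or.inl (H128.KitePsl.kite_psl4 hF e)
    -- `PSp`
    · exact (card_pf _ (by decide +kernel) hg h4).elim
    · obtain ⟨F, _, _, hF, ⟨e⟩⟩ := hg.real
      exact Or.inl (H679.Reg.Kite.congr e (H679.Reg.kite_psp44 F hF))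
    · obtain ⟨F, _, _, hF, ⟨e⟩⟩ := hg.real
      exact Or.inl (H679.Reg.Kite.congr e (H679.Reg.kite_psp45 F hF))
    · obtain ⟨F, _, _, hF, ⟨e⟩⟩ := hg.real
      exact Or.inl (H679.Reg.Kite.congr e (H679.Reg.kite_psp47 F hF))
    · exact (card_pf _ (by decide +kernel) hg h4).elim
    · obtain ⟨F, _, _, hF, ⟨e⟩⟩ := hg.real
      exact Or.inl (H679.Reg.Kite.congr e (H679.Reg.kite_psp49 F hF))
    · exact (card_pf _ (by decide +kernel) hg h4).elim
    · obtain ⟨F, _, _, hF, ⟨e⟩⟩ := hg.real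
      exact Or.inl (H679.Reg.Kite.congr e (H679.Reg.kite_psp62 F hF))
    -- `PSU`
    · exact (card_pf _ (by decide +kernel) hg h4).elim
    · exact Or.inl (H791.Kite.kite_psu3 (q := 4) (by norm_num) hg.real)
    · exact Or.inl (H791.Kite.kite_psu3 (q := 5) (by norm_num) hg.real)
    · exact Or.inl (H791.Kite.kite_psu3 (q := 7) (by norm_num) hg.real)
    · exact Or.inl (H791.Kite.kite_psu3 (q := 8) (by norm_num) hg.real)
    · exact Or.inl (H791.Kite.kite_psu3 (q := 9) (by norm_num) hg.real)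
    · exact Or.inl (H791.Kite.kite_psu3 (q := 17) (by norm_num) hg.real)
    · exact (card_pf _ (by decide +kernel) hg h4).elim
    · exact Or.inl (H791.Kite.kite_psu4_3 hg.real)
    · exact Or.inl (H791.Kite.kite_psu5_2 hg.real)
    -- the others
    · obtain ⟨F, _, _, hF, ⟨e⟩⟩ := hg.real
      exact Or.inl (H679.Reg.Kite.congr e (H679.Reg.kite_o8p2 F hF))
    · exact Or.inl (R.g23 S hg.real)
    · exact Or.inl (R.d42 S hg.real)
    · exact Or.inl (R.tits S hg.real)
    · exact Or.inr (R.m11 S hg.real)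
    · exact Or.inl (H679.Reg.kite_m12 hg.real)
    · exact Or.inl (H679.Reg.kite_j2 hg.real)

end Cfsg.Agent.H670.Reg
end

private theorem dce_873423c93107 : _root_.True := by
  try have : _root_.True := by simp only [_root_.Cfsg.Agent.H436.KFL.eq_1]
  try have : _root_.True := by simp only [_root_.Cfsg.Agent.H679.Reg.JTwoDeg.PQ.eq_1]
  exact _root_.True.intro
end

-- part: H670/Reg/Solv
section
prune_inst 0x4946005701f2002000000801050000014700000000000000010a0050001031022000080000c000d0a102202000001002813000020400000000000040000010000808810042040000426001f801081080c00000000000000000000000000041000000000000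
set_option linter.all false
open scoped Cfsg.Agent.FastGrp

-- part: H670/Reg/Comb
section
/-!
# 3-regular degree graphs (S4919): combinatorics (helper670)

* `Cub A V` : `A` is a symmetric relation on the finite set `V` in which every element has exactly three neighbours;
* `Cub.even` : `V` has an even number of elements;
* `Cub.kite` : the combinatorics when `V` contains two triangles with a common edge;
* `Cub.clique`, `Cub.big` : the other cases of a simple group different from `PSL(2,q)`.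
-/

set_option autoImplicit false

namespace Cfsg.Agent.H670.Reg

/-- A symmetric relation on the finite set `V` in which every element has exactly three neighbours. -/
structure Cub (A : ℕ → ℕ → Prop) (V : Finset ℕ) : Prop where
  symm : ∀ {a b : ℕ}, A a b → A b a
  irr : ∀ a : ℕ, ¬ A a a
  mem : ∀ {a b : ℕ}, A a b → a ∈ V
  deg : ∀ a ∈ V, ∃ x y z : ℕ, x ≠ y ∧ x ≠ z ∧ y ≠ z ∧ A a x ∧ A a y ∧ A a z ∧ ∀ w, A a w → w = x ∨ w = y ∨ w = z

namespace Cub

variable {A : ℕ → ℕ → Prop} {V : Finset ℕ}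

theorem ne (h : Cub A V) {a b : ℕ} (hab : A a b) : a ≠ b := by
  rintro rfl
  exact h.irr _ hab

/-- three neighbours are all -/
theorem only (h : Cub A V) {v x y z : ℕ} (hx : A v x) (hy : A v y) (hz : A v z) (hxy : x ≠ y) (hxz : x ≠ z)
    (hyz : y ≠ z) {w : ℕ} (hw : A v w) : w = x ∨ w = y ∨ w = z := by
  obtain ⟨a, b, c, hab, hac, hbc, -, -, -, hall⟩ := h.deg v (h.mem hx)
  have h1 := hall x hx
  have h2 := hall y hy
  have h3 := hall z hz
  have h4 := hall w hw
  clear hall
  (clear * - hxy hxz hyz h1 h2 h3 h4; (solve | lia | omega))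

theorem four (h : Cub A V) {v x y z w : ℕ} (hx : A v x) (hy : A v y) (hz : A v z) (hw : A v w) (hxy : x ≠ y)
    (hxz : x ≠ z) (hyz : y ≠ z) (hxw : x ≠ w) (hyw : y ≠ w) (hzw : z ≠ w) : False := by
  rcases h.only hx hy hz hxy hxz hyz hw with h1 | h1 | h1
  · exact hxw h1.symm
  · exact hyw h1.symm
  · exact hzw h1.symm

/-- the third neighbour -/
theorem third (h : Cub A V) {v x y : ℕ} (hx : A v x) (hy : A v y) (hxy : x ≠ y) :
    ∃ z, x ≠ z ∧ y ≠ z ∧ A v z ∧ ∀ w, A v w → w = x ∨ w = y ∨ w = z := by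
  obtain ⟨a, b, c, hab, hac, hbc, ha, hb, hc, hall⟩ := h.deg v (h.mem hx)
  have h1 := hall x hx
  have h2 := hall y hy
  have key : ∀ z, A v z → x ≠ z → y ≠ z → ∃ z, x ≠ z ∧ y ≠ z ∧ A v z ∧ ∀ w, A v w → w = x ∨ w = y ∨ w = z :=
    fun z hz h3 h4 => ⟨z, h3, h4, hz, fun w hw => h.only hx hy hz hxy h3 h4 hw⟩
  by_cases e1 : x ≠ a ∧ y ≠ a
  · exact key a ha e1.1 e1.2
  by_cases e2 : x ≠ b ∧ y ≠ b
  · exact key b hb e2.1 e2.2
  refine key c hc ?_ ?_ <;> (clear * - hab hac hbc e1 e2; omega)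

/-- the other two neighbours -/
theorem second (h : Cub A V) {v x : ℕ} (hx : A v x) :
    ∃ y z, x ≠ y ∧ x ≠ z ∧ y ≠ z ∧ A v y ∧ A v z ∧ ∀ w, A v w → w = x ∨ w = y ∨ w = z := by
  obtain ⟨a, b, c, hab, hac, hbc, ha, hb, hc, hall⟩ := h.deg v (h.mem hx)
  have h1 := hall x hx
  have h5 : ∃ y, x ≠ y ∧ A v y := by
    by_cases e1 : x = a
    · exact ⟨b, by omega, hb⟩
    · exact ⟨a, e1, ha⟩
  obtain ⟨y, hxy, hy⟩ := h5
  obtain ⟨z, hxz, hyz, hz, hw⟩ := h.third hx hy hxy
  exact ⟨y, z, hxy, hxz, hyz, hy, hz, hw⟩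

/-- **parity** -/
theorem even (h : Cub A V) : Even V.card := by
  classical
  let Γ : SimpleGraph V :=
    { Adj := fun a b => A a b
      symm := ⟨fun a b hab => h.symm hab⟩
      loopless := ⟨fun a ha => h.irr _ ha⟩ }
  have hdeg : ∀ v : V, Γ.degree v = 3 := by
    intro v
    obtain ⟨x, y, z, hxy, hxz, hyz, hx, hy, hz, hall⟩ := h.deg v v.2
    have h1 : Γ.neighborFinset v = {(⟨x, h.mem (h.symm hx)⟩ : V), ⟨y, h.mem (h.symm hy)⟩, ⟨z, h.mem (h.symm hz)⟩} := by
      ext w
      rw [SimpleGraph.mem_neighborFinset]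
      simp only [Finset.mem_insert, Finset.mem_singleton]
      constructor
      · intro hw
        rcases hall w hw with h2 | h2 | h2
        · exact Or.inl (Subtype.ext h2)
        · exact Or.inr (Or.inl (Subtype.ext h2))
        · exact Or.inr (Or.inr (Subtype.ext h2))
      · rintro (h2 | h2 | h2)
        · rw [h2]; exact hx
        · rw [h2]; exact hy
        · rw [h2]; exact hz
    rw [SimpleGraph.degree, h1, Finset.card_insert_of_notMem, Finset.card_insert_of_notMem, Finset.card_singleton]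
    · simp only [Finset.mem_singleton]
      intro h2
      exact hyz (congrArg Subtype.val h2)
    · simp only [Finset.mem_insert, Finset.mem_singleton]
      rintro (h2 | h2)
      · exact hxy (congrArg Subtype.val h2)
      · exact hxz (congrArg Subtype.val h2)
  have h2 := Γ.sum_degrees_eq_twice_card_edges
  rw [Finset.sum_congr rfl fun v _ => hdeg v, Finset.sum_const, Finset.card_univ, Fintype.card_coe] at h2
  rw [Nat.even_iff]
  simp only [smul_eq_mul] at h2
  omega

theorem four_le (h : Cub A V) (hne : V.Nonempty) : 4 ≤ V.card := by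
  classical
  obtain ⟨v, hv⟩ := hne
  obtain ⟨x, y, z, hxy, hxz, hyz, hx, hy, hz, -⟩ := h.deg v hv
  have h1 : ({v, x, y, z} : Finset ℕ) ⊆ V := by
    intro w hw
    simp only [Finset.mem_insert, Finset.mem_singleton] at hw
    rcases hw with rfl | rfl | rfl | rfl
    · exact hv
    · exact h.mem (h.symm hx)
    · exact h.mem (h.symm hy)
    · exact h.mem (h.symm hz)
  have h2 : ({v, x, y, z} : Finset ℕ).card = 4 := by
    have e1 := h.ne hx
    have e2 := h.ne hy
    have e3 := h.ne hz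
    rw [Finset.card_insert_of_notMem, Finset.card_insert_of_notMem, Finset.card_insert_of_notMem, Finset.card_singleton]
    · simpa using hyz
    · simp [hxy, hxz]
    · simp [e1, e2, e3]
  rw [← h2]
  exact Finset.card_le_card h1

/-- A graph with four vertices is complete. -/
theorem complete (h : Cub A V) (h4 : V.card = 4) {a b : ℕ} (ha : a ∈ V) (hb : b ∈ V) (hab : a ≠ b) : A a b := by
  classical
  obtain ⟨x, y, z, hxy, hxz, hyz, hx, hy, hz, -⟩ := h.deg a ha
  by_contra hc
  have h1 : ({a, x, y, z, b} : Finset ℕ) ⊆ V := by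
    intro w hw
    simp only [Finset.mem_insert, Finset.mem_singleton] at hw
    rcases hw with rfl | rfl | rfl | rfl | rfl
    · exact ha
    · exact h.mem (h.symm hx)
    · exact h.mem (h.symm hy)
    · exact h.mem (h.symm hz)
    · exact hb
  have h2 : ({a, x, y, z, b} : Finset ℕ).card = 5 := by
    have e1 := h.ne hx
    have e2 := h.ne hy
    have e3 := h.ne hz
    have f1 : x ≠ b := by rintro rfl; exact hc hx
    have f2 : y ≠ b := by rintro rfl; exact hc hy
    have f3 : z ≠ b := by rintro rfl; exact hc hz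
    rw [Finset.card_insert_of_notMem, Finset.card_insert_of_notMem, Finset.card_insert_of_notMem,
      Finset.card_insert_of_notMem, Finset.card_singleton]
    · simpa using f3
    · simp [hyz, f2]
    · simp [hxy, hxz, f1]
    · simp [e1, e2, e3, hab]
  have h3 := Finset.card_le_card h1
  omega

/-- the case `w' ∈ P`, `z' ∉ P` of `kite` -/
theorem b3 (h : Cub A V) {P : Finset ℕ} (hO2 : ∀ x y, x ∉ P → y ∉ P → A x y → ∃ p ∈ P, A x p ∧ A y p)
    {u v w z w' z' : ℕ} (hPQ : ∀ t ∈ P, t = u ∨ t = v ∨ t = w ∨ t = z ∨ t = w' ∨ t = z')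
    (hV : ∀ x ∈ V, x ∉ P → x = w' ∨ x = z' ∨ (w' ∈ P ∧ A w' x) ∨ (z' ∈ P ∧ A z' x))
    (hinP : ∀ x, x ∉ P → x ≠ u ∧ x ≠ v ∧ x ≠ w ∧ x ≠ z) (huw' : u ≠ w') (hvw' : v ≠ w') (hw'w : w' ≠ w) (hw'z : w' ≠ z)
    (hww' : A w w') (hzz' : A z z')
    (Q1 : ∀ x, x ≠ v → x ≠ w → x ≠ z → ¬ A x u) (Q2 : ∀ x, x ≠ u → x ≠ w → x ≠ z → ¬ A x v)
    (Q3 : ∀ x, x ≠ u → x ≠ v → x ≠ w' → ¬ A x w) (Q4 : ∀ x, x ≠ u → x ≠ v → x ≠ z' → ¬ A x z)
    (hwP : w' ∈ P) (hzP : z' ∉ P) : False := by
  have hz' := hinP z' hzP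
  have hne : w' ≠ z' := by rintro rfl; exact hzP hwP
  -- vertices outside `P`
  have hV' : ∀ x ∈ V, x ∉ P → x = z' ∨ A w' x := by
    intro x hx hxP
    rcases hV x hx hxP with h1 | h1 | ⟨-, h1⟩ | ⟨h1, -⟩
    · exact absurd hwP (h1 ▸ hxP)
    · exact Or.inl h1
    · exact Or.inr h1
    · exact absurd h1 hzP
  have hPQ' : ∀ t ∈ P, t = u ∨ t = v ∨ t = w ∨ t = z ∨ t = w' := by
    intro t ht
    rcases hPQ t ht with h1 | h1 | h1 | h1 | h1 | h1
    · exact Or.inl h1
    · exact Or.inr (Or.inl h1)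
    · exact Or.inr (Or.inr (Or.inl h1))
    · exact Or.inr (Or.inr (Or.inr (Or.inl h1)))
    · exact Or.inr (Or.inr (Or.inr (Or.inr h1)))
    · exact absurd ht (h1 ▸ hzP)
  have inP : ∀ x t, x ∉ P → x ≠ z' → t ∈ P → A x t → t = w' := by
    intro x t hx hxz ht hxt
    have hh := hinP x hx
    rcases hPQ' t ht with rfl | rfl | rfl | rfl | h1
    · exact absurd hxt (Q1 x hh.2.1 hh.2.2.1 hh.2.2.2)
    · exact absurd hxt (Q2 x hh.1 hh.2.2.1 hh.2.2.2)
    · exact absurd hxt (Q3 x hh.1 hh.2.1 (by rintro rfl; exact hx hwP))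
    · exact absurd hxt (Q4 x hh.1 hh.2.1 hxz)
    · exact h1
  by_cases hA : A w' z'
  · obtain ⟨s, hs1, hs2, hs, Ns⟩ := h.third (h.symm hww') hA hz'.2.2.1.symm
    have hs3 := (h.ne hs).symm
    have e1 : s ≠ u := by rintro rfl; exact Q1 w' hvw'.symm hw'w hw'z hs
    have e2 : s ≠ v := by rintro rfl; exact Q2 w' huw'.symm hw'w hw'z hs
    have e3 : s ≠ z := by rintro rfl; exact Q4 w' huw'.symm hvw'.symm hne hs
    have hsP : s ∉ P := by
      intro h1
      rcases hPQ' s h1 with h2 | h2 | h2 | h2 | h2 <;> (clear * - e1 e2 e3 h2 hs1 hs3; omega)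
    have key : ∀ x, A s x → x = w' ∨ x = z' := by
      intro x hx
      have hxs := (h.ne hx).symm
      by_cases hxP : x ∈ P
      · exact Or.inl (inP s x hsP hs2.symm hxP hx)
      · rcases hV' x (h.mem (h.symm hx)) hxP with h1 | h1
        · exact Or.inr h1
        · have := Ns x h1
          have := hinP x hxP
          (solve | lia | omega)
    obtain ⟨x, y, h1, h2, h3, h4, h5, -⟩ := h.second (h.symm hs)
    have h6 := key x h4
    have h7 := key y h5
    omega
  · obtain ⟨x, y, h1, h2, h3, h4, h5, -⟩ := h.second (h.symm hzz')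
    have hxP : x ∉ P := by
      intro hxP
      rcases hPQ' x hxP with rfl | rfl | rfl | rfl | rfl
      · exact Q1 z' hz'.2.1 hz'.2.2.1 hz'.2.2.2 h4
      · exact Q2 z' hz'.1 hz'.2.2.1 hz'.2.2.2 h4
      · exact Q3 z' hz'.1 hz'.2.1 hne.symm h4
      · exact h1 rfl
      · exact hA (h.symm h4)
    obtain ⟨p, hp, hp1, hp2⟩ := hO2 z' x hzP hxP h4
    have hxz : x ≠ z' := (h.ne h4).symm
    have hh := hinP x hxP
    rcases hPQ' p hp with rfl | rfl | rfl | rfl | rfl
    · exact Q1 z' hz'.2.1 hz'.2.2.1 hz'.2.2.2 hp1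
    · exact Q2 z' hz'.1 hz'.2.2.1 hz'.2.2.2 hp1
    · exact Q3 z' hz'.1 hz'.2.1 hne.symm hp1
    · exact Q4 x hh.1 hh.2.1 hxz hp2
    · exact hA (h.symm hp1)

/-- **Two triangles with a common edge.** -/
theorem kite (h : Cub A V) {P : Finset ℕ} (hO1 : ∀ x ∈ V, x ∉ P → ∃ p ∈ P, A x p)
    (hO2 : ∀ x y, x ∉ P → y ∉ P → A x y → ∃ p ∈ P, A x p ∧ A y p)
    (hI : ∀ a ∈ P, ∀ b ∈ P, ∀ c ∈ P, a ≠ b → b ≠ c → a ≠ c → A a b ∨ A b c ∨ A a c)
    (hC : ∀ Q ⊆ P, Q.Nonempty → Q ≠ P → ∃ a ∈ Q, ∃ b ∈ P, b ∉ Q ∧ A a b)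
    {u v w z : ℕ} (hu : u ∈ P) (hv : v ∈ P) (hw : w ∈ P) (hz : z ∈ P) (hwz : w ≠ z) (huv : A u v) (huw : A u w)
    (hvw : A v w) (huz : A u z) (hvz : A v z) : V.card ≤ 4 := by
  classical
  have nuv := h.ne huv
  have nuw := h.ne huw
  have nvw := h.ne hvw
  have nuz := h.ne huz
  have nvz := h.ne hvz
  have Nu : ∀ x, A u x → x = v ∨ x = w ∨ x = z := fun x hx => h.only huv huw huz nvw nvz hwz hx
  have Nv : ∀ x, A v x → x = u ∨ x = w ∨ x = z := fun x hx => h.only (h.symm huv) hvw hvz nuw nuz hwz hx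
  by_cases hA : A w z
  · -- a closed complete graph
    have Nw : ∀ x, A w x → x = u ∨ x = v ∨ x = z := fun x hx =>
      h.only (h.symm huw) (h.symm hvw) hA nuv nuz nvz hx
    have Nz : ∀ x, A z x → x = u ∨ x = v ∨ x = w := fun x hx =>
      h.only (h.symm huz) (h.symm hvz) (h.symm hA) nuv nuw nvw hx
    set Q : Finset ℕ := {u, v, w, z} with hQ
    have hmQ : ∀ x, x ∈ Q ↔ x = u ∨ x = v ∨ x = w ∨ x = z := by
      intro x
      simp [hQ]
    have hQP : Q ⊆ P := by
      intro x hx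
      rcases (hmQ x).1 hx with rfl | rfl | rfl | rfl <;> assumption
    have hPQ : Q = P := by
      by_contra hne
      obtain ⟨a, ha, b, hb, hbQ, hab⟩ := hC Q hQP ⟨u, (hmQ u).2 (Or.inl rfl)⟩ hne
      apply hbQ
      rw [hmQ] at ha ⊢
      rcases ha with rfl | rfl | rfl | rfl
      · have := Nu b hab; omega
      · have := Nv b hab; (clear * - this; solve | lia | omega)
      · have := Nw b hab; (clear * - this; solve | lia | omega)
      · have := Nz b hab; (clear * - this; solve | lia | omega)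
    have hVQ : V ⊆ Q := by
      intro x hx
      by_contra hxQ
      obtain ⟨p, hp, hxp⟩ := hO1 x hx (hPQ ▸ hxQ)
      apply hxQ
      rw [← hPQ, hmQ] at hp
      have hpx := h.symm hxp
      rw [hmQ]
      rcases hp with rfl | rfl | rfl | rfl
      · have := Nu x hpx; (clear * - this; solve | lia | omega)
      · have := Nv x hpx; (clear * - this; solve | lia | omega)
      · have := Nw x hpx; (clear * - this; solve | lia | omega)
      · have := Nz x hpx; (clear * - this; solve | lia | omega)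
    exact (Finset.card_le_card hVQ).trans Finset.card_le_four
  exfalso
  obtain ⟨w', huw', hvw', hww', Nw⟩ := h.third (h.symm huw) (h.symm hvw) nuv
  obtain ⟨z', huz', hvz', hzz', Nz⟩ := h.third (h.symm huz) (h.symm hvz) nuv
  have hw'w := (h.ne hww').symm
  have hz'z := (h.ne hzz').symm
  have hw'z : w' ≠ z := by rintro rfl; exact hA hww'
  have hz'w : z' ≠ w := by rintro rfl; exact hA (h.symm hzz')
  -- neighbours inside `Q` of a vertex `x` outside `Q`
  have Q1 : ∀ x, x ≠ v → x ≠ w → x ≠ z → ¬ A x u := fun x h1 h2 h3 hx => by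
    have := Nu x (h.symm hx); omega
  have Q2 : ∀ x, x ≠ u → x ≠ w → x ≠ z → ¬ A x v := fun x h1 h2 h3 hx => by
    have := Nv x (h.symm hx); omega
  have Q3 : ∀ x, x ≠ u → x ≠ v → x ≠ w' → ¬ A x w := fun x h1 h2 h3 hx => by
    have := Nw x (h.symm hx); omega
  have Q4 : ∀ x, x ≠ u → x ≠ v → x ≠ z' → ¬ A x z := fun x h1 h2 h3 hx => by
    have := Nz x (h.symm hx); omega
  have hPQ : ∀ t ∈ P, t = u ∨ t = v ∨ t = w ∨ t = z ∨ t = w' ∨ t = z' := by
    intro t ht
    by_contra hcon
    push Not at hcon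
    obtain ⟨h1, h2, h3, h4, h5, h6⟩ := hcon
    rcases hI w hw z hz t ht hwz h4.symm h3.symm with h7 | h7 | h7
    · exact hA h7
    · exact Q4 t h1 h2 h6 (h.symm h7)
    · exact Q3 t h1 h2 h5 (h.symm h7)
  -- the vertices of `V` outside `P`
  have hV : ∀ x ∈ V, x ∉ P → x = w' ∨ x = z' ∨ (w' ∈ P ∧ A w' x) ∨ (z' ∈ P ∧ A z' x) := by
    intro x hx hxP
    have e1 : x ≠ u := by rintro rfl; exact hxP hu
    have e2 : x ≠ v := by rintro rfl; exact hxP hv
    have e3 : x ≠ w := by rintro rfl; exact hxP hw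
    have e4 : x ≠ z := by rintro rfl; exact hxP hz
    obtain ⟨p, hp, hxp⟩ := hO1 x hx hxP
    rcases hPQ p hp with rfl | rfl | rfl | rfl | rfl | rfl
    · exact absurd hxp (Q1 x e2 e3 e4)
    · exact absurd hxp (Q2 x e1 e3 e4)
    · left
      by_contra h5
      exact Q3 x e1 e2 h5 hxp
    · right; left
      by_contra h5
      exact Q4 x e1 e2 h5 hxp
    · exact Or.inr (Or.inr (Or.inl ⟨hp, h.symm hxp⟩))
    · exact Or.inr (Or.inr (Or.inr ⟨hp, h.symm hxp⟩))
  have hinP : ∀ x, x ∉ P → x ≠ u ∧ x ≠ v ∧ x ≠ w ∧ x ≠ z := by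
    intro x hx
    refine ⟨?_, ?_, ?_, ?_⟩ <;> rintro rfl <;> contradiction
  by_cases hwP : w' ∈ P <;> by_cases hzP : z' ∈ P
  · by_cases he : w' = z'
    · -- (b1)
      subst he
      obtain ⟨s, hs1, hs2, hs, Ns⟩ := h.third (h.symm hww') (h.symm hzz') hwz
      have hs3 := (h.ne hs).symm
      have e1 : s ≠ u := by rintro rfl; exact Q1 w' hvw'.symm hw'w hw'z hs
      have e2 : s ≠ v := by rintro rfl; exact Q2 w' huw'.symm hw'w hw'z hs
      obtain ⟨x, y, -, hsx, hsy, hxy, hx, hy, -⟩ :=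
        (show ∃ x y : ℕ, True ∧ w' ≠ x ∧ w' ≠ y ∧ x ≠ y ∧ A s x ∧ A s y ∧ True by
          obtain ⟨x, y, h1, h2, h3, h4, h5, -⟩ := h.second (h.symm hs)
          exact ⟨x, y, trivial, h1, h2, h3, h4, h5, trivial⟩)
      have hsP : s ∉ P := by
        intro h1
        rcases hPQ s h1 with h2 | h2 | h2 | h2 | h2 | h2 <;> (clear * - e1 h2 e2 hsx hsy hxy hs1 hs2 hs3; omega)
      have hxV := h.mem (h.symm hx)
      have key : ∀ x, w' ≠ x → A s x → False := by
        intro x hx1 hx
        have hxs := (h.ne hx).symm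
        by_cases hxP : x ∈ P
        · rcases hPQ x hxP with rfl | rfl | rfl | rfl | rfl | rfl
          · exact Q1 s e2 hs1.symm hs2.symm hx
          · exact Q2 s e1 hs1.symm hs2.symm hx
          · exact Q3 s e1 e2 hs3 hx
          · exact Q4 s e1 e2 hs3 hx
          · exact hx1 rfl
          · exact hx1 rfl
        · rcases hV x (h.mem (h.symm hx)) hxP with h1 | h1 | ⟨-, h1⟩ | ⟨-, h1⟩
          · exact hx1 h1.symm
          · exact hx1 h1.symm
          · have := Ns x h1
            have := hinP x hxP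
            omega
          · have := Ns x h1
            have := hinP x hxP
            omega
      exact key x hsx hx
    · -- (b2)
      have hst : A w' z' := by
        rcases hI u hu w' hwP z' hzP huw' he huz' with h1 | h1 | h1
        · exact absurd (h.symm h1) (Q1 w' hvw'.symm hw'w hw'z)
        · exact h1
        · exact absurd (h.symm h1) (Q1 z' hvz'.symm hz'w hz'z)
      obtain ⟨s, hs1, hs2, hs, Ns⟩ := h.third (h.symm hww') hst hz'w.symm
      obtain ⟨t, ht1, ht2, ht, Nt⟩ := h.third (h.symm hzz') (h.symm hst) hw'z.symm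
      have hs3 := (h.ne hs).symm
      have ht3 := (h.ne ht).symm
      have e1 : s ≠ u := by rintro rfl; exact Q1 w' hvw'.symm hw'w hw'z hs
      have e2 : s ≠ v := by rintro rfl; exact Q2 w' huw'.symm hw'w hw'z hs
      have e3 : s ≠ z := by rintro rfl; exact Q4 w' huw'.symm hvw'.symm he hs
      have hsP : s ∉ P := by
        intro h1
        rcases hPQ s h1 with h2 | h2 | h2 | h2 | h2 | h2 <;> (clear * - e1 e2 e3 h2 hs1 hs3 hs2; omega)
      -- all neighbours of `s` are `w'`, `z'`, `t`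
      have key : ∀ x, A s x → x = w' ∨ x = z' ∨ x = t := by
        intro x hx
        have hxs := (h.ne hx).symm
        by_cases hxP : x ∈ P
        · rcases hPQ x hxP with rfl | rfl | rfl | rfl | rfl | rfl
          · exact absurd hx (Q1 s e2 hs1.symm e3)
          · exact absurd hx (Q2 s e1 hs1.symm e3)
          · exact absurd hx (Q3 s e1 e2 hs3)
          · exact absurd hx (Q4 s e1 e2 hs2.symm)
          · exact Or.inl rfl
          · exact Or.inr (Or.inl rfl)
        · have hh := hinP x hxP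
          rcases hV x (h.mem (h.symm hx)) hxP with h1 | h1 | ⟨-, h1⟩ | ⟨-, h1⟩
          · exact Or.inl h1
          · exact Or.inr (Or.inl h1)
          · have := Ns x h1
            (clear * - hxs hh this; solve | lia | omega)
          · have := Nt x h1
            omega
      by_cases hst' : s = t
      · subst hst'
        obtain ⟨x, y, h1, h2, h3, h4, h5, -⟩ := h.second (h.symm hs)
        have h6 := key x h4
        have h7 := key y h5
        have h8 := h.ne h4
        have h9 := h.ne h5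
        (clear * - h1 h2 h3 h6 h7 h8 h9; solve | lia | omega)
      · obtain ⟨x, y, h1, h2, h3, h4, h5, -⟩ := h.second (h.symm hs)
        have h6 := key x h4
        have h7 := key y h5
        have h10 : ¬ A s z' := by
          intro h11
          have := Nt s (h.symm h11)
          (clear * - hs3 e3 hst' this; omega)
        have h11 : x ≠ z' := by rintro rfl; exact h10 h4
        have h12 : y ≠ z' := by rintro rfl; exact h10 h5
        omega
  · -- (b3)
    exact b3 h hO2 hPQ hV hinP huw' hvw' hw'w hw'z hww' hzz' Q1 Q2 Q3 Q4 hwP hzP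
  · refine b3 h hO2 (u := u) (v := v) (w := z) (z := w) (w' := z') (z' := w') ?_ ?_ ?_ huz' hvz' hz'z hz'w hzz' hww' ?_ ?_
      Q4 Q3 hzP hwP
    · intro t ht
      have := hPQ t ht
      (clear * - this; solve | lia | omega)
    · intro x hx hxP
      rcases hV x hx hxP with h1 | h1 | h1 | h1
      · exact Or.inr (Or.inl h1)
      · exact Or.inl h1
      · exact Or.inr (Or.inr (Or.inr h1))
      · exact Or.inr (Or.inr (Or.inl h1))
    · intro x hx
      have := hinP x hx
      omega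
    · exact fun x h1 h2 h3 => Q1 x h1 h3 h2
    · exact fun x h1 h2 h3 => Q2 x h1 h3 h2
  · -- (a)
    have hh := hinP w' hwP
    have hh' := hinP z' hzP
    have key : ∀ x, A w' x → x = w ∨ (x = z ∧ w' = z') ∨ x = z' := by
      intro x hx
      have hxs := (h.ne hx).symm
      by_cases hxP : x ∈ P
      · rcases hPQ x hxP with rfl | rfl | rfl | rfl | rfl | rfl
        · exact absurd hx (Q1 w' hh.2.1 hh.2.2.1 hh.2.2.2)
        · exact absurd hx (Q2 w' hh.1 hh.2.2.1 hh.2.2.2)
        · exact Or.inl rfl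
        · right; left
          refine ⟨rfl, ?_⟩
          by_contra hne
          exact Q4 w' hh.1 hh.2.1 hne hx
        · exact absurd hxP hwP
        · exact absurd hxP hzP
      · rcases hV x (h.mem (h.symm hx)) hxP with h1 | h1 | ⟨h1, -⟩ | ⟨h1, -⟩
        · exact absurd h1 hxs
        · exact Or.inr (Or.inr h1)
        · exact absurd h1 hwP
        · exact absurd h1 hzP
    obtain ⟨x, y, h1, h2, h3, h4, h5, -⟩ := h.second (h.symm hww')
    have h6 := key x h4
    have h7 := key y h5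
    have h8 := h.ne h4
    have h9 := h.ne h5
    (clear * - h1 h2 h3 h6 h7 h8 h9; solve | lia | omega)

/-- **A complete subset.** -/
theorem clique (h : Cub A V) {P : Finset ℕ} (hO1 : ∀ x ∈ V, x ∉ P → ∃ p ∈ P, A x p)
    (hO2 : ∀ x y, x ∉ P → y ∉ P → A x y → ∃ p ∈ P, A x p ∧ A y p) (h3 : 3 ≤ P.card)
    (hP : ∀ a ∈ P, ∀ b ∈ P, a ≠ b → A a b) : V.card ≤ 4 := by
  classical
  rcases Nat.lt_or_ge P.card 4 with h4 | h4
  · obtain ⟨a, b, c, hab, hac, hbc, rfl⟩ := Finset.card_eq_three.1 (show P.card = 3 by omega)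
    have ma : a ∈ ({a, b, c} : Finset ℕ) := by simp
    have mb : b ∈ ({a, b, c} : Finset ℕ) := by simp
    have mc : c ∈ ({a, b, c} : Finset ℕ) := by simp
    have hmem : ∀ x, x ∈ ({a, b, c} : Finset ℕ) ↔ x = a ∨ x = b ∨ x = c := by simp
    have Aab := hP a ma b mb hab
    have Aac := hP a ma c mc hac
    have Abc := hP b mb c mc hbc
    -- two different outside vertices have no common neighbour in `P`
    have key : ∀ x y p, x ∉ ({a, b, c} : Finset ℕ) → y ∉ ({a, b, c} : Finset ℕ) → x ≠ y → p ∈ ({a, b, c} : Finset ℕ) →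
        A x p → A y p → False := by
      intro x y p hx hy hxy hp hxp hyp
      rw [hmem] at hx hy hp
      push Not at hx hy
      rcases hp with rfl | rfl | rfl
      · exact h.four Aab Aac (h.symm hxp) (h.symm hyp) hbc hx.2.1.symm hx.2.2.symm hy.2.1.symm hy.2.2.symm hxy
      · exact h.four (h.symm Aab) Abc (h.symm hxp) (h.symm hyp) hac hx.1.symm hx.2.2.symm hy.1.symm hy.2.2.symm hxy
      · exact h.four (h.symm Aac) (h.symm Abc) (h.symm hxp) (h.symm hyp) hab hx.1.symm hx.2.1.symm hy.1.symm hy.2.1.symm hxy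
    have hin : ∀ x, x ∉ ({a, b, c} : Finset ℕ) → ∀ y, A x y → y ∈ ({a, b, c} : Finset ℕ) := by
      intro x hx y hxy
      by_contra hy
      obtain ⟨p, hp, h1, h2⟩ := hO2 x y hx hy hxy
      exact key x y p hx hy (h.ne hxy) hp h1 h2
    have hall : ∀ x ∈ V, x ∉ ({a, b, c} : Finset ℕ) → A x a := by
      intro x hxV hx
      obtain ⟨y1, y2, y3, h12, h13, h23, h5, h6, h7, -⟩ := h.deg x hxV
      have m1 := (hmem y1).1 (hin x hx y1 h5)
      have m2 := (hmem y2).1 (hin x hx y2 h6)
      have m3 := (hmem y3).1 (hin x hx y3 h7)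
      have : y1 = a ∨ y2 = a ∨ y3 = a := by (clear * - h12 h13 h23 m1 m2 m3; solve | lia | omega)
      rcases this with rfl | rfl | rfl <;> assumption
    have h1 : (V \ {a, b, c}).card ≤ 1 := by
      rw [Finset.card_le_one]
      intro x hx y hy
      rw [Finset.mem_sdiff] at hx hy
      by_contra hxy
      exact key x y a hx.2 hy.2 hxy ma (hall x hx.1 hx.2) (hall y hy.1 hy.2)
    have h2 := Finset.card_le_card_sdiff_add_card (s := V) (t := ({a, b, c} : Finset ℕ))
    omega
  · obtain ⟨Q, hQ, hQc⟩ := Finset.exists_subset_card_eq h4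
    obtain ⟨u, v, w, z, huv, huw, huz, hvw, hvz, hwz, rfl⟩ := Finset.card_eq_four.1 hQc
    have mu : u ∈ P := hQ (by simp)
    have mv : v ∈ P := hQ (by simp)
    have mw : w ∈ P := hQ (by simp)
    have mz : z ∈ P := hQ (by simp)
    refine h.kite hO1 hO2 (fun a ha b hb c hc hab _ _ => Or.inl (hP a ha b hb hab)) ?_ mu mv mw mz hwz
      (hP u mu v mv huv) (hP u mu w mw huw) (hP v mv w mw hvw) (hP u mu z mz huz) (hP v mv z mz hvz)
    intro R hR hne hRP
    obtain ⟨a, ha⟩ := hne
    obtain ⟨b, hb, hbR⟩ : ∃ b ∈ P, b ∉ R := by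
      by_contra hcon
      push Not at hcon
      exact hRP (Finset.Subset.antisymm hR hcon)
    refine ⟨a, ha, b, hb, hbR, hP a (hR ha) b hb ?_⟩
    rintro rfl
    exact hbR ha

/-- **Seven or more primes.** -/
theorem big (h : Cub A V) {P : Finset ℕ} (hPV : P ⊆ V)
    (hI : ∀ a ∈ P, ∀ b ∈ P, ∀ c ∈ P, a ≠ b → b ≠ c → a ≠ c → A a b ∨ A b c ∨ A a c)
    (hC : ∀ Q ⊆ P, Q.Nonempty → Q ≠ P → ∃ a ∈ Q, ∃ b ∈ P, b ∉ Q ∧ A a b) : P.card ≤ 6 := by
  classical
  by_contra h7
  push Not at h7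
  have hdeg : ∀ v ∈ P, ∀ N : Finset ℕ, (∀ x ∈ N, A v x) → N.card ≤ 3 := by
    intro v hv N hN
    obtain ⟨x, y, z, -, -, -, -, -, -, hall⟩ := h.deg v (hPV hv)
    have h1 : N ⊆ {x, y, z} := by
      intro w hw
      simpa using hall w (hN w hw)
    exact (Finset.card_le_card h1).trans Finset.card_le_three
  have hM : ∀ v ∈ P, ((P.erase v).filter fun x => ¬ A v x).card ≤ 3 := by
    intro v hv
    by_contra hcon
    push Not at hcon
    obtain ⟨Q, hQ, hQc⟩ := Finset.exists_subset_card_eq (show 4 ≤ ((P.erase v).filter fun x => ¬ A v x).card by omega)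
    have hQ' : ∀ x ∈ Q, x ∈ P ∧ x ≠ v ∧ ¬ A v x := by
      intro x hx
      have := hQ hx
      rw [Finset.mem_filter, Finset.mem_erase] at this
      exact ⟨this.1.2, this.1.1, this.2⟩
    have hQcl : ∀ x ∈ Q, ∀ y ∈ Q, x ≠ y → A x y := by
      intro x hx y hy hxy
      obtain ⟨h1, h2, h3⟩ := hQ' x hx
      obtain ⟨h4, h5, h6⟩ := hQ' y hy
      rcases hI v hv x h1 y h4 h2.symm hxy h5.symm with h8 | h8 | h8
      · exact absurd h8 h3
      · exact h8
      · exact absurd h8 h6
    obtain ⟨a, ha, b, hb, hbQ, hab⟩ := hC Q (fun x hx => (hQ' x hx).1) (Finset.card_pos.1 (by omega)) (by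
      rintro rfl
      exact (hQ' v hv).2.1 rfl)
    have h1 : (insert b (Q.erase a)).card = 4 := by
      rw [Finset.card_insert_of_notMem, Finset.card_erase_of_mem ha, hQc]
      intro h2
      exact hbQ (Finset.mem_of_mem_erase h2)
    have h2 := hdeg a (hQ' a ha).1 (insert b (Q.erase a)) (by
      intro x hx
      rw [Finset.mem_insert, Finset.mem_erase] at hx
      rcases hx with rfl | hx
      · exact hab
      · exact hQcl a ha x hx.2 hx.1.symm)
    omega
  have hN : ∀ v ∈ P, ((P.erase v).filter fun x => A v x).card = 3 ∧ P.card = 7 := by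
    intro v hv
    have h1 := hdeg v hv ((P.erase v).filter fun x => A v x) fun x hx => (Finset.mem_filter.1 hx).2
    have h2 := hM v hv
    have h3 := Finset.card_filter_add_card_filter_not (s := P.erase v) (p := fun x => A v x)
    rw [Finset.card_erase_of_mem hv] at h3
    omega
  have hcl : ∀ v ∈ P, ∀ w, A v w → w ∈ P := by
    intro v hv w hw
    obtain ⟨x, y, z, hxy, hxz, hyz, he⟩ := Finset.card_eq_three.1 (hN v hv).1
    have hm : ∀ t, t ∈ ((P.erase v).filter fun x => A v x) ↔ t = x ∨ t = y ∨ t = z := by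
      intro t
      rw [he]
      simp
    have hx := Finset.mem_filter.1 ((hm x).2 (Or.inl rfl))
    have hy := Finset.mem_filter.1 ((hm y).2 (Or.inr (Or.inl rfl)))
    have hz := Finset.mem_filter.1 ((hm z).2 (Or.inr (Or.inr rfl)))
    rcases h.only hx.2 hy.2 hz.2 hxy hxz hyz hw with rfl | rfl | rfl
    · exact Finset.mem_of_mem_erase hx.1
    · exact Finset.mem_of_mem_erase hy.1
    · exact Finset.mem_of_mem_erase hz.1
  have hP : Cub (fun a b => a ∈ P ∧ A a b) P := by
    refine ⟨fun {a b} hab => ⟨hcl a hab.1 b hab.2, h.symm hab.2⟩, fun a ha => h.irr a ha.2, fun {a b} hab => hab.1, ?_⟩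
    intro a ha
    obtain ⟨x, y, z, hxy, hxz, hyz, hx, hy, hz, hall⟩ := h.deg a (hPV ha)
    exact ⟨x, y, z, hxy, hxz, hyz, ⟨ha, hx⟩, ⟨ha, hy⟩, ⟨ha, hz⟩, fun w hw => hall w hw.2⟩
  have h1 := hP.even
  obtain ⟨v, hv⟩ : P.Nonempty := Finset.card_pos.1 (by omega)
  rw [(hN v hv).2] at h1
  exact absurd h1 (by decide)

end Cub

end Cfsg.Agent.H670.Reg
end

-- part: H670/Reg/CombS
section
/-!
# 3-regular degree graphs (S4919): combinatorics of the solvable case (helper670)

* `Cub.solv` : a 3-regular graph without three independent vertices has at most five vertices, or its complement is a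
  hexagon, or it is the disjoint union of two complete graphs on four vertices.
-/

set_option autoImplicit false

namespace Cfsg.Agent.H670.Reg.Cub

variable {R : ℕ → ℕ → Prop} {V : Finset ℕ}

/-- the neighbours -/
theorem nbr (h : Cub R V) {v : ℕ} (hv : v ∈ V) : ∃ N : Finset ℕ, N.card = 3 ∧ N ⊆ V ∧ v ∉ N ∧ ∀ w, w ∈ N ↔ R v w := by
  classical
  obtain ⟨x, y, z, hxy, hxz, hyz, hx, hy, hz, hall⟩ := h.deg v hv
  refine ⟨{x, y, z}, ?_, ?_, ?_, ?_⟩
  · rw [Finset.card_insert_of_notMem, Finset.card_insert_of_notMem, Finset.card_singleton]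
    · simpa using hyz
    · simp [hxy, hxz]
  · intro w hw
    simp only [Finset.mem_insert, Finset.mem_singleton] at hw
    rcases hw with rfl | rfl | rfl
    · exact h.mem (h.symm hx)
    · exact h.mem (h.symm hy)
    · exact h.mem (h.symm hz)
  · simp only [Finset.mem_insert, Finset.mem_singleton]
    rintro (rfl | rfl | rfl)
    · exact h.irr _ hx
    · exact h.irr _ hy
    · exact h.irr _ hz
  · intro w
    simp only [Finset.mem_insert, Finset.mem_singleton]
    constructor
    · rintro (rfl | rfl | rfl) <;> assumption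
    · exact hall w

/-- the two vertices which are not adjacent (six vertices) -/
theorem two (h : Cub R V) (h6 : V.card = 6) {v : ℕ} (hv : v ∈ V) : ∃ x ∈ V, ∃ y ∈ V, x ≠ y ∧ v ≠ x ∧ v ≠ y ∧ ¬ R v x ∧
    ¬ R v y ∧ ∀ z ∈ V, v ≠ z → ¬ R v z → z = x ∨ z = y := by
  classical
  obtain ⟨N, hN3, hNV, hvN, hN⟩ := h.nbr hv
  have h1 : (V \ insert v N).card = 2 := by
    rw [Finset.card_sdiff_of_subset (Finset.insert_subset hv hNV), Finset.card_insert_of_notMem hvN]
    omega
  obtain ⟨x, y, hxy, he⟩ := Finset.card_eq_two.1 h1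
  have hm : ∀ z, z ∈ V \ insert v N ↔ z ∈ V ∧ v ≠ z ∧ ¬ R v z := by
    intro z
    rw [Finset.mem_sdiff, Finset.mem_insert, hN]
    constructor
    · rintro ⟨h2, h3⟩
      push Not at h3
      exact ⟨h2, fun h => h3.1 h.symm, h3.2⟩
    · rintro ⟨h2, h3, h4⟩
      exact ⟨h2, by push Not; exact ⟨fun h => h3 h.symm, h4⟩⟩
  have hx := (hm x).1 (by rw [he]; simp)
  have hy := (hm y).1 (by rw [he]; simp)
  refine ⟨x, hx.1, y, hy.1, hxy, hx.2.1, hy.2.1, hx.2.2, hy.2.2, fun z hz hvz hR => ?_⟩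
  have h2 := (hm z).2 ⟨hz, hvz, hR⟩
  rw [he] at h2
  simpa using h2

/-- the second vertex which is not adjacent (six vertices) -/
theorem other (h : Cub R V) (h6 : V.card = 6) {v w : ℕ} (hv : v ∈ V) (hw : w ∈ V) (hvw : v ≠ w) (hR : ¬ R v w) :
    ∃ x ∈ V, x ≠ w ∧ v ≠ x ∧ ¬ R v x ∧ ∀ z ∈ V, v ≠ z → ¬ R v z → z = w ∨ z = x := by
  obtain ⟨x, hx, y, hy, hxy, hvx, hvy, hRx, hRy, hall⟩ := h.two h6 hv
  rcases hall w hw hvw hR with rfl | rfl
  · exact ⟨y, hy, hxy.symm, hvy, hRy, hall⟩
  · exact ⟨x, hx, hxy, hvx, hRx, fun z h1 h2 h3 => (hall z h1 h2 h3).symm⟩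

/-- **six vertices** -/
theorem hex (h : Cub R V) (h6 : V.card = 6)
    (hp : ∀ a ∈ V, ∀ b ∈ V, ∀ c ∈ V, a ≠ b → b ≠ c → a ≠ c → R a b ∨ R b c ∨ R a c) :
    ∃ a : Fin 6 → ℕ, Function.Injective a ∧ (∀ p, (∃ i, a i = p) ↔ p ∈ V) ∧ ∀ i, ¬ R (a i) (a (i + 1)) := by
  classical
  obtain ⟨a0, h0⟩ : V.Nonempty := Finset.card_pos.1 (by omega)
  obtain ⟨a1, h1, a5, h5, n15, n01, n05, r01, r05, all0⟩ := h.two h6 h0
  obtain ⟨a2, h2, n20, n12, r12, all1⟩ := h.other h6 h1 h0 n01.symm (fun h7 => r01 (h.symm h7))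
  obtain ⟨a4, h4, n40, n54, r54, all5⟩ := h.other h6 h5 h0 n05.symm (fun h7 => r05 (h.symm h7))
  have r15 : R a1 a5 := by
    rcases hp a0 h0 a1 h1 a5 h5 n01 n15 n05 with h7 | h7 | h7
    · exact absurd h7 r01
    · exact h7
    · exact absurd h7 r05
  have n25 : a2 ≠ a5 := by rintro rfl; exact r12 r15
  have n41 : a4 ≠ a1 := by rintro rfl; exact r54 (h.symm r15)
  have pick : ∀ S : Finset ℕ, S.card ≤ 5 → ∃ x ∈ V, x ∉ S := by
    intro S hS
    by_contra hcon
    push Not at hcon
    have h7 := Finset.card_le_card (show V ⊆ S from hcon)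
    omega
  have n24 : a2 ≠ a4 := by
    rintro rfl
    have all2 : ∀ z ∈ V, a2 ≠ z → ¬ R a2 z → z = a1 ∨ z = a5 := by
      obtain ⟨w, hw, hw1, hw2, hw3, hw4⟩ := h.other h6 h2 h1 n12.symm (fun h7 => r12 (h.symm h7))
      rcases hw4 a5 h5 n25 (fun h7 => r54 (h.symm h7)) with h7 | h7
      · exact absurd h7.symm n15
      · rw [← h7] at hw4
        exact hw4
    obtain ⟨x, hx, hxS⟩ := pick {a0, a1, a2, a5} ((Finset.card_le_four).trans (by norm_num))
    simp only [Finset.mem_insert, Finset.mem_singleton, not_or] at hxS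
    obtain ⟨x0, x1, x2, x5⟩ := hxS
    obtain ⟨y, hy, z, hz, hyz, hxy, hxz, ryx, rzx, -⟩ := h.two h6 hx
    have key : ∀ y ∈ V, x ≠ y → ¬ R x y → y ≠ a0 ∧ y ≠ a1 ∧ y ≠ a2 ∧ y ≠ a5 := by
      intro y hy hxy hR
      refine ⟨?_, ?_, ?_, ?_⟩
      · rintro rfl
        rcases all0 x hx hxy.symm (fun h7 => hR (h.symm h7)) with h7 | h7
        · exact x1 h7
        · exact x5 h7
      · rintro rfl
        rcases all1 x hx hxy.symm (fun h7 => hR (h.symm h7)) with h7 | h7
        · exact x0 h7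
        · exact x2 h7
      · rintro rfl
        rcases all2 x hx hxy.symm (fun h7 => hR (h.symm h7)) with h7 | h7
        · exact x1 h7
        · exact x5 h7
      · rintro rfl
        rcases all5 x hx hxy.symm (fun h7 => hR (h.symm h7)) with h7 | h7
        · exact x0 h7
        · exact x2 h7
    obtain ⟨y0, y1, y2, y5⟩ := key y hy hxy ryx
    obtain ⟨z0, z1, z2, z5⟩ := key z hz hxz rzx
    have h8 : ({a0, a1, a2, a5, x, y, z} : Finset ℕ).card ≤ 6 := by
      rw [← h6]
      apply Finset.card_le_card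
      intro t ht
      simp only [Finset.mem_insert, Finset.mem_singleton] at ht
      rcases ht with rfl | rfl | rfl | rfl | rfl | rfl | rfl <;> assumption
    have h9 : ({a0, a1, a2, a5, x, y, z} : Finset ℕ).card = 7 := by
      rw [Finset.card_insert_of_notMem, Finset.card_insert_of_notMem, Finset.card_insert_of_notMem,
        Finset.card_insert_of_notMem, Finset.card_insert_of_notMem, Finset.card_insert_of_notMem, Finset.card_singleton]
      · simpa using hyz
      · simp [hxy, hxz]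
      · simp only [Finset.mem_insert, Finset.mem_singleton, not_or]
        exact ⟨fun h => x5 h.symm, fun h => y5 h.symm, fun h => z5 h.symm⟩
      · simp only [Finset.mem_insert, Finset.mem_singleton, not_or]
        exact ⟨n25, fun h => x2 h.symm, fun h => y2 h.symm, fun h => z2 h.symm⟩
      · simp only [Finset.mem_insert, Finset.mem_singleton, not_or]
        exact ⟨n12, n15, fun h => x1 h.symm, fun h => y1 h.symm, fun h => z1 h.symm⟩
      · simp only [Finset.mem_insert, Finset.mem_singleton, not_or]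
        exact ⟨n01, fun h => n20 h.symm, n05, fun h => x0 h.symm, fun h => y0 h.symm, fun h => z0 h.symm⟩
    omega
  obtain ⟨a3, h3, hS⟩ := pick {a0, a1, a2, a4, a5} (Finset.card_le_five)
  simp only [Finset.mem_insert, Finset.mem_singleton, not_or] at hS
  obtain ⟨n30, n31, n32, n34, n35⟩ := hS
  have hset : ({a0, a1, a2, a3, a4, a5} : Finset ℕ) = V := by
    apply Finset.eq_of_subset_of_card_le
    · intro t ht
      simp only [Finset.mem_insert, Finset.mem_singleton] at ht
      rcases ht with rfl | rfl | rfl | rfl | rfl | rfl <;> assumption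
    · rw [h6]
      apply le_of_eq
      rw [Finset.card_insert_of_notMem, Finset.card_insert_of_notMem, Finset.card_insert_of_notMem,
        Finset.card_insert_of_notMem, Finset.card_insert_of_notMem, Finset.card_singleton]
      · simpa using n54.symm
      · simp only [Finset.mem_insert, Finset.mem_singleton, not_or]
        exact ⟨n34, n35⟩
      · simp only [Finset.mem_insert, Finset.mem_singleton, not_or]
        exact ⟨fun h => n32 h.symm, n24, n25⟩
      · simp only [Finset.mem_insert, Finset.mem_singleton, not_or]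
        exact ⟨n12, fun h => n31 h.symm, fun h => n41 h.symm, n15⟩
      · simp only [Finset.mem_insert, Finset.mem_singleton, not_or]
        exact ⟨n01, fun h => n20 h.symm, fun h => n30 h.symm, fun h => n40 h.symm, n05⟩
  have hV : ∀ z ∈ V, z = a0 ∨ z = a1 ∨ z = a2 ∨ z = a3 ∨ z = a4 ∨ z = a5 := by
    intro z hz
    rw [← hset] at hz
    simpa using hz
  -- the two vertices not adjacent to `a3`
  obtain ⟨x, hx, y, hy, hxy, h3x, h3y, rx, ry, -⟩ := h.two h6 h3
  have key : ∀ y ∈ V, a3 ≠ y → ¬ R a3 y → y = a2 ∨ y = a4 := by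
    intro y hy hxy hR
    rcases hV y hy with rfl | rfl | rfl | rfl | rfl | rfl
    · rcases all0 a3 h3 hxy.symm (fun h7 => hR (h.symm h7)) with h7 | h7
      · exact absurd h7 n31
      · exact absurd h7 n35
    · rcases all1 a3 h3 hxy.symm (fun h7 => hR (h.symm h7)) with h7 | h7
      · exact absurd h7 n30
      · exact absurd h7 n32
    · exact Or.inl rfl
    · exact absurd rfl hxy
    · exact Or.inr rfl
    · rcases all5 a3 h3 hxy.symm (fun h7 => hR (h.symm h7)) with h7 | h7
      · exact absurd h7 n30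
      · exact absurd h7 n34
  have r32 : ¬ R a3 a2 ∧ ¬ R a3 a4 := by
    rcases key x hx h3x rx with h7 | h7 <;> rcases key y hy h3y ry with h8 | h8
    · exact absurd (h7.trans h8.symm) hxy
    · exact ⟨h7 ▸ rx, h8 ▸ ry⟩
    · exact ⟨h8 ▸ ry, h7 ▸ rx⟩
    · exact absurd (h7.trans h8.symm) hxy
  have hr : ∀ p, (∃ i, (![a0, a1, a2, a3, a4, a5] : Fin 6 → ℕ) i = p) ↔ p ∈ V := by
    intro p
    constructor
    · rintro ⟨i, rfl⟩
      fin_cases i <;> simpa
    · intro hp'
      rcases hV p hp' with rfl | rfl | rfl | rfl | rfl | rfl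
      · exact ⟨0, rfl⟩
      · exact ⟨1, rfl⟩
      · exact ⟨2, rfl⟩
      · exact ⟨3, rfl⟩
      · exact ⟨4, rfl⟩
      · exact ⟨5, rfl⟩
  refine ⟨![a0, a1, a2, a3, a4, a5], ?_, hr, ?_⟩
  · have him : Finset.univ.image (![a0, a1, a2, a3, a4, a5] : Fin 6 → ℕ) = V := by
      ext p
      rw [← hr, Finset.mem_image]
      exact ⟨fun ⟨i, _, hi⟩ => ⟨i, hi⟩, fun ⟨i, hi⟩ => ⟨i, Finset.mem_univ _, hi⟩⟩
    have hinj := Finset.card_image_iff.1 (show (Finset.univ.image (![a0, a1, a2, a3, a4, a5] : Fin 6 → ℕ)).card =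
      (Finset.univ : Finset (Fin 6)).card by rw [him, h6, Finset.card_univ, Fintype.card_fin])
    exact fun i j hij => hinj (Finset.mem_coe.2 (Finset.mem_univ i)) (Finset.mem_coe.2 (Finset.mem_univ j)) hij
  · intro i
    fin_cases i
    · exact r01
    · exact r12
    · exact fun h7 => r32.1 (h.symm h7)
    · exact r32.2
    · exact fun h7 => r54 (h.symm h7)
    · exact fun h7 => r05 (h.symm h7)

/-- **The solvable case.** -/
theorem solv (h : Cub R V) (hp : ∀ a ∈ V, ∀ b ∈ V, ∀ c ∈ V, a ≠ b → b ≠ c → a ≠ c → R a b ∨ R b c ∨ R a c) :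
    V.card ≤ 5 ∨
    (∃ a : Fin 6 → ℕ, Function.Injective a ∧ (∀ p, (∃ i, a i = p) ↔ p ∈ V) ∧ ∀ i, ¬ R (a i) (a (i + 1))) ∨
    ∃ A B : Finset ℕ, A.card = 4 ∧ B.card = 4 ∧ Disjoint A B ∧ A ∪ B = V ∧ ∀ a ∈ A, ∀ b ∈ B, ¬ R a b := by
  classical
  by_cases h5 : V.card ≤ 5
  · exact Or.inl h5
  right
  by_cases h6 : V.card = 6
  · exact Or.inl (h.hex h6 hp)
  right
  have hev := h.even
  have h8 : 8 ≤ V.card := by
    obtain ⟨k, hk⟩ := hev
    omega
  obtain ⟨u, hu⟩ : V.Nonempty := Finset.card_pos.1 (by omega)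
  -- two vertices which are not adjacent
  have key : ∀ u ∈ V, ∀ v ∈ V, u ≠ v → ¬ R u v → ∀ N M : Finset ℕ, N.card = 3 → M.card = 3 → u ∉ N → v ∉ M →
      (∀ w, w ∈ N ↔ R u w) → (∀ w, w ∈ M ↔ R v w) → Disjoint (insert u N) (insert v M) ∧ insert u N ∪ insert v M = V := by
    intro u hu v hv huv hR N M hN hM huN hvM hNm hMm
    have h9 : insert u N ∪ insert v M = V := by
      apply Finset.Subset.antisymm
      · intro w hw
        rw [Finset.mem_union, Finset.mem_insert, Finset.mem_insert, hNm, hMm] at hw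
        rcases hw with (rfl | hw) | (rfl | hw)
        · exact hu
        · exact h.mem (h.symm hw)
        · exact hv
        · exact h.mem (h.symm hw)
      · intro w hw
        rw [Finset.mem_union, Finset.mem_insert, Finset.mem_insert, hNm, hMm]
        by_cases e1 : w = u
        · exact Or.inl (Or.inl e1)
        by_cases e2 : w = v
        · exact Or.inr (Or.inl e2)
        rcases hp u hu v hv w hw huv (fun e => e2 e.symm) (fun e => e1 e.symm) with e | e | e
        · exact absurd e hR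
        · exact Or.inr (Or.inr e)
        · exact Or.inl (Or.inr e)
    refine ⟨?_, h9⟩
    have h10 := Finset.card_union_add_card_inter (insert u N) (insert v M)
    rw [h9, Finset.card_insert_of_notMem huN, Finset.card_insert_of_notMem hvM, hN, hM] at h10
    rw [Finset.disjoint_iff_inter_eq_empty, ← Finset.card_eq_zero]
    omega
  obtain ⟨N, hN3, hNV, huN, hN⟩ := h.nbr hu
  obtain ⟨v, hv, hvS⟩ : ∃ v ∈ V, v ∉ insert u N := by
    by_contra hcon
    push Not at hcon
    have h7 := Finset.card_le_card (show V ⊆ insert u N from hcon)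
    rw [Finset.card_insert_of_notMem huN] at h7
    omega
  rw [Finset.mem_insert, not_or, hN] at hvS
  obtain ⟨M, hM3, hMV, hvM, hM⟩ := h.nbr hv
  obtain ⟨hd, hU⟩ := key u hu v hv (fun e => hvS.1 e.symm) hvS.2 N M hN3 hM3 huN hvM hN hM
  refine ⟨insert u N, insert v M, ?_, ?_, hd, hU, ?_⟩
  · rw [Finset.card_insert_of_notMem huN, hN3]
  · rw [Finset.card_insert_of_notMem hvM, hM3]
  · intro a ha b hb hab
    have hd' := Finset.disjoint_left.1 hd
    -- `a` is not adjacent to `v`
    have hav : ¬ R a v := by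
      intro e
      exact hd' ha (Finset.mem_insert_of_mem ((hM a).2 (h.symm e)))
    have hanv : a ≠ v := by
      rintro rfl
      exact hd' ha (Finset.mem_insert_self _ _)
    have haV : a ∈ V := by
      rw [← hU]
      exact Finset.mem_union_left _ ha
    rcases Finset.mem_insert.1 hb with rfl | hb'
    · exact hav hab
    · obtain ⟨L, hL3, hLV, haL, hL⟩ := h.nbr haV
      obtain ⟨hd2, -⟩ := key a haV v hv hanv hav L M hL3 hM3 haL hvM hL hM
      exact Finset.disjoint_left.1 hd2 (Finset.mem_insert_of_mem ((hL b).2 hab)) (Finset.mem_insert_of_mem hb')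

end Cfsg.Agent.H670.Reg.Cub
end

-- part: H670/Reg/GStar
section
/-!
# Multiplication by an extended character (S4919, helper670)

* `mul_irr` (Isaacs, Theorem 6.16 without invariance): `K` normal in `G`, `ψ ∈ Irr(K)`, `Θ` a character of `G` such that
  `φ = ψ Θ_K` is irreducible with the same inertia group; then `χ Θ` is irreducible for every `χ ∈ Irr(G | ψ)`;
* `gstar` : `K / R ≅ S ^ k` a normal subgroup of `G / R`: for every degree `d` of `G` some degree is divisible by `d` and a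
  prime divisor of `|S|`.
-/

set_option autoImplicit false

namespace Cfsg.Agent.H670.Reg

open Cfsg Cfsg.Agent.Characters.Core Cfsg.Agent.OddOrderCharacters.IndRes
  Cfsg.Agent.OddOrderCharacters.NormalInduced Cfsg.Agent.H671.H5 Cfsg.Agent.H681.DegBasic
open scoped ComplexConjugate commutatorElement

universe u v

theorem mul_irr {G : Type u} [Group G] [Fintype G] (K : Subgroup G) [hK : K.Normal] [Fintype K] {ψ : K → ℂ}
    (hψ : IsIrrCharacter K ψ) {Θ : G → ℂ} (hΘ : IsCharacter G Θ) (hφ : IsIrrCharacter K (ψ * res K Θ))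
    (hst : ∀ g : G, conjFn K (ψ * res K Θ) g = ψ * res K Θ → conjFn K ψ g = ψ) {χ : G → ℂ}
    (hχ : IsIrrCharacter G χ) (hin : classInner (res K χ) ψ ≠ 0) : IsIrrCharacter G (χ * Θ) := by
  classical
  have := finite_irr (G := G)
  have := Fintype.ofFinite (IrrCharacter G)
  have hΘc := isCharacter_isClassFunction hΘ
  set I := indFun K ψ with hI
  have hIc : IsCharacter G I := isCharacter_indFun K (isIrr_isCharacter hψ)
  -- the norms
  have h1 : classInner I I = classInner (I * Θ) (I * Θ) := by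
    rw [hI, ← indFun_mul K ψ hΘc, classInner_indFun_self K hψ, classInner_indFun_self K hφ]
    congr 2
    refine Nat.card_congr (Equiv.subtypeEquivRight fun g => ⟨fun hg => ?_, hst g⟩)
    have h2 : conjFn K (ψ * res K Θ) g = conjFn K ψ g * conjFn K (res K Θ) g := rfl
    rw [h2, hg, conjFn_res K hΘc]
  -- multiplicities
  choose n hn using fun β : IrrCharacter G => classInner_isNat hIc (isIrr_isCharacter β.2)
  choose a ha using fun β γ : IrrCharacter G =>
    classInner_isNat (isCharacter_mul (isIrr_isCharacter β.2) hΘ) (isCharacter_mul (isIrr_isCharacter γ.2) hΘ)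
  have hexp : I = ∑ β : IrrCharacter G, (n β : ℂ) • (β : G → ℂ) := by
    rw [classFunction_eq_sum (isCharacter_isClassFunction hIc)]
    exact Finset.sum_congr rfl fun β _ => by rw [hn β]
  have h2 : classInner I I = ∑ β : IrrCharacter G, (n β : ℂ) * n β := by
    rw [classInner_eq_sum (isCharacter_isClassFunction hIc) (isCharacter_isClassFunction hIc)]
    exact Finset.sum_congr rfl fun β _ => by rw [hn β, Complex.conj_natCast]
  have hexp' : I * Θ = ∑ β : IrrCharacter G, (n β : ℂ) • ((β : G → ℂ) * Θ) := by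
    rw [hexp, Finset.sum_mul]
    exact Finset.sum_congr rfl fun β _ => by rw [smul_mul_assoc]
  have h3 : classInner (I * Θ) (I * Θ) = ∑ β : IrrCharacter G, ∑ γ : IrrCharacter G, (n β : ℂ) * n γ * a β γ := by
    rw [hexp', classInner_sum_left]
    refine Finset.sum_congr rfl fun β _ => ?_
    rw [classInner_sum_right]
    refine Finset.sum_congr rfl fun γ _ => ?_
    rw [classInner_smul_left, classInner_smul_right, ha β γ, Complex.conj_natCast]
    ring
  have h4 : ∑ β : IrrCharacter G, n β * n β = ∑ β : IrrCharacter G, ∑ γ : IrrCharacter G, n β * n γ * a β γ := by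
    rw [h2, h3] at h1
    exact_mod_cast h1
  -- the diagonal terms
  have hpos : ∀ β : IrrCharacter G, n β ≠ 0 → 1 ≤ a β β := by
    intro β _
    rw [Nat.one_le_iff_ne_zero]
    intro h0
    have h5 := ha β β
    rw [h0, Nat.cast_zero] at h5
    have h6 := classInner_self_eq_zero h5
    -- `β Θ = 0`: then `Θ 1 = 0` and `ψ Θ_K = 0`
    have h7 := congrFun h6 1
    rw [Pi.mul_apply, Pi.zero_apply, mul_eq_zero] at h7
    rcases h7 with h7 | h7
    · exact isIrr_apply_one_ne_zero β.2 h7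
    · apply isIrr_apply_one_ne_zero hφ
      rw [Pi.mul_apply, res_apply]
      show ψ 1 * Θ 1 = 0
      rw [h7, mul_zero]
  have hle : ∀ β : IrrCharacter G, n β * n β * a β β ≤ ∑ γ : IrrCharacter G, n β * n γ * a β γ := fun β =>
    Finset.single_le_sum (f := fun γ => n β * n γ * a β γ) (fun _ _ => Nat.zero_le _) (Finset.mem_univ β)
  have hle2 : ∀ β : IrrCharacter G, n β * n β ≤ ∑ γ : IrrCharacter G, n β * n γ * a β γ := by
    intro β
    rcases Nat.eq_zero_or_pos (n β) with h0 | h0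
    · rw [h0]; simp only [_root_.MulZeroClass.mul_zero, _root_.MulZeroClass.zero_mul, _root_.Finset.sum_const_zero, _root_.Std.le_refl]
    · refine le_trans ?_ (hle β)
      exact Nat.le_mul_of_pos_right _ (hpos β h0.ne')
  have heq : ∀ β : IrrCharacter G, n β * n β = ∑ γ : IrrCharacter G, n β * n γ * a β γ := by
    intro β
    by_contra hne
    have h5 : ∑ β : IrrCharacter G, n β * n β < ∑ β : IrrCharacter G, ∑ γ : IrrCharacter G, n β * n γ * a β γ :=
      Finset.sum_lt_sum (fun β _ => hle2 β) ⟨β, Finset.mem_univ β, lt_of_le_of_ne (hle2 β) hne⟩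
    omega
  -- conclusion for `χ`
  let χ' : IrrCharacter G := ⟨χ, hχ⟩
  have hnχ : n χ' ≠ 0 := by
    intro h0
    apply hin
    have h5 := hn χ'
    rw [h0, Nat.cast_zero, hI, classInner_indFun_left K ψ (isIrr_isClassFunction χ'.2)] at h5
    rw [← classInner_conj_symm, h5, map_zero]
  have h5 := (hle χ').trans (heq χ').symm.le
  have h6 : a χ' χ' = 1 := by
    have h7 : 0 < n χ' * n χ' := Nat.mul_pos (Nat.pos_of_ne_zero hnχ) (Nat.pos_of_ne_zero hnχ)
    have h8 : a χ' χ' ≤ 1 := by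
      by_contra h9
      push Not at h9
      have h10 : n χ' * n χ' * 2 ≤ n χ' * n χ' * a χ' χ' := Nat.mul_le_mul_left _ h9
      omega
    exact le_antisymm h8 (hpos χ' hnχ)
  refine isIrr_of_classInner_self (isCharacter_mul (isIrr_isCharacter hχ) hΘ) ?_
  have h7 := ha χ' χ'
  rw [h6, Nat.cast_one] at h7
  exact h7

/-- A homomorphism from a power of a nonabelian simple group to an abelian group is trivial. -/
theorem hom_eq_one {S : Type v} [Group S] [IsSimpleGroup S] (hna : ¬ IsMulCommutative S) {k : ℕ} {B : Type*} [CommGroup B]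
    (f : (Fin k → S) →* B) : f = 1 := by
  have h1 : ⁅(⊤ : Subgroup S), (⊤ : Subgroup S)⁆ = ⊤ := by
    have hn : (commutator S).Normal := inferInstance
    rcases hn.eq_bot_or_eq_top with h | h
    · exfalso
      apply hna
      refine ⟨⟨fun a b => ?_⟩⟩
      have h2 : ⁅a, b⁆ ∈ commutator S := Subgroup.commutator_mem_commutator (Subgroup.mem_top a) (Subgroup.mem_top b)
      rw [h, Subgroup.mem_bot, commutatorElement_eq_one_iff_mul_comm] at h2
      exact h2
    · exact h
  have h2 : ⁅(⊤ : Subgroup (Fin k → S)), (⊤ : Subgroup (Fin k → S))⁆ = ⊤ := by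
    have h3 : Subgroup.pi Set.univ (fun _ : Fin k => (⊤ : Subgroup S)) = ⊤ := Subgroup.pi_top _
    have h4 := Subgroup.commutator_pi_pi_of_finite (η := Fin k) (Gs := fun _ => S) (fun _ => ⊤) (fun _ => ⊤)
    simp only [h1, h3] at h4
    exact h4
  ext x
  have hx : x ∈ ⁅(⊤ : Subgroup (Fin k → S)), (⊤ : Subgroup (Fin k → S))⁆ := by
    rw [h2]
    exact Subgroup.mem_top x
  have h5 : ⁅(⊤ : Subgroup (Fin k → S)), (⊤ : Subgroup (Fin k → S))⁆ ≤ f.ker := Abelianization.commutator_subset_ker f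
  rw [MonoidHom.one_apply]
  exact MonoidHom.mem_ker.1 (h5 hx)

/-- A homomorphism to an abelian group, trivial on the kernel of a surjection onto a power of a nonabelian simple group,
is trivial. -/
theorem hom_eq_one' {K L : Type u} [Group K] [Group L] {S : Type v} [Group S] [IsSimpleGroup S]
    (hna : ¬ IsMulCommutative S) {k : ℕ} (e : L ≃* (Fin k → S)) {B : Type*} [CommGroup B] (π : K →* L)
    (hπ : Function.Surjective π) (f : K →* B) (hf : ∀ x, π x = 1 → f x = 1) : f = 1 := by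
  let g : (Fin k → S) →* B := (QuotientGroup.lift π.ker f hf).comp
    ((QuotientGroup.quotientKerEquivOfSurjective π hπ).symm.toMonoidHom.comp e.symm.toMonoidHom)
  have h1 : g = 1 := hom_eq_one hna g
  ext x
  have h2 : g (e (π x)) = f x := by
    show QuotientGroup.lift π.ker f hf ((QuotientGroup.quotientKerEquivOfSurjective π hπ).symm (e.symm (e (π x)))) = f x
    rw [e.symm_apply_apply]
    have h3 : (QuotientGroup.quotientKerEquivOfSurjective π hπ).symm (π x) = (x : K ⧸ π.ker) := by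
      rw [MulEquiv.symm_apply_eq]
      rfl
    rw [h3]
    rfl
  rw [← h2, h1]
  rfl

/-- **Every degree divides a degree divisible by a prime divisor of the order of the simple group.** -/
theorem gstar (hE : FactExt.{0}) {G : Type u} [Group G] [Finite G] (R : Subgroup G) [R.Normal] (L : Subgroup (G ⧸ R))
    [L.Normal] {S : Type} [Group S] [Finite S] [IsSimpleGroup S] (hna : ¬ IsMulCommutative S) {k : ℕ} (hk : 1 ≤ k)
    (e : L ≃* (Fin k → S)) {d : ℕ} (hd : d ∈ charDegrees G) :
    ∃ p : ℕ, p.Prime ∧ p ∣ Nat.card S ∧ ∃ d' ∈ charDegrees G, d ∣ d' ∧ p ∣ d' := by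
  classical
  have := Fintype.ofFinite G
  by_cases hcop : ∃ p : ℕ, p.Prime ∧ p ∣ Nat.card S ∧ p ∣ d
  · obtain ⟨p, hp, hpS, hpd⟩ := hcop
    exact ⟨p, hp, hpS, d, hd, dvd_rfl, hpd⟩
  push Not at hcop
  obtain ⟨χ, hχ, hχ1⟩ := mem_charDegrees.1 hd
  -- the preimage of `L`
  set K : Subgroup G := L.comap (QuotientGroup.mk' R) with hK
  have := Fintype.ofFinite K
  set N : Subgroup K := R.subgroupOf K with hN
  have := Fintype.ofFinite N
  let π : K →* L := (QuotientGroup.mk' R).subgroupComap L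
  have hπ : Function.Surjective π := by
    rintro ⟨y, hy⟩
    obtain ⟨x, rfl⟩ := QuotientGroup.mk'_surjective R y
    exact ⟨⟨x, hy⟩, rfl⟩
  have hπ1 : ∀ x : K, π x = 1 ↔ x ∈ N := by
    intro x
    rw [hN, Subgroup.mem_subgroupOf, ← QuotientGroup.eq_one_iff]
    constructor
    · intro h
      exact congrArg Subtype.val h
    · intro h
      exact Subtype.ext h
  have hidx : N.index = Nat.card S ^ k := by
    have h1 : N = π.ker := by
      ext x
      rw [MonoidHom.mem_ker, hπ1]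
    rw [h1, Subgroup.index_ker, MonoidHom.range_eq_top.2 hπ, Nat.card_congr Subgroup.topEquiv.toEquiv, Nat.card_congr e.toEquiv,
      Nat.card_fun]
    simp only [_root_.Nat.card_eq_fintype_card, _root_.Fintype.card_fin]
  obtain ⟨ψ, d1, hψ, hψ1, hin, hd1, -⟩ := exists_constituent K hχ hχ1
  obtain ⟨θ, d2, hθ, hθ1, hin2, hd2, hidx2⟩ := exists_constituent N hψ hψ1
  have hd0 : 0 < d := pos_of_mem hd
  have hd10 : 0 < d1 := Nat.pos_of_dvd_of_pos hd1 hd0
  have h12 : d1 = d2 := by
    have h1 : d1 / d2 = 1 := by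
      by_contra h
      obtain ⟨p, hp, hpd⟩ := Nat.exists_prime_and_dvd h
      rw [hidx] at hidx2
      exact hcop p hp (hp.dvd_of_dvd_pow (hpd.trans hidx2)) ((hpd.trans (Nat.div_dvd_of_dvd hd2)).trans hd1)
    have := Nat.div_mul_cancel hd2
    rw [h1, one_mul] at this
    exact this.symm
  have hres : (fun x : N => ψ x) = θ := restrict_eq_of_degree N (isIrr_isCharacter hψ) hθ hin2 (by rw [hψ1, hθ1, h12])
  have hψN : IsIrrCharacter N (fun x : N => ψ x) := by rw [hres]; exact hθ
  -- the extended character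
  obtain ⟨α, hα1, hα⟩ := hE S hna
  obtain ⟨Θ, hΘd, hΘv⟩ := H671.CopRed.exists_power R L hna e hα
  have hΘc : IsClassFunction G (Θ : G → ℂ) := isIrr_isClassFunction Θ.2
  have hΘ1 : (Θ : G → ℂ) 1 ≠ 0 := isIrr_apply_one_ne_zero Θ.2
  have hΘR : ∀ x : K, x ∈ N → (Θ : G → ℂ) x = (Θ : G → ℂ) 1 := by
    intro x hx
    have h1 : ((x : G) : G ⧸ R) = 1 := (QuotientGroup.eq_one_iff _).2 hx
    have h2 := hΘv x (by rw [h1]; exact one_mem _)
    have h3 := hΘv 1 (_root_.OneMemClass.one_mem _)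
    rw [h2, h3]
    have h4 : (⟨((x : G) : G ⧸ R), by rw [h1]; exact one_mem _⟩ : L) = ⟨((1 : G) : G ⧸ R), one_mem _⟩ := Subtype.ext h1
    rw [h4]
  have hΘK : IsIrrCharacter K (res K (Θ : G → ℂ)) := by
    have h1 : res K (Θ : G → ℂ) = (fun s : Fin k → S => ∏ i, (α : S → ℂ) (s i)) ∘ ((e : L →* (Fin k → S)).comp π) := by
      funext x
      exact hΘv x x.2
    rw [h1]
    exact isIrr_comp _ (e.surjective.comp hπ) (Cfsg.Agent.H713.isIrr_pi α.2)
  -- `ψ Θ_K` is irreducible
  have hφ : IsIrrCharacter K (ψ * res K (Θ : G → ℂ)) := by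
    rw [mul_comm]
    refine mul_irr N (ψ := fun _ => 1) isIrr_one (isIrr_isCharacter hψ) ?_ (fun g _ => rfl) hΘK ?_
    · have h1 : ((fun _ => 1) * res N ψ : N → ℂ) = fun x : N => ψ x := by
        funext x
        simp [res_apply]
      rw [h1]
      exact hψN
    · have h1 : res N (res K (Θ : G → ℂ)) = (Θ : G → ℂ) 1 • (fun _ => 1 : N → ℂ) := by
        funext x
        rw [Pi.smul_apply, smul_eq_mul, mul_one]
        exact hΘR x x.2
      have h2 : classInner (fun _ => 1 : N → ℂ) (fun _ => 1 : N → ℂ) = 1 := classInner_irr_self isIrr_one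
      rw [h1, classInner_smul_left, h2, mul_one]
      exact hΘ1
  have hst : ∀ g : G, conjFn K (ψ * res K (Θ : G → ℂ)) g = ψ * res K (Θ : G → ℂ) → conjFn K ψ g = ψ := by
    intro g hg
    have h1 : conjFn K (ψ * res K (Θ : G → ℂ)) g = conjFn K ψ g * conjFn K (res K (Θ : G → ℂ)) g := rfl
    rw [h1, conjFn_res K hΘc] at hg
    have hψ' := isIrr_conjFn K hψ g
    set ψ' := conjFn K ψ g with hψ'def
    have hN' : (fun x : N => ψ' x) = fun x : N => ψ x := by
      funext x
      have h2 := congrFun hg (x : K)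
      rw [Pi.mul_apply, Pi.mul_apply, res_apply, hΘR x x.2] at h2
      exact mul_right_cancel₀ hΘ1 h2
    obtain ⟨η, hη, hηN, hηm⟩ := CharactersDeep.CosetAverage.exists_irr_mul N ψ hψ hψN ψ' hψ' (by
      rw [hN', classInner_irr_self hψN]
      exact one_ne_zero)
    have hη1 : η 1 = 1 := by
      have h2 := congrFun hηm 1
      rw [Pi.mul_apply, hψ'def, conjFn_apply_one] at h2
      exact mul_left_cancel₀ (isIrr_apply_one_ne_zero hψ) (by rw [← h2, mul_one])
    obtain ⟨f, rfl⟩ := Characters.Linear.exists_hom_of_isIrrCharacter hη hη1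
    have hf : f = 1 := by
      refine hom_eq_one' hna e π hπ f fun x hx => ?_
      have h2 := hηN ⟨x, (hπ1 x).1 hx⟩ 1
      rw [mul_one, hη1] at h2
      exact Units.ext h2
    rw [hηm, hf]
    funext x
    simp
  have hfin := mul_irr K hψ (isIrr_isCharacter Θ.2) hφ hst hχ hin
  obtain ⟨p, hp, hpα⟩ := Nat.exists_prime_and_dvd hα1
  refine ⟨p, hp, hpα.trans (dvd_card ⟨α, rfl⟩), d * charDegree (Θ : G → ℂ), mem_charDegrees.2 ⟨_, hfin, ?_⟩,
    Dvd.intro _ rfl, ?_⟩
  · rw [Pi.mul_apply, hχ1, Blocks.Basic.irr_one_eq_charDegree Θ.2]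
    push_cast
    rfl
  · rw [hΘd]
    exact Dvd.dvd.mul_left (hpα.trans (dvd_pow_self _ (by omega))) _

end Cfsg.Agent.H670.Reg
end

-- part: H670/Reg/CombL
section
/-!
# 3-regular degree graphs (S4919): combinatorics for `PSL(2,q)` (helper670)

* `evenA`, `evenB` : `q ≥ 16` even; `oddC` : `q ≥ 7` odd; `smallD` : `q = 4, 5, 8`.
-/

set_option autoImplicit false

namespace Cfsg.Agent.H670.Reg.Cub

variable {R : ℕ → ℕ → Prop} {V : Finset ℕ}

/-- at most three neighbours -/
theorem le3 (h : Cub R V) {v : ℕ} (N : Finset ℕ) (hN : ∀ x ∈ N, R v x) : N.card ≤ 3 := by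
  classical
  rcases N.eq_empty_or_nonempty with h0 | ⟨y, hy⟩
  · rw [h0]; exact Nat.zero_le _
  obtain ⟨x, y, z, -, -, -, -, -, -, hall⟩ := h.deg v (h.mem (hN y hy))
  have h1 : N ⊆ {x, y, z} := by
    intro w hw
    simpa using hall w (hN w hw)
  exact (Finset.card_le_card h1).trans Finset.card_le_three

section even

variable {A B : Finset ℕ}

theorem card_union' (hAB : Disjoint A B) : (A ∪ B).card = A.card + B.card := Finset.card_union_of_disjoint hAB

/-- **`q` even, below `K ^ ∞` not simple.** -/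
theorem evenA (h : Cub R V) (h2A : 2 ∉ A) (h2B : 2 ∉ B) (hAB : Disjoint A B)
    (hA : A.Nonempty) (hB : B.Nonempty) (h3 : 3 ≤ A.card + B.card) (clA : ∀ a ∈ A, ∀ b ∈ A, a ≠ b → R a b)
    (clB : ∀ a ∈ B, ∀ b ∈ B, a ≠ b → R a b)
    (hO : ∀ x ∈ V, x ≠ 2 → x ∉ A → x ∉ B →
      ((∀ a ∈ A, R x a) ∧ ∀ b ∈ B, R x b) ∨ (R x 2 ∧ ∀ b ∈ B, R x b ∧ R 2 b) ∨ (R x 2 ∧ ∀ a ∈ A, R x a ∧ R 2 a) ∨
      ∃ a ∈ A, ∃ b ∈ B, R x 2 ∧ R x a ∧ R x b ∧ R 2 a ∧ R 2 b ∧ R a b)
    (hX : (∀ a ∈ A, ∀ b ∈ B, R a b) ∨ ∃ x ∈ A, R 2 x ∧ ∀ b ∈ B, R 2 b ∧ R x b) : V.card ≤ 5 := by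
  classical
  have hu := card_union' hAB
  have hP : (insert 2 (A ∪ B)).card = A.card + B.card + 1 := by
    rw [Finset.card_insert_of_notMem, hu]
    rw [Finset.mem_union]
    push Not
    exact ⟨h2A, h2B⟩
  have hmP : ∀ x, x ∈ V \ insert 2 (A ∪ B) ↔ x ∈ V ∧ x ≠ 2 ∧ x ∉ A ∧ x ∉ B := by
    intro x
    rw [Finset.mem_sdiff, Finset.mem_insert, Finset.mem_union]
    push Not
    rfl
  have hle := Finset.card_le_card_sdiff_add_card (s := V) (t := insert 2 (A ∪ B))
  rcases hX with hX | ⟨x0, hx0, h2x0, hX⟩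
  · -- `A ∪ B` is complete
    have hcl : ∀ a ∈ A ∪ B, ∀ b ∈ A ∪ B, a ≠ b → R a b := by
      intro a ha b hb hab
      rw [Finset.mem_union] at ha hb
      rcases ha with ha | ha <;> rcases hb with hb | hb
      · exact clA a ha b hb hab
      · exact hX a ha b hb
      · exact h.symm (hX b hb a ha)
      · exact clB a ha b hb hab
    obtain ⟨a0, ha0⟩ := hA
    have h4 : A.card + B.card ≤ 4 := by
      have h5 := h.le3 (v := a0) ((A ∪ B).erase a0) (fun x hx => by
        rw [Finset.mem_erase] at hx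
        exact hcl a0 (Finset.mem_union_left _ ha0) x hx.2 hx.1.symm)
      rw [Finset.card_erase_of_mem (Finset.mem_union_left _ ha0), hu] at h5
      omega
    -- no element of `A ∪ B` has two neighbours outside
    have key : ∀ c ∈ A ∪ B, ∀ x y, x ≠ y → x ∉ A ∪ B → y ∉ A ∪ B → R c x → R c y → False := by
      intro c hc x y hxy hx hy hcx hcy
      have h5 := h.le3 (v := c) (insert x (insert y ((A ∪ B).erase c))) (fun z hz => by
        rw [Finset.mem_insert, Finset.mem_insert, Finset.mem_erase] at hz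
        rcases hz with rfl | rfl | hz
        · exact hcx
        · exact hcy
        · exact hcl c hc z hz.2 hz.1.symm)
      rw [Finset.card_insert_of_notMem, Finset.card_insert_of_notMem, Finset.card_erase_of_mem hc, hu] at h5
      · omega
      · intro h6; exact hy (Finset.mem_of_mem_erase h6)
      · rw [Finset.mem_insert]
        rintro (h6 | h6)
        · exact hxy h6
        · exact hx (Finset.mem_of_mem_erase h6)
    have h2AB : 2 ∉ A ∪ B := by
      rw [Finset.mem_union]; push Not; exact ⟨h2A, h2B⟩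
    have hout : ∀ x ∈ V \ insert 2 (A ∪ B), x ∉ A ∪ B ∧ ∀ c ∈ A ∪ B, R x c := by
      intro x hx
      obtain ⟨hxV, hx2, hxA, hxB⟩ := (hmP x).1 hx
      have hxAB : x ∉ A ∪ B := by
        rw [Finset.mem_union]; push Not; exact ⟨hxA, hxB⟩
      refine ⟨hxAB, ?_⟩
      rcases hO x hxV hx2 hxA hxB with ⟨h5, h6⟩ | ⟨h5, h6⟩ | ⟨h5, h6⟩ | ⟨a, ha, b, hb, h5, h6, h7, h8, h9, -⟩
      · intro c hc
        rw [Finset.mem_union] at hc
        rcases hc with hc | hc
        · exact h5 c hc
        · exact h6 c hc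
      · obtain ⟨b, hb⟩ := hB
        exact absurd (h.symm (h6 b hb).1) fun h7 =>
          key b (Finset.mem_union_right _ hb) x 2 hx2 hxAB h2AB h7 (h.symm (h6 b hb).2)
      · exact absurd (h.symm (h6 a0 ha0).1) fun h7 =>
          key a0 (Finset.mem_union_left _ ha0) x 2 hx2 hxAB h2AB h7 (h.symm (h6 a0 ha0).2)
      · exact absurd (h.symm h6) fun h10 =>
          key a (Finset.mem_union_left _ ha) x 2 hx2 hxAB h2AB h10 (h.symm h8)
    have h1 : (V \ insert 2 (A ∪ B)).card ≤ 1 := by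
      rw [Finset.card_le_one]
      intro x hx y hy
      by_contra hxy
      have hx' := hout x hx
      have hy' := hout y hy
      have m := Finset.mem_union_left B ha0
      exact key a0 m x y hxy hx'.1 hy'.1 (h.symm (hx'.2 a0 m)) (h.symm (hy'.2 a0 m))
    by_cases h5 : A.card + B.card = 4
    · have h6 : V \ insert 2 (A ∪ B) = ∅ := by
        rw [Finset.eq_empty_iff_forall_notMem]
        intro x hx
        have h7 := h.le3 (v := x) (A ∪ B) (hout x hx).2
        rw [hu] at h7
        omega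
      rw [h6, Finset.card_empty] at hle
      omega
    · omega
  · -- `2, x0, B` is complete
    have hx0B : x0 ∉ B := fun h5 => Finset.disjoint_left.1 hAB hx0 h5
    have hx02 : x0 ≠ 2 := by rintro rfl; exact h2A hx0
    -- the neighbours of `x0`
    have hN : ∀ z ∈ insert 2 ((A ∪ B).erase x0), R x0 z := by
      intro z hz
      rw [Finset.mem_insert, Finset.mem_erase, Finset.mem_union] at hz
      rcases hz with rfl | ⟨hz, hz' | hz'⟩
      · exact h.symm h2x0
      · exact clA x0 hx0 z hz' hz.symm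
      · exact (hX z hz').2
    have h2AB : 2 ∉ (A ∪ B).erase x0 := by
      rw [Finset.mem_erase, Finset.mem_union]
      rintro ⟨-, h5 | h5⟩
      · exact h2A h5
      · exact h2B h5
    have hNc : (insert 2 ((A ∪ B).erase x0)).card = A.card + B.card := by
      rw [Finset.card_insert_of_notMem h2AB, Finset.card_erase_of_mem (Finset.mem_union_left _ hx0), hu]
      omega
    have h4 := h.le3 (v := x0) _ hN
    rw [hNc] at h4
    -- an outside vertex is not joined to `x0`
    have key : ∀ x, x ≠ 2 → x ∉ A → x ∉ B → ¬ R x x0 := by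
      intro x hx2 hxA hxB hx
      have h5 := h.le3 (v := x0) (insert x (insert 2 ((A ∪ B).erase x0))) (fun z hz => by
        rw [Finset.mem_insert] at hz
        rcases hz with rfl | hz
        · exact h.symm hx
        · exact hN z hz)
      rw [Finset.card_insert_of_notMem, hNc] at h5
      · omega
      · rw [Finset.mem_insert, Finset.mem_erase, Finset.mem_union]
        rintro (h6 | ⟨-, h6 | h6⟩)
        · exact hx2 h6
        · exact hxA h6
        · exact hxB h6
    have hT2 : ∀ x ∈ V \ insert 2 (A ∪ B), x ≠ 2 ∧ x ∉ A ∧ x ∉ B ∧ ∀ b ∈ B, R x b := by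
      intro x hx
      obtain ⟨hxV, hx2, hxA, hxB⟩ := (hmP x).1 hx
      refine ⟨hx2, hxA, hxB, ?_⟩
      rcases hO x hxV hx2 hxA hxB with ⟨h5, h6⟩ | ⟨h5, h6⟩ | ⟨h5, h6⟩ | ⟨a, ha, b, hb, h5, h6, h7, h8, h9, h10⟩
      · exact h6
      · exact fun b hb => (h6 b hb).1
      · exact absurd (h6 x0 hx0).1 (key x hx2 hxA hxB)
      · exfalso
        by_cases hax : a = x0
        · subst hax
          exact key x hx2 hxA hxB h6
        · have hbx0 : b ≠ x0 := by rintro rfl; exact hx0B hb
          have hab : a ≠ b := by rintro rfl; exact Finset.disjoint_left.1 hAB ha hb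
          have hb2 : b ≠ 2 := by rintro rfl; exact h2B hb
          have ha2 : a ≠ 2 := by rintro rfl; exact h2A ha
          have hax' : a ≠ x := by rintro rfl; exact hxA ha
          have hx0x : x0 ≠ x := by rintro rfl; exact hxA hx0
          exact h.four (v := b) (x := 2) (y := x0) (z := a) (w := x) (h.symm (hX b hb).1) (h.symm (hX b hb).2)
            (h.symm h10) (h.symm h7) hx02.symm ha2.symm (Ne.symm hax) hx2.symm hx0x hax'
    have h1 : (V \ insert 2 (A ∪ B)).card ≤ 1 := by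
      rw [Finset.card_le_one]
      intro x hx y hy
      by_contra hxy
      obtain ⟨hx2, hxA, hxB, hx'⟩ := hT2 x hx
      obtain ⟨hy2, hyA, hyB, hy'⟩ := hT2 y hy
      obtain ⟨b, hb⟩ := hB
      have hx0x : x0 ≠ x := by rintro rfl; exact hxA hx0
      have hx0y : x0 ≠ y := by rintro rfl; exact hyA hx0
      exact h.four (v := b) (x := 2) (y := x0) (z := x) (w := y) (h.symm (hX b hb).1) (h.symm (hX b hb).2)
        (h.symm (hx' b hb)) (h.symm (hy' b hb)) hx02.symm hx2.symm hx0x hy2.symm hx0y hxy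
    omega

/-- **`q` even, `K = N × R`.** -/
theorem evenB (h : Cub R V) (h2V : 2 ∈ V) (h2A : 2 ∉ A) (h2B : 2 ∉ B) (hAB : Disjoint A B)
    (h3 : 3 ≤ A.card + B.card) (clA : ∀ a ∈ A, ∀ b ∈ A, a ≠ b → R a b)
    (clB : ∀ a ∈ B, ∀ b ∈ B, a ≠ b → R a b) (sp : ℕ → Prop)
    (hs : ∀ t ∈ V, sp t → ∀ c ∈ A ∪ B, c ≠ t → R t c)
    (hO : ∀ x ∈ V, x ≠ 2 → x ∉ A → x ∉ B → sp x) (h2 : ∀ p, R 2 p → sp 2 ∨ sp p) : V.card ≤ 5 := by
  classical
  by_contra h6
  push Not at h6
  have hu := card_union' hAB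
  have h2AB : 2 ∉ A ∪ B := by
    rw [Finset.mem_union]; push Not; exact ⟨h2A, h2B⟩
  have hP : (insert 2 (A ∪ B)).card = A.card + B.card + 1 := by
    rw [Finset.card_insert_of_notMem h2AB, hu]
  have hmP : ∀ x, x ∈ V \ insert 2 (A ∪ B) ↔ x ∈ V ∧ x ≠ 2 ∧ x ∉ A ∧ x ∉ B := by
    intro x
    rw [Finset.mem_sdiff, Finset.mem_insert, Finset.mem_union]
    push Not
    rfl
  have hle := Finset.card_le_card_sdiff_add_card (s := V) (t := insert 2 (A ∪ B))
  obtain ⟨p, -, -, -, -, -, hp, -, -, -⟩ := h.deg 2 h2V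
  have hp2 := (h.ne hp).symm
  have hpV := h.mem (h.symm hp)
  have hout : ∀ x ∈ V \ insert 2 (A ∪ B), x ∉ A ∪ B ∧ ∀ c ∈ A ∪ B, R x c := by
    intro x hx
    obtain ⟨hxV, hx2, hxA, hxB⟩ := (hmP x).1 hx
    have hxAB : x ∉ A ∪ B := by
      rw [Finset.mem_union]; push Not; exact ⟨hxA, hxB⟩
    refine ⟨hxAB, fun c hc => hs x hxV (hO x hxV hx2 hxA hxB) c hc ?_⟩
    rintro rfl
    exact hxAB hc
  by_cases hVP : V \ insert 2 (A ∪ B) = ∅
  · -- `V = P`
    rw [hVP, Finset.card_empty] at hle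
    rcases h2 p hp with h5 | h5
    · have h7 := h.le3 (v := 2) (A ∪ B) (fun c hc => hs 2 h2V h5 c hc (by rintro rfl; exact h2AB hc))
      rw [hu] at h7
      omega
    · have hpAB : p ∈ A ∪ B := by
        by_contra hpn
        have : p ∈ V \ insert 2 (A ∪ B) := by
          rw [Finset.mem_sdiff, Finset.mem_insert]
          push Not
          exact ⟨hpV, hp2, hpn⟩
        rw [hVP] at this
        exact absurd this (Finset.notMem_empty _)
      have h7 := h.le3 (v := p) ((A ∪ B).erase p) (fun c hc => by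
        rw [Finset.mem_erase] at hc
        exact hs p hpV h5 c hc.2 hc.1)
      rw [Finset.card_erase_of_mem hpAB, hu] at h7
      omega
  · obtain ⟨x, hx⟩ := Finset.nonempty_iff_ne_empty.2 hVP
    have hx' := hout x hx
    have h3' : A.card + B.card = 3 := by
      have h7 := h.le3 (v := x) (A ∪ B) hx'.2
      rw [hu] at h7
      omega
    have h1 : 1 < (V \ insert 2 (A ∪ B)).card := by omega
    obtain ⟨x, hx, y, hy, hxy⟩ := Finset.one_lt_card.1 h1
    obtain ⟨hxn, hxc⟩ := hout x hx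
    obtain ⟨hyn, hyc⟩ := hout y hy
    obtain ⟨-, hx2, -, -⟩ := (hmP x).1 hx
    obtain ⟨-, hy2, -, -⟩ := (hmP y).1 hy
    -- two elements of the same part
    obtain ⟨c, c', hc, hc', hcc, hRc⟩ : ∃ c c', c ∈ A ∪ B ∧ c' ∈ A ∪ B ∧ c ≠ c' ∧ R c c' := by
      have h8 : 1 < A.card ∨ 1 < B.card := by omega
      rcases h8 with h8 | h8
      · obtain ⟨c, hc, c', hc', hcc⟩ := Finset.one_lt_card.1 h8
        exact ⟨c, c', Finset.mem_union_left _ hc, Finset.mem_union_left _ hc', hcc, clA c hc c' hc' hcc⟩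
      · obtain ⟨c, hc, c', hc', hcc⟩ := Finset.one_lt_card.1 h8
        exact ⟨c, c', Finset.mem_union_right _ hc, Finset.mem_union_right _ hc', hcc, clB c hc c' hc' hcc⟩
    rcases h2 p hp with h5 | h5
    · have hc2 : R 2 c := hs 2 h2V h5 c hc (by rintro rfl; exact h2AB hc)
      have e1 : c' ≠ x := by rintro rfl; exact hxn hc'
      have e2 : c' ≠ y := by rintro rfl; exact hyn hc'
      have e3 : c' ≠ 2 := by rintro rfl; exact h2AB hc'
      exact h.four hRc (h.symm (hxc c hc)) (h.symm (hyc c hc)) (h.symm hc2) e1 e2 hxy e3 hx2 hy2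
    · by_cases hpAB : p ∈ A ∪ B
      · have h7 := h.le3 (v := p) (insert x (insert y ((A ∪ B).erase p))) (fun z hz => by
          rw [Finset.mem_insert, Finset.mem_insert, Finset.mem_erase] at hz
          rcases hz with rfl | rfl | hz
          · exact h.symm (hxc p hpAB)
          · exact h.symm (hyc p hpAB)
          · exact hs p hpV h5 z hz.2 hz.1)
        rw [Finset.card_insert_of_notMem, Finset.card_insert_of_notMem, Finset.card_erase_of_mem hpAB, hu] at h7
        · omega
        · intro h8; exact hyn (Finset.mem_of_mem_erase h8)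
        · rw [Finset.mem_insert]
          rintro (h8 | h8)
          · exact hxy h8
          · exact hxn (Finset.mem_of_mem_erase h8)
      · have hp' := hout p (by
          rw [Finset.mem_sdiff, Finset.mem_insert]
          push Not
          exact ⟨hpV, hp2, hpAB⟩)
        have h7 := h.le3 (v := p) (insert 2 (A ∪ B)) (fun z hz => by
          rw [Finset.mem_insert] at hz
          rcases hz with rfl | hz
          · exact h.symm hp
          · exact hp'.2 z hz)
        rw [hP] at h7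
        omega

end even

/-- **`q ≥ 7` odd.** -/
theorem oddC (h : Cub R V) {p : ℕ} {C : Finset ℕ} (hp2 : p ≠ 2) (h2C : 2 ∉ C) (hpC : p ∉ C)
    (hCn : C.Nonempty) (hC2 : ∀ c ∈ C, R 2 c)
    (hO : ∀ x ∈ V, x ≠ 2 → x ≠ p → x ∉ C →
      (∃ a b, (a = 2 ∨ a = p ∨ a ∈ C) ∧ (b = 2 ∨ b = p ∨ b ∈ C) ∧ a ≠ b ∧ R x a ∧ R x b ∧ R a b) ∧
      (R x 2 ∨ (R x p ∧ (∀ c ∈ C, R x c ∧ R p c) ∧ ∀ c ∈ C, ∀ c' ∈ C, c ≠ c' → R c c'))) : V.card ≤ 5 := by
  classical
  by_contra h6
  push Not at h6
  set O := (V \ insert 2 (insert p C)) with hOd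
  have hmO : ∀ x, x ∈ O ↔ x ∈ V ∧ x ≠ 2 ∧ x ≠ p ∧ x ∉ C := by
    intro x
    rw [hOd, Finset.mem_sdiff, Finset.mem_insert, Finset.mem_insert]
    push Not
    rfl
  have hle := Finset.card_le_card_sdiff_add_card (s := V) (t := insert 2 (insert p C))
  rw [← hOd] at hle
  have hPc : (insert 2 (insert p C)).card = C.card + 2 := by
    rw [Finset.card_insert_of_notMem, Finset.card_insert_of_notMem hpC]
    rw [Finset.mem_insert]
    rintro (h7 | h7)
    · exact hp2 h7.symm
    · exact h2C h7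
  have hsplit := Finset.card_filter_add_card_filter_not (s := O) (p := fun x => R x 2)
  -- neighbours of 2
  have h2N := h.le3 (v := 2) (C ∪ O.filter fun x => R x 2) (fun z hz => by
    rw [Finset.mem_union, Finset.mem_filter] at hz
    rcases hz with hz | hz
    · exact hC2 z hz
    · exact h.symm hz.2)
  rw [Finset.card_union_of_disjoint (by
    rw [Finset.disjoint_left]
    intro z hz hz'
    exact ((hmO z).1 (Finset.mem_filter.1 hz').1).2.2.2 hz)] at h2N
  obtain ⟨x, hx⟩ : (O.filter fun x => ¬ R x 2).Nonempty := Finset.card_pos.1 (by omega)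
  rw [Finset.mem_filter] at hx
  obtain ⟨hxV, hx2, hxp, hxC⟩ := (hmO x).1 hx.1
  obtain ⟨hxp', hxC', hCC⟩ : R x p ∧ (∀ c ∈ C, R x c ∧ R p c) ∧ ∀ c ∈ C, ∀ c' ∈ C, c ≠ c' → R c c' := by
    rcases (hO x hxV hx2 hxp hxC).2 with h7 | h7
    · exact absurd h7 hx.2
    · exact h7
  obtain ⟨c, hc⟩ := hCn
  have hc2 : c ≠ 2 := by rintro rfl; exact h2C hc
  have hcp : c ≠ p := by rintro rfl; exact hpC hc
  have hcx : c ≠ x := by rintro rfl; exact hxC hc
  have Nc1 := h.symm (hC2 c hc)
  have Nc2 := h.symm (hxC' c hc).2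
  have Nc3 := h.symm (hxC' c hc).1
  have Nc : ∀ w, R c w → w = 2 ∨ w = p ∨ w = x := fun w hw => h.only Nc1 Nc2 Nc3 hp2.symm hx2.symm hxp.symm hw
  have hCc : C = {c} := by
    rw [Finset.eq_singleton_iff_unique_mem]
    refine ⟨hc, fun c' hc' => ?_⟩
    by_contra hne
    rcases Nc c' (hCC c hc c' hc' (Ne.symm hne)) with h7 | h7 | h7
    · exact h2C (h7 ▸ hc')
    · exact hpC (h7 ▸ hc')
    · exact hxC (h7 ▸ hc')
  have hO2 : (O.filter fun x => ¬ R x 2).card ≤ 1 := by
    rw [Finset.card_le_one]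
    have key : ∀ y ∈ O.filter fun x => ¬ R x 2, y = x := by
      intro y hy
      rw [Finset.mem_filter] at hy
      obtain ⟨hyV, hy2, hyp, hyC⟩ := (hmO y).1 hy.1
      rcases (hO y hyV hy2 hyp hyC).2 with h7 | ⟨-, h7, -⟩
      · exact absurd h7 hy.2
      · rcases Nc y (h.symm (h7 c hc).1) with h8 | h8 | h8
        · exact absurd h8 hy2
        · exact absurd h8 hyp
        · exact h8
    intro y hy z hz
    rw [key y hy, key z hz]
  have hC1 : C.card = 1 := by rw [hCc, Finset.card_singleton]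
  obtain ⟨y, hy, z, hz, hyz⟩ := Finset.one_lt_card.1 (show 1 < (O.filter fun x => R x 2).card by omega)
  rw [Finset.mem_filter] at hy hz
  obtain ⟨hyV, hy2, hyp, hyC⟩ := (hmO y).1 hy.1
  obtain ⟨hzV, hz2, hzp, hzC⟩ := (hmO z).1 hz.1
  have hcy : c ≠ y := by rintro rfl; exact hyC hc
  have hcz : c ≠ z := by rintro rfl; exact hzC hc
  have h2p : ¬ R 2 p := by
    intro h7
    exact h.four (hC2 c hc) (h.symm hy.2) (h.symm hz.2) h7 hcy hcz hyz hcp hyp hzp
  have hyx : y ≠ x := by rintro rfl; exact hx.2 hy.2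
  have hyc : ¬ R y c := by
    intro h7
    rcases Nc y (h.symm h7) with h8 | h8 | h8
    · exact hy2 h8
    · exact hyp h8
    · exact hyx h8
  have hmC : ∀ t, t ∈ C → t = c := by
    intro t ht
    rw [hCc, Finset.mem_singleton] at ht
    exact ht
  obtain ⟨⟨a, b, ha, hb, hab, h7, h8, h9⟩, -⟩ := hO y hyV hy2 hyp hyC
  have ha' : a = 2 ∨ a = p := by
    rcases ha with ha | ha | ha
    · exact Or.inl ha
    · exact Or.inr ha
    · rw [hmC a ha] at h7
      exact absurd h7 hyc
  have hb' : b = 2 ∨ b = p := by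
    rcases hb with hb | hb | hb
    · exact Or.inl hb
    · exact Or.inr hb
    · rw [hmC b hb] at h8
      exact absurd h8 hyc
  rcases ha' with rfl | rfl <;> rcases hb' with rfl | rfl
  · exact hab rfl
  · exact h2p h9
  · exact h2p (h.symm h9)
  · exact hab rfl

/-- **`q = 4, 5, 8`.** -/
theorem smallD (h : Cub R V) {P : Finset ℕ} (hP : P.card = 3) (rad : ℕ → Prop)
    (hpal : ∀ x y z, rad x → rad y → rad z → x ≠ y → y ≠ z → x ≠ z → R x y ∨ R y z ∨ R x z)
    (hO : ∀ x ∈ V, x ∉ P → (∃ a ∈ P, ∃ b ∈ P, a ≠ b ∧ R x a ∧ R x b ∧ R a b) ∨ ((∀ a ∈ P, R x a) ∧ rad x)) :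
    V.card ≤ 5 := by
  classical
  by_contra h6
  push Not at h6
  have hle := Finset.card_le_card_sdiff_add_card (s := V) (t := P)
  have h3 : 2 < (V \ P).card := by omega
  obtain ⟨x, y, z, hx, hy, hz, hxy, hxz, hyz⟩ := Finset.two_lt_card_iff.1 h3
  rw [Finset.mem_sdiff] at hx hy hz
  -- if some edge inside `P`
  by_cases hE : ∃ a ∈ P, ∃ b ∈ P, a ≠ b ∧ R a b
  · obtain ⟨a, ha, b, hb, hab, hRab⟩ := hE
    obtain ⟨c, hc⟩ : ((P.erase a).erase b).Nonempty := by
      apply Finset.card_pos.1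
      rw [Finset.card_erase_of_mem (Finset.mem_erase.2 ⟨hab.symm, hb⟩), Finset.card_erase_of_mem ha, hP]
      norm_num
    rw [Finset.mem_erase, Finset.mem_erase] at hc
    obtain ⟨hcb, hca, hcP⟩ := hc
    have hPabc : ∀ t ∈ P, t = a ∨ t = b ∨ t = c := by
      intro t ht
      have h7 : ({a, b, c} : Finset ℕ) = P := by
        apply Finset.eq_of_subset_of_card_le
        · intro s hs
          simp only [Finset.mem_insert, Finset.mem_singleton] at hs
          rcases hs with rfl | rfl | rfl <;> assumption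
        · rw [hP, Finset.card_insert_of_notMem, Finset.card_insert_of_notMem, Finset.card_singleton]
          · simpa using hcb.symm
          · simp only [Finset.mem_insert, Finset.mem_singleton]
            rintro (h8 | h8)
            · exact hab h8
            · exact hca h8.symm
      rw [← h7] at ht
      simpa using ht
    have hn : ∀ u, u ∉ P → u ≠ a ∧ u ≠ b ∧ u ≠ c := by
      intro u hu
      refine ⟨?_, ?_, ?_⟩ <;> rintro rfl <;> contradiction
    obtain ⟨xa, xb, xc⟩ := hn x hx.2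
    obtain ⟨ya, yb, yc⟩ := hn y hy.2
    obtain ⟨za, zb, zc⟩ := hn z hz.2
    -- every outside vertex is joined to two elements of `P`
    have hO' : ∀ u ∈ V, u ∉ P → (R a b ∧ R u a ∧ R u b) ∨ (R a c ∧ R u a ∧ R u c) ∨ (R b c ∧ R u b ∧ R u c) := by
      intro u hu huP
      rcases hO u hu huP with ⟨s, hs, t, ht, hst, h7, h8, h9⟩ | ⟨h7, -⟩
      · rcases hPabc s hs with rfl | rfl | rfl <;> rcases hPabc t ht with rfl | rfl | rfl
        · exact absurd rfl hst
        · exact Or.inl ⟨h9, h7, h8⟩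
        · exact Or.inr (Or.inl ⟨h9, h7, h8⟩)
        · exact Or.inl ⟨h.symm h9, h8, h7⟩
        · exact absurd rfl hst
        · exact Or.inr (Or.inr ⟨h9, h7, h8⟩)
        · exact Or.inr (Or.inl ⟨h.symm h9, h8, h7⟩)
        · exact Or.inr (Or.inr ⟨h.symm h9, h8, h7⟩)
        · exact absurd rfl hst
      · exact Or.inl ⟨hRab, h7 a ha, h7 b hb⟩
    have ox := hO' x hx.1 hx.2
    have oy := hO' y hy.1 hy.2
    have oz := hO' z hz.1 hz.2
    -- forbidden configurations
    have F1 : ∀ {v s u1 u2 u3 : ℕ}, R v s → R u1 v → R u2 v → R u3 v → s ≠ u1 → s ≠ u2 → s ≠ u3 → u1 ≠ u2 → u1 ≠ u3 →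
        u2 ≠ u3 → False := fun h1 h2 h3 h4 e1 e2 e3 e4 e5 e6 =>
      h.four h1 (h.symm h2) (h.symm h3) (h.symm h4) e1 e2 e4 e3 e5 e6
    have F2 : ∀ {v s t u1 u2 : ℕ}, R v s → R v t → R u1 v → R u2 v → s ≠ t → s ≠ u1 → s ≠ u2 → t ≠ u1 → t ≠ u2 →
        u1 ≠ u2 → False := fun h1 h2 h3 h4 e1 e2 e3 e4 e5 e6 =>
      h.four h1 h2 (h.symm h3) (h.symm h4) e1 e2 e4 e3 e5 e6
    by_cases hac : R a c
    · -- `a` has one more neighbour
      have A1 : ∀ u w, u ≠ w → u ≠ b → u ≠ c → w ≠ b → w ≠ c → R u a → R w a → False :=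
        fun u w h1 h2 h3 h4 h5 h6 h7 => F2 hRab hac h6 h7 hcb.symm h2.symm h4.symm h3.symm h5.symm h1
      by_cases hbc : R b c
      · have B1 : ∀ u w, u ≠ w → u ≠ a → u ≠ c → w ≠ a → w ≠ c → R u b → R w b → False :=
          fun u w h1 h2 h3 h4 h5 h6 h7 => F2 (h.symm hRab) hbc h6 h7 hca.symm h2.symm h4.symm h3.symm h5.symm h1
        have C1 : ∀ u w, u ≠ w → u ≠ a → u ≠ b → w ≠ a → w ≠ b → R u c → R w c → False :=
          fun u w h1 h2 h3 h4 h5 h6 h7 => F2 (h.symm hac) (h.symm hbc) h6 h7 hab h2.symm h4.symm h3.symm h5.symm h1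
        rcases ox with ⟨-, p1, p2⟩ | ⟨-, p1, p2⟩ | ⟨-, p1, p2⟩ <;> rcases oy with ⟨-, q1, q2⟩ | ⟨-, q1, q2⟩ | ⟨-, q1, q2⟩
        · exact A1 x y hxy xb xc yb yc p1 q1
        · exact A1 x y hxy xb xc yb yc p1 q1
        · exact B1 x y hxy xa xc ya yc p2 q1
        · exact A1 x y hxy xb xc yb yc p1 q1
        · exact A1 x y hxy xb xc yb yc p1 q1
        · exact C1 x y hxy xa xb ya yb p2 q2
        · exact B1 x y hxy xa xc ya yc p1 q2
        · exact C1 x y hxy xa xb ya yb p2 q2
        · exact B1 x y hxy xa xc ya yc p1 q1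
      · rcases ox with ⟨-, p1, p2⟩ | ⟨-, p1, p2⟩ | ⟨p0, p1, p2⟩
        · rcases oy with ⟨-, q1, q2⟩ | ⟨-, q1, q2⟩ | ⟨q0, q1, q2⟩
          · exact A1 x y hxy xb xc yb yc p1 q1
          · exact A1 x y hxy xb xc yb yc p1 q1
          · exact hbc q0
        · rcases oy with ⟨-, q1, q2⟩ | ⟨-, q1, q2⟩ | ⟨q0, q1, q2⟩
          · exact A1 x y hxy xb xc yb yc p1 q1
          · exact A1 x y hxy xb xc yb yc p1 q1
          · exact hbc q0
        · exact hbc p0
    · by_cases hbc : R b c
      · have B1 : ∀ u w, u ≠ w → u ≠ a → u ≠ c → w ≠ a → w ≠ c → R u b → R w b → False :=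
          fun u w h1 h2 h3 h4 h5 h6 h7 => F2 (h.symm hRab) hbc h6 h7 hca.symm h2.symm h4.symm h3.symm h5.symm h1
        rcases ox with ⟨-, p1, p2⟩ | ⟨p0, p1, p2⟩ | ⟨-, p1, p2⟩
        · rcases oy with ⟨-, q1, q2⟩ | ⟨q0, q1, q2⟩ | ⟨-, q1, q2⟩
          · exact B1 x y hxy xa xc ya yc p2 q2
          · exact hac q0
          · exact B1 x y hxy xa xc ya yc p2 q1
        · exact hac p0
        · rcases oy with ⟨-, q1, q2⟩ | ⟨q0, q1, q2⟩ | ⟨-, q1, q2⟩
          · exact B1 x y hxy xa xc ya yc p1 q2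
          · exact hac q0
          · exact B1 x y hxy xa xc ya yc p1 q1
      · rcases ox with ⟨-, p1, p2⟩ | ⟨p0, -, -⟩ | ⟨p0, -, -⟩
        · rcases oy with ⟨-, q1, q2⟩ | ⟨q0, -, -⟩ | ⟨q0, -, -⟩
          · rcases oz with ⟨-, r1, r2⟩ | ⟨r0, -, -⟩ | ⟨r0, -, -⟩
            · exact F1 hRab p1 q1 r1 xb.symm yb.symm zb.symm hxy hxz hyz
            · exact hac r0
            · exact hbc r0
          · exact hac q0
          · exact hbc q0
        · exact hac p0
        · exact hbc p0
  · -- no edge inside `P`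
    push Not at hE
    have key : ∀ u ∈ V, u ∉ P → (∀ a ∈ P, R u a) ∧ rad u := by
      intro u hu huP
      rcases hO u hu huP with ⟨s, hs, t, ht, hst, -, -, h9⟩ | h7
      · exact absurd h9 (hE s hs t ht hst)
      · exact h7
    have kx := key x hx.1 hx.2
    have ky := key y hy.1 hy.2
    have kz := key z hz.1 hz.2
    have big : ∀ u w, u ∉ P → w ∉ P → (∀ a ∈ P, R u a) → R u w → False := by
      intro u w hu hw h7 h8
      have h9 := h.le3 (v := u) (insert w P) (fun t ht => by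
        rw [Finset.mem_insert] at ht
        rcases ht with rfl | ht
        · exact h8
        · exact h7 t ht)
      rw [Finset.card_insert_of_notMem hw, hP] at h9
      omega
    rcases hpal x y z kx.2 ky.2 kz.2 hxy hyz hxz with h7 | h7 | h7
    · exact big x y hx.2 hy.2 kx.1 h7
    · exact big y z hy.2 hz.2 ky.1 h7
    · exact big x z hx.2 hz.2 kx.1 h7

end Cfsg.Agent.H670.Reg.Cub
end

-- part: H670/Reg/Red
section
/-!
# 3-regular degree graphs (S4919): the reduction to `PSL(2,q)` (helper670)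

* `Reg3 G V` : the degree graph of `G` is 3-regular on the finite set `V` of its vertices;
* `rules` : the consequences of `gstar`;
* `red` : a non-solvable group with 3-regular degree graph has at most five vertices, assuming this if `G / R` is almost
  simple with socle `PSL(2,q)`.
-/

set_option autoImplicit false

namespace Cfsg.Agent.H670.Reg

open Cfsg Subgroup Cfsg.Agent.H33 Cfsg.Agent.H671.H5 Cfsg.Agent.H681.DegBasic Cfsg.Agent.H671.Link
  Cfsg.Agent.H459.Rad Cfsg.Agent.H988.DG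

universe u v

/-- Adjacency from a common degree. -/
theorem adj_of {G : Type u} [Group G] {d a b : ℕ} (hd : d ∈ charDegrees G) (ha : a.Prime) (hb : b.Prime) (hab : a ≠ b)
    (h1 : a ∣ d) (h2 : b ∣ d) : (degreeGraph G).Adj a b :=
  ⟨hab, ha, hb, d, hd, Nat.Coprime.mul_dvd_of_dvd_of_dvd ((Nat.coprime_primes ha hb).2 hab) h1 h2⟩

theorem mem_of_adj {G : Type u} [Group G] {a b : ℕ} (h : (degreeGraph G).Adj a b) : a ∈ degreePrimes G := by
  obtain ⟨-, ha, -, d, hd, h1⟩ := h
  exact ⟨ha, d, hd, (Dvd.intro _ rfl).trans h1⟩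

/-- The degree graph is 3-regular on the set `V` of its vertices. -/
structure Reg3 (G : Type u) [Group G] (V : Finset ℕ) : Prop where
  hV : ∀ p, p ∈ V ↔ p ∈ degreePrimes G
  cub : Cub (fun a b => (degreeGraph G).Adj a b) V

theorem Reg3.mk' {G : Type u} [Group G] {V : Finset ℕ} (hV : (V : Set ℕ) = degreePrimes G)
    (h : ∀ p ∈ degreePrimes G, Set.ncard {q : ℕ | (degreeGraph G).Adj p q} = 3) : Reg3 G V := by
  have hV' : ∀ p, p ∈ V ↔ p ∈ degreePrimes G := by
    intro p
    rw [← hV, Finset.mem_coe]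
  refine ⟨hV', ⟨fun {a b} hab => hab.symm, fun a ha => ha.ne rfl, fun {a b} hab => (hV' a).2 (mem_of_adj hab), ?_⟩⟩
  intro a ha
  obtain ⟨x, y, z, hxy, hxz, hyz, he⟩ := Set.ncard_eq_three.1 (h a ((hV' a).1 ha))
  have hm : ∀ w, (degreeGraph G).Adj a w ↔ w = x ∨ w = y ∨ w = z := by
    intro w
    have h1 : w ∈ {q : ℕ | (degreeGraph G).Adj a q} ↔ w ∈ ({x, y, z} : Set ℕ) := by rw [he]
    simpa using h1
  exact ⟨x, y, z, hxy, hxz, hyz, (hm x).2 (Or.inl rfl), (hm y).2 (Or.inr (Or.inl rfl)), (hm z).2 (Or.inr (Or.inr rfl)),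
    fun w hw => (hm w).1 hw⟩

section rules

variable {G : Type u} [Group G] [Finite G] {V : Finset ℕ}

theorem rules (hE : FactExt.{0}) (c : Reg3 G V) (R : Subgroup G) [R.Normal] (L : Subgroup (G ⧸ R))
    [L.Normal] {S : Type} [Group S] [Finite S] [IsSimpleGroup S] (hna : ¬ IsMulCommutative S) {k : ℕ} (hk : 1 ≤ k)
    (e : L ≃* (Fin k → S)) {P : Finset ℕ} (hP : ∀ p : ℕ, p.Prime → p ∣ Nat.card S → p ∈ P) :
    (∀ x ∈ V, x ∉ P → ∃ p ∈ P, (degreeGraph G).Adj x p) ∧
    ∀ x y, x ∉ P → y ∉ P → (degreeGraph G).Adj x y → ∃ p ∈ P, (degreeGraph G).Adj x p ∧ (degreeGraph G).Adj y p := by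
  constructor
  · intro x hx hxP
    obtain ⟨hxp, d, hd, hxd⟩ := (c.hV x).1 hx
    obtain ⟨p, hp, hpS, d', hd', hdd, hpd⟩ := gstar hE R L hna hk e hd
    have hpP := hP p hp hpS
    refine ⟨p, hpP, adj_of hd' hxp hp ?_ (hxd.trans hdd) hpd⟩
    rintro rfl
    exact hxP hpP
  · intro x y hx hy hxy
    obtain ⟨-, hxp, hyp, d, hd, hxd⟩ := hxy
    obtain ⟨p, hp, hpS, d', hd', hdd, hpd⟩ := gstar hE R L hna hk e hd
    have hpP := hP p hp hpS
    refine ⟨p, hpP, adj_of hd' hxp hp ?_ (((Dvd.intro _ rfl).trans hxd).trans hdd) hpd,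
      adj_of hd' hyp hp ?_ (((Dvd.intro_left _ rfl).trans hxd).trans hdd) hpd⟩
    · rintro rfl
      exact hx hpP
    · rintro rfl
      exact hy hpP

end rules

theorem simple_nonsolv {S : Type v} [Group S] [IsSimpleGroup S] (hna : ¬ IsMulCommutative S) : ¬ Group.IsSolvable S :=
  fun h => hna ⟨⟨fun a b => IsSimpleGroup.comm_iff_isSolvable.2 h a b⟩⟩

theorem three_le_primes {S : Type v} [Group S] [Finite S] [IsSimpleGroup S] (hna : ¬ IsMulCommutative S) :
    3 ≤ (Nat.card S).primeFactors.card := by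
  obtain ⟨p, q, r, hpq, hqr, hpr, hp, hq, hr⟩ := S4782.result (simple_nonsolv hna)
  have hm : ∀ x ∈ degreePrimes S, x ∈ (Nat.card S).primeFactors := fun x hx =>
    Nat.mem_primeFactors.2 ⟨hx.1, Cfsg.Agent.H671.Comp.dvd_card_of_mem hx, Nat.card_pos.ne'⟩
  have h1 : ({p, q, r} : Finset ℕ) ⊆ (Nat.card S).primeFactors := by
    intro x hx
    simp only [Finset.mem_insert, Finset.mem_singleton] at hx
    rcases hx with rfl | rfl | rfl
    · exact hm _ hp
    · exact hm _ hq
    · exact hm _ hr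
  have h2 : ({p, q, r} : Finset ℕ).card = 3 := by
    rw [Finset.card_insert_of_notMem, Finset.card_insert_of_notMem, Finset.card_singleton]
    · simpa using hqr
    · simp [hpq, hpr]
  rw [← h2]
  exact Finset.card_le_card h1

/-- An outside prime is joined to a member of `A`. -/
theorem hit_adj {G : Type u} [Group G] [Finite G] (R : Subgroup G) [R.Normal] (L : Subgroup (G ⧸ R)) [L.Normal] {S : Type}
    [Group S] [Finite S] (e : L ≃* S) (hC : Subgroup.centralizer (L : Set (G ⧸ R)) = ⊥) {A : Set ℕ} (hA : ∀ p ∈ A, p.Prime)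
    (hit : Hit.{u, 0} A S) (ohit : OutHit.{u, 0} A S) {x : ℕ} (hx : x ∈ degreePrimes G) (hxS : ¬ x ∣ Nat.card S)
    (hAS : ∀ p ∈ A, p ∣ Nat.card S) : ∃ p ∈ A, (degreeGraph G).Adj x p := by
  classical
  have := Fintype.ofFinite G
  have := Fintype.ofFinite R
  obtain ⟨hxp, χ, hχ⟩ := mem_dp_iff.1 hx
  have hne : ∀ p ∈ A, x ≠ p := by
    rintro p hp rfl
    exact hxS (hAS _ hp)
  obtain ⟨n, hn, hn'⟩ := Cfsg.Agent.Characters.Core.isIrr_apply_one χ.2
  rw [H670.PSing.charDegree_eq_of hn'] at hχ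
  obtain ⟨ψ, d, hψ, hψ1, -, hdn, hdi⟩ := exists_constituent R χ.2 hn'
  have h4 : n = d * (n / d) := (Nat.mul_div_cancel' hdn).symm
  rw [h4, hxp.dvd_mul] at hχ
  rcases hχ with h | h
  · -- a degree of `R`
    set K : Subgroup G := L.comap (QuotientGroup.mk' R) with hK
    have hRK : R ≤ K := by
      have := Subgroup.ker_le_comap (QuotientGroup.mk' R) L
      rwa [QuotientGroup.ker_mk'] at this
    have := Fintype.ofFinite K
    have := Fintype.ofFinite (R.subgroupOf K)
    have h1 : H33.IM x (R.subgroupOf K) :=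
      (IM.of_apply_one hψ hψ1 h : H33.IM x R).of_equiv (Subgroup.subgroupOfEquivOfLe hRK)
    obtain ⟨θ, hθ⟩ := h1
    let π : K →* L := (QuotientGroup.mk' R).subgroupComap L
    have hπ : Function.Surjective π := by
      rintro ⟨y, hy⟩
      obtain ⟨z, rfl⟩ := QuotientGroup.mk'_surjective R y
      exact ⟨⟨z, hy⟩, rfl⟩
    have hker : π.ker = R.subgroupOf K := by
      ext z
      rw [MonoidHom.mem_ker, Subgroup.mem_subgroupOf, ← QuotientGroup.eq_one_iff]
      constructor
      · intro h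
        exact congrArg Subtype.val h
      · intro h
        exact Subtype.ext h
    have e2 : K ⧸ (R.subgroupOf K) ≃* S :=
      ((QuotientGroup.quotientMulEquivOfEq hker.symm).trans (QuotientGroup.quotientKerEquivOfSurjective π hπ)).trans e
    obtain ⟨η, -, d', p, hp, hpd, hη⟩ := hit K (R.subgroupOf K) ⟨e2⟩ θ
    obtain ⟨m, hm, hdm⟩ := overN K (d := charDegree (η : K → ℂ)) ⟨η, rfl⟩
    rw [hη] at hdm
    refine ⟨p, hp, adj_of hm hxp (hA p hp) (hne p hp) ?_ ?_⟩
    · exact (hθ.mul_left d').trans hdm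
    · exact (hpd.mul_right _).trans hdm
  · -- an outer prime
    have h1 : x ∣ R.index := h.trans hdi
    rw [Subgroup.index_eq_card, ← Subgroup.card_mul_index L, hxp.dvd_mul, Nat.card_congr e.toEquiv] at h1
    obtain ⟨p, hp, m, hm, hxm⟩ := ohit (G ⧸ R) L ⟨e⟩ hC x hxp (h1.resolve_left hxS) hxS
    exact ⟨p, hp, adj_of (quot R hm) hxp (hA p hp) (hne p hp) ((Dvd.intro _ rfl).trans hxm) ((Dvd.intro_left _ rfl).trans hxm)⟩

/-- crossing edges in a connected graph -/
theorem cross_edge {S : Type v} [Group S] (hc : ((degreeGraph S).induce (degreePrimes S)).Connected) {P : Finset ℕ}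
    (hP : ∀ p, p ∈ P ↔ p ∈ degreePrimes S) {Q : Finset ℕ} (hQP : Q ⊆ P) (hne : Q.Nonempty) (hQ : Q ≠ P) :
    ∃ a ∈ Q, ∃ b ∈ P, b ∉ Q ∧ (degreeGraph S).Adj a b := by
  obtain ⟨a, ha⟩ := hne
  obtain ⟨b, hb, hbQ⟩ : ∃ b ∈ P, b ∉ Q := by
    by_contra hcon
    push Not at hcon
    exact hQ (Finset.Subset.antisymm hQP hcon)
  obtain ⟨w⟩ := hc.preconnected ⟨a, (hP a).1 (hQP ha)⟩ ⟨b, (hP b).1 hb⟩
  obtain ⟨d, -, h1, h2⟩ := w.exists_boundary_dart {x | (x : ℕ) ∈ Q} ha hbQ
  exact ⟨_, h1, _, (hP _).2 d.snd.2, h2, d.adj⟩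

/-- The facts on simple groups. -/
structure SFacts : Prop where
  ev : ∀ (S : Type) [Group S] [Finite S] [IsSimpleGroup S], ¬ IsMulCommutative S → 2 ∣ Nat.card S
  ext : FactExt.{0}
  im : FactIM.{0}
  tri : FactTri.{0}
  ind : FactInd.{0}
  conn : FactConn.{0}
  kite5 : FactKiteBig.{0}
  kite4 : FactKiteFour.{u, 0}

end Cfsg.Agent.H670.Reg
end

-- part: H734/Prism/Lem
section
/-!
# Degree graphs of solvable groups: lemmas for the exclusions (helper734)
-/

set_option autoImplicit false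
set_option linter.unusedSectionVars false
set_option linter.style.haveILetI false

namespace Cfsg.Agent.H734.Prism

open Subgroup Cfsg.Agent.H670.Palfy

local notation "PSub" => Cfsg.Agent.H670.Palfy.Sub

universe u v w

/-! ### Degrees of normal subgroups -/

theorem deg_normal {T : Type u} [Group T] [Finite T] (K : Subgroup T) [K.Normal] {d : ℕ}
    (hd : d ∈ Cfsg.charDegrees K) : ∃ e ∈ Cfsg.charDegrees T, d ∣ e := by
  classical
  haveI := Fintype.ofFinite T
  haveI := Fintype.ofFinite K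
  obtain ⟨θ, hθ, h1⟩ := H681.DegBasic.mem_charDegrees.1 hd
  obtain ⟨χ, hχ⟩ := Cfsg.Agent.Blocks.Over.exists_over K ⟨θ, hθ⟩
  obtain ⟨c, hc, hc'⟩ := Cfsg.Agent.Characters.Core.isIrr_apply_one χ.2
  exact ⟨c, H681.DegBasic.mem_charDegrees.2 ⟨χ, χ.2, hc'⟩,
    (S0887.result K χ χ.2 θ hθ hχ c d hc' h1).1⟩

theorem deg_le {H : Type u} [Group H] [Finite H] {K T : Subgroup H} [hK : K.Normal] (hKT : K ≤ T)
    {d : ℕ} (hd : d ∈ Cfsg.charDegrees K) : ∃ e ∈ Cfsg.charDegrees T, d ∣ e := by
  haveI : (K.subgroupOf T).Normal := hK.subgroupOf T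
  exact deg_normal (K.subgroupOf T) (H681.DegBasic.charDegrees_comp
    (Subgroup.subgroupOfEquivOfLe hKT).toMonoidHom (Subgroup.subgroupOfEquivOfLe hKT).surjective hd)

/-! ### Sylow subgroups of normal subgroups -/

section

variable {H : Type u} [Group H] [Finite H]

theorem sylow_le {z : ℕ} [hz : Fact z.Prime] (K : Subgroup H) [hK : K.Normal] (hi : ¬ z ∣ K.index)
    (Z : Sylow z H) : (Z : Subgroup H) ≤ K := by
  obtain ⟨Z1, hZ1⟩ := exists_sylow_le (z := z) K hi
  obtain ⟨g, rfl⟩ := MulAction.exists_smul_eq H Z1 Z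
  intro x hx
  have h1 := hK.conj_mem _ (hZ1 (mem_smul_sylow.1 hx)) g
  have h2 : g * (g⁻¹ * x * g) * g⁻¹ = x := by group
  rwa [h2] at h1

theorem not_dvd_of_sylow_le {z : ℕ} [hz : Fact z.Prime] {K : Subgroup H} {Z : Sylow z H}
    (h : (Z : Subgroup H) ≤ K) : ¬ z ∣ K.index := by
  intro h1
  exact Z.not_dvd_index (h1.trans (Subgroup.index_dvd_of_le h))

/-- A normal subgroup of index prime to `z` all of whose degrees are prime to `z`. -/
theorem normal_sylow (hH : Group.IsSolvable H) {z : ℕ} [hz : Fact z.Prime] (K : Subgroup H)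
    [hK : K.Normal] (hi : ¬ z ∣ K.index) (hd : ∀ e ∈ Cfsg.charDegrees K, ¬ z ∣ e) (Z : Sylow z H) :
    (Z : Subgroup H) ≤ K ∧ (Z : Subgroup H).Normal ∧
      ∀ a ∈ (Z : Subgroup H), ∀ b ∈ (Z : Subgroup H), a * b = b * a := by
  have hle : ∀ Z : Sylow z H, (Z : Subgroup H) ≤ K := sylow_le K hi
  have hs : Group.IsSolvable K := inferInstance
  have h1 := fun Q : Sylow z K => im_solvable hs hd Q
  refine ⟨hle Z, ?_, ?_⟩
  · have : Subsingleton (Sylow z H) := by
      refine ⟨fun A B => ?_⟩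
      have : Subsingleton (Sylow z K) :=
        (Sylow.unique_of_normal (A.subtype (hle A)) (h1 _).1).instSubsingleton
      have h2 : A.subtype (hle A) = B.subtype (hle B) := Subsingleton.elim _ _
      apply Sylow.ext
      have h3 := congrArg (fun Q : Sylow z K => (Q : Subgroup K).map K.subtype) h2
      simp only [Sylow.coe_subtype] at h3
      rwa [Subgroup.map_subgroupOf_eq_of_le (hle A), Subgroup.map_subgroupOf_eq_of_le (hle B)] at h3
    exact Sylow.normal_of_subsingleton Z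
  · intro a ha b hb
    have h2 := (h1 (Z.subtype (hle Z))).2 ⟨a, hle Z ha⟩
      (by rw [Sylow.coe_subtype, Subgroup.mem_subgroupOf]; exact ha) ⟨b, hle Z hb⟩
      (by rw [Sylow.coe_subtype, Subgroup.mem_subgroupOf]; exact hb)
    exact congrArg Subtype.val h2

end

/-! ### Modules -/

section

variable {H : Type u} {V : Type v} [Group H] [AddCommGroup V] [DistribMulAction H V]

/-- The action. -/
def act (H : Type u) (V : Type v) [Group H] [AddCommGroup V] [DistribMulAction H V] :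
    H →* Equiv.Perm V := MulAction.toPermHom H V

theorem act_apply (h : H) (v : V) : act H V h v = h • v := rfl

theorem act_eq_one {h : H} : act H V h = 1 ↔ h ∈ Ker H V := by
  constructor
  · intro e v
    have := DFunLike.congr_fun e v
    exact this
  · intro e
    ext v
    exact e v

theorem act_eq {a b : H} : act H V a = act H V b ↔ a * b⁻¹ ∈ Ker H V := by
  rw [← act_eq_one, map_mul, map_inv, mul_inv_eq_one]

theorem irr_sub {Y : AddSubgroup V} {hY : Inv H Y} (h : Irr H (PSub hY)) {Z : AddSubgroup V}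
    (hZY : Z ≤ Y) (hZ : Inv H Z) : Z = ⊥ ∨ Z = Y := by
  let Z' : AddSubgroup (PSub hY) :=
    { carrier := {y | y.val ∈ Z}
      zero_mem' := by
        change (0 : PSub hY).val ∈ Z
        rw [Sub.val_zero]; exact zero_mem _
      add_mem' := fun {a b} ha hb => by
        change a.val + b.val ∈ Z
        exact add_mem ha hb
      neg_mem' := fun {a} ha => by
        change -a.val ∈ Z
        exact neg_mem ha }
  rcases h Z' (fun h w hw => hZ h _ hw) with h1 | h1
  · left
    rw [eq_bot_iff]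
    intro z hz
    have h2 : Cfsg.Agent.H670.Palfy.Sub.mk hY z (hZY hz) ∈ Z' := hz
    rw [h1, AddSubgroup.mem_bot] at h2
    exact congrArg Sub.val h2
  · right
    apply le_antisymm hZY
    intro y hy
    have h2 : Cfsg.Agent.H670.Palfy.Sub.mk hY y hy ∈ Z' := by rw [h1]; exact AddSubgroup.mem_top _
    exact h2

theorem stabilizer_sub {Y : AddSubgroup V} {hY : Inv H Y} (y : PSub hY) :
    MulAction.stabilizer H y = MulAction.stabilizer H y.val := by
  ext h
  rw [MulAction.mem_stabilizer_iff, MulAction.mem_stabilizer_iff, Sub.smul_eq_iff]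

theorem cfg_sub {D : Set ℕ} {k : ℕ} {Y : AddSubgroup V} (hY : Inv H Y) (hc : Cfg D H V k) :
    Cfg D H (PSub hY) k := by
  intro y hy
  have h1 : y.val ≠ 0 := fun h => hy (Sub.ext h)
  rw [stabilizer_sub]
  exact hc _ h1

theorem sub_nontrivial {Y : AddSubgroup V} (hY : Inv H Y) (h : Y ≠ ⊥) : Nontrivial (PSub hY) := by
  obtain ⟨y, hy, hy0⟩ := (AddSubgroup.bot_or_exists_ne_zero Y).resolve_left h
  refine ⟨⟨Cfsg.Agent.H670.Palfy.Sub.mk hY y hy, 0, fun e => hy0 ?_⟩⟩
  exact congrArg Sub.val e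

end

section

variable {H : Type u} {V : Type v} {Y : Type w} [Group H] [AddCommGroup V] [DistribMulAction H V]
  [AddCommGroup Y] [DistribMulAction H Y] [Finite H]

/-- The action of `H` on `C` modulo the kernel is by powers. -/
theorem exists_pow {C : Subgroup H} {p n : ℕ} (h : SLD H Y C p n) (hK : Ker H Y ≤ Ker H V)
    (g : H) : ∃ j : ℤ, ∀ x ∈ C, act H Y (g * x * g⁻¹) = act H Y x ^ j ∧
      act H V (g * x * g⁻¹) = act H V x ^ j := by
  obtain ⟨c, hc, hgen, -⟩ := h.gen
  obtain ⟨j, hj⟩ := hgen (g * c * g⁻¹) (h.nrm.conj_mem c hc g)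
  refine ⟨j, fun x hx => ?_⟩
  obtain ⟨i, hi⟩ := hgen x hx
  constructor
  · have h1 : act H Y x = act H Y c ^ i := by rw [← map_pow, act_eq]; exact hi
    have h2 : act H Y (g * c * g⁻¹) = act H Y c ^ j := by rw [← map_pow, act_eq]; exact hj
    rw [map_mul, map_mul, h1, map_inv, ← conj_pow, ← map_inv, ← map_mul, ← map_mul, h2, zpow_natCast,
      ← pow_mul, ← pow_mul, mul_comm]
  · have h1 : act H V x = act H V c ^ i := by rw [← map_pow, act_eq]; exact hK hi
    have h2 : act H V (g * c * g⁻¹) = act H V c ^ j := by rw [← map_pow, act_eq]; exact hK hj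
    rw [map_mul, map_mul, h1, map_inv, ← conj_pow, ← map_inv, ← map_mul, ← map_mul, h2, zpow_natCast,
      ← pow_mul, ← pow_mul, mul_comm]

/-- A prime dividing `|H : K(V)|` but not `|H : C|` divides the lengths of all orbits on `V`. -/
theorem dvd_stab {C : Subgroup H} {p n : ℕ} (h : SLD H Y C p n) (hK : Ker H Y ≤ Ker H V)
    (hirr : Irr H V) {z : ℕ} [hz : Fact z.Prime] (hzC : ¬ z ∣ C.index)
    (hzV : z ∣ (Ker H V).index) {v : V} (hv : v ≠ 0) : z ∣ (MulAction.stabilizer H v).index := by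
  haveI := h.nrm
  by_contra hcon
  obtain ⟨Z, hZ⟩ := exists_sylow_le (z := z) _ hcon
  have hZC := sylow_le C hzC Z
  refine not_dvd_of_sylow_le (Z := Z) (K := Ker H V) ?_ hzV
  intro x hx
  let F : AddSubgroup V :=
    { carrier := {w | x • w = w}
      zero_mem' := smul_zero x
      add_mem' := fun {a b} ha hb => by
        change x • (a + b) = a + b
        rw [smul_add, ha, hb]
      neg_mem' := fun {a} ha => by
        change x • (-a) = -a
        rw [smul_neg, ha] }
  have hF : ∀ w, w ∈ F ↔ act H V x w = w := fun _ => Iff.rfl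
  rcases hirr F (by
    intro g w hw
    obtain ⟨j, hj⟩ := exists_pow h hK g⁻¹
    have h1 := (hj x (hZC hx)).2
    rw [inv_inv] at h1
    have h2 : act H V (g⁻¹ * x * g) w = w := by
      rw [h1]
      have h3 : act H V x ∈ MulAction.stabilizer (Equiv.Perm V) w := hw
      exact zpow_mem h3 j
    rw [act_apply, mul_smul, mul_smul, inv_smul_eq_iff] at h2
    exact h2) with h1 | h1
  · have h2 : v ∈ F := hZ hx
    rw [h1, AddSubgroup.mem_bot] at h2
    exact absurd h2 hv
  · intro w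
    exact (h1 ▸ AddSubgroup.mem_top w : w ∈ F)

/-- Elements of `C` act trivially on `V` if `|C : K(Y)|` and `|H : K(V)|` are coprime. -/
theorem le_ker {C : Subgroup H} {p n : ℕ} (h : SLD H Y C p n) (hK : Ker H Y ≤ Ker H V)
    (hcop : ∀ x : ℕ, x.Prime → x ∣ (Ker H Y).relIndex C → ¬ x ∣ (Ker H V).index) : C ≤ Ker H V := by
  intro g hg
  have h1 : g ^ (Ker H Y).relIndex C ∈ Ker H V := by
    apply hK
    haveI : ((Ker H Y).subgroupOf C).Normal := (inferInstance : (Ker H Y).Normal).subgroupOf C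
    have h2 := Subgroup.pow_index_mem ((Ker H Y).subgroupOf C) (⟨g, hg⟩ : C)
    rw [Subgroup.mem_subgroupOf] at h2
    exact h2
  have h2 : g ^ (Ker H V).index ∈ Ker H V := Subgroup.pow_index_mem _ g
  have h3 : orderOf (act H V g) ∣ (Ker H Y).relIndex C := by
    apply orderOf_dvd_of_pow_eq_one
    rw [← map_pow, act_eq_one]
    exact h1
  have h4 : orderOf (act H V g) ∣ (Ker H V).index := by
    apply orderOf_dvd_of_pow_eq_one
    rw [← map_pow, act_eq_one]
    exact h2
  rw [← act_eq_one, ← orderOf_eq_one_iff]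
  by_contra hcon
  obtain ⟨x, hx, hx'⟩ := Nat.exists_prime_and_dvd hcon
  exact hcop x hx (hx'.trans h3) (hx'.trans h4)

/-- If `S` is trivial on `V`, `z` divides `|H : K(V)|` but not `|H : C|`, then the number of Sylow subgroups is
prime to `z`. -/
theorem not_dvd_card [Finite Y] {C : Subgroup H} {p n : ℕ} (hp : p.Prime) (hn : 0 < n)
    (h : SLD H Y C p n) (hK : Ker H Y ≤ Ker H V) {z s : ℕ} [hz : Fact z.Prime] [hs : Fact s.Prime]
    (hzs : z ≠ s) (hzC : ¬ z ∣ C.index) (hzV : z ∣ (Ker H V).index)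
    (hu : UF s H (⊥ : AddSubgroup Y)) (S : Sylow s H) (hSY : ¬ Triv Y (S : Subgroup H))
    (hSV : Triv V (S : Subgroup H)) : ¬ z ∣ Nat.card (Sylow s H) := by
  haveI := h.nrm
  obtain ⟨Z⟩ : Nonempty (Sylow z H) := inferInstance
  have hZC := sylow_le C hzC Z
  -- elements of `Z` have `z`-power order
  have hord : ∀ x ∈ (Z : Subgroup H), ∃ e : ℕ, x ^ (z ^ e) = 1 := by
    intro x hx
    obtain ⟨e, he⟩ := Z.isPGroup' ⟨x, hx⟩
    exact ⟨e, congrArg Subtype.val he⟩
  have hcomm : ∀ x ∈ (Z : Subgroup H), ∀ g ∈ (S : Subgroup H), g * x * g⁻¹ * x⁻¹ ∈ Ker H Y := by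
    intro x hx g hg
    obtain ⟨j, hj⟩ := exists_pow h hK g
    have hgV : act H V g = 1 := act_eq_one.2 (hSV g hg)
    -- `z ∣ j - 1`
    have hzj : (z : ℤ) ∣ j - 1 := by
      by_contra hcon
      refine not_dvd_of_sylow_le (Z := Z) (K := Ker H V) ?_ hzV
      intro y hy
      obtain ⟨e, he⟩ := hord y hy
      have h1 := (hj y (hZC hy)).2
      rw [map_mul, map_mul, hgV, one_mul, map_inv, hgV, inv_one, mul_one] at h1
      have h2 : act H V y ^ (j - 1) = 1 := by
        rw [zpow_sub_one, ← h1, mul_inv_cancel]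
      have h3 : act H V y ^ ((z ^ e : ℕ) : ℤ) = 1 := by
        rw [zpow_natCast, ← map_pow, he, map_one]
      have h4 : IsCoprime (j - 1) ((z ^ e : ℕ) : ℤ) := by
        push_cast
        apply IsCoprime.pow_right
        exact ((Nat.prime_iff_prime_int.1 hz.out).coprime_iff_not_dvd.2 hcon).symm
      obtain ⟨a, b, hab⟩ := h4
      rw [← act_eq_one]
      calc act H V y = act H V y ^ (a * (j - 1) + b * ((z ^ e : ℕ) : ℤ)) := by rw [hab, zpow_one]
        _ = 1 := by
          rw [zpow_add, mul_comm a, mul_comm b, zpow_mul, zpow_mul, h2, h3, one_zpow, one_zpow, one_mul]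
    -- powers of `g`
    have hpow : ∀ k : ℕ, act H Y (g ^ k * x * (g ^ k)⁻¹) = act H Y x ^ (j ^ k) := by
      intro k
      induction k with
      | zero => simp
      | succ k ih =>
        have h1 : g ^ (k + 1) * x * (g ^ (k + 1))⁻¹ = g * (g ^ k * x * (g ^ k)⁻¹) * g⁻¹ := by
          rw [pow_succ']; group
        rw [h1, (hj _ (h.nrm.conj_mem x (hZC hx) _)).1, ih, ← zpow_mul, pow_succ]
    obtain ⟨f, hf⟩ := S.isPGroup' ⟨g, hg⟩
    have hf' : g ^ (s ^ f) = 1 := congrArg Subtype.val hf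
    have h1 := hpow (s ^ f)
    rw [hf', one_mul, inv_one, mul_one] at h1
    have h2 : act H Y x ^ (j ^ (s ^ f) - 1) = 1 := by
      rw [zpow_sub_one, ← h1, mul_inv_cancel]
    rw [← mul_geom_sum, zpow_mul] at h2
    obtain ⟨e, he⟩ := hord x hx
    have h3 : (act H Y x ^ (j - 1)) ^ ((z ^ e : ℕ) : ℤ) = 1 := by
      rw [← zpow_mul, mul_comm, zpow_mul, zpow_natCast, ← map_pow, he, map_one, one_zpow]
    have h4 : ¬ (z : ℤ) ∣ ∑ i ∈ Finset.range (s ^ f), j ^ i := by
      intro hd
      have h5 : (∑ i ∈ Finset.range (s ^ f), j ^ i) ≡ ((s ^ f : ℕ) : ℤ) [ZMOD z] := by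
        have h6 : ∀ i ∈ Finset.range (s ^ f), j ^ i ≡ 1 [ZMOD z] := by
          intro i _
          have h7 : j ≡ 1 [ZMOD z] := (Int.modEq_iff_dvd.2 (by
            rw [← neg_sub]; exact (dvd_neg).2 hzj))
          have := h7.pow i
          rwa [one_pow] at this
        have h8 := Int.ModEq.sum (s := Finset.range (s ^ f)) (f := fun i => j ^ i) (g := fun _ => 1) (n := z) h6
        rwa [Finset.sum_const, Finset.card_range, nsmul_eq_mul, mul_one] at h8
      have h6 : (z : ℤ) ∣ ((s ^ f : ℕ) : ℤ) := h5.dvd_iff.1 hd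
      have h7 : z ∣ s ^ f := by exact_mod_cast h6
      exact hzs ((Nat.prime_dvd_prime_iff_eq hz.out hs.out).1 (hz.out.dvd_of_dvd_pow h7))
    have h5 : IsCoprime (∑ i ∈ Finset.range (s ^ f), j ^ i) ((z ^ e : ℕ) : ℤ) := by
      push_cast
      apply IsCoprime.pow_right
      exact ((Nat.prime_iff_prime_int.1 hz.out).coprime_iff_not_dvd.2 h4).symm
    obtain ⟨a, b, hab⟩ := h5
    have h6 : act H Y x ^ (j - 1) = 1 := by
      calc act H Y x ^ (j - 1) = (act H Y x ^ (j - 1)) ^
          (a * (∑ i ∈ Finset.range (s ^ f), j ^ i) + b * ((z ^ e : ℕ) : ℤ)) := by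
            rw [hab, zpow_one]
        _ = 1 := by
          rw [zpow_add, mul_comm a, mul_comm b, zpow_mul, zpow_mul, h2, h3, one_zpow, one_zpow, one_mul]
    rw [← act_eq_one, map_mul, (hj x (hZC hx)).1, map_inv, ← zpow_sub_one]
    exact h6
  -- a vector fixed by `S`
  obtain ⟨m, hm0, hmn, hm, -⟩ := hu.params hp h.card hn S (hu.card_ne_one hSY)
  obtain ⟨y, hy, hy0⟩ := (AddSubgroup.bot_or_exists_ne_zero (fixed Y (S : Subgroup H))).resolve_left (by
    intro h0
    rw [h0, AddSubgroup.card_bot] at hm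
    have := Nat.one_lt_pow hm0.ne' hp.one_lt
    omega)
  obtain ⟨S', hS', huq⟩ := hu y hy0
  have hZN : (Z : Subgroup H) ≤ Subgroup.normalizer (S : Set H) := by
    intro x hx
    rw [← Sylow.smul_eq_iff_mem_normalizer]
    rw [huq S hy]
    refine huq _ ?_
    rw [← huq S hy]
    intro t ht
    have h1 := mem_smul_sylow.1 ht
    -- `x⁻¹ t x = σ ∈ S`
    have h2 := hcomm x⁻¹ (inv_mem hx) _ h1
    have h3 : t = (t * (x⁻¹ * t * x)⁻¹) * (x⁻¹ * t * x) := by group
    have h4 : act H Y t = act H Y (x⁻¹ * t * x) := by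
      rw [act_eq]
      have h5 := hcomm x hx _ h1
      have h6 := (instKerNormal (H := H) (V := Y)).conj_mem _ (inv_mem h5) 1
      have h7 : t * (x⁻¹ * t * x)⁻¹ = (x⁻¹ * t * x * x * (x⁻¹ * t * x)⁻¹ * x⁻¹)⁻¹ := by group
      rw [h7]
      exact inv_mem h5
    have h5 : act H Y t y = y := by
      rw [h4]
      exact hy _ h1
    exact h5
  rw [Sylow.card_eq_index_normalizer S]
  exact not_dvd_of_sylow_le hZN

end

end Cfsg.Agent.H734.Prism
end

-- part: H734/Prism/Conf
section
/-!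
# Degree graphs of solvable groups: the configurations (helper734)
-/

set_option autoImplicit false
set_option linter.unusedSectionVars false
set_option linter.style.haveILetI false

namespace Cfsg.Agent.H734.Prism

open Subgroup Cfsg.Agent.H670.Palfy

local notation "PSub" => Cfsg.Agent.H670.Palfy.Sub

universe u v w

/-! ### Prime factors -/

theorem card_le_two {c a b : ℕ} (h : ∀ x : ℕ, x.Prime → x ∣ c → x = a ∨ x = b) :
    c.primeFactors.card ≤ 2 := by
  classical
  refine (Finset.card_le_card (t := {a, b}) ?_).trans Finset.card_le_two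
  intro x hx
  rw [Finset.mem_insert, Finset.mem_singleton]
  exact h x (Nat.prime_of_mem_primeFactors hx) (Nat.dvd_of_mem_primeFactors hx)

theorem card_le_three {c a b d : ℕ} (h : ∀ x : ℕ, x.Prime → x ∣ c → x = a ∨ x = b ∨ x = d) :
    c.primeFactors.card ≤ 3 := by
  classical
  refine (Finset.card_le_card (t := {a, b, d}) ?_).trans Finset.card_le_three
  intro x hx
  rw [Finset.mem_insert, Finset.mem_insert, Finset.mem_singleton]
  exact h x (Nat.prime_of_mem_primeFactors hx) (Nat.dvd_of_mem_primeFactors hx)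

/-! ### Consequences of `SLD.uf` -/

section

variable {H : Type u} {V : Type v} [Group H] [AddCommGroup V] [DistribMulAction H V] [Finite H]
  [Finite V]

theorem relIndex_ne_zero (A B : Subgroup H) : A.relIndex B ≠ 0 :=
  Subgroup.index_ne_zero_of_finite (H := A.subgroupOf B)

theorem uf_card {C : Subgroup H} {p n : ℕ} (hp : p.Prime) (hn : 0 < n) (h : SLD H V C p n) {z : ℕ}
    [hz : Fact z.Prime] (hu : UF z H (⊥ : AddSubgroup V)) (Z : Sylow z H)
    (hZ : ¬ Triv V (Z : Subgroup H)) :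
    z ∣ C.index ∧ ¬ z ∣ (Ker H V).relIndex C ∧ Nat.card (Sylow z H) ∣ (Ker H V).relIndex C ∧
    ∃ k m : ℕ, 0 < k ∧ n = m * z ^ k ∧ (p ^ n - 1) / (p ^ m - 1) = Nat.card (Sylow z H) ∧
      (p ^ n - 1) / (p ^ m - 1) ≡ 1 [MOD z] := by
  obtain ⟨h1, h2, k, m, hk, hnm, hm, hmod, hdvd⟩ := h.uf z hz.out hu Z hZ
  have h3 := hu.card_mul Z
  rw [h.card, hm] at h3
  have hm0 : 0 < m := by
    rcases Nat.eq_zero_or_pos m with h0 | h0
    · rw [h0, Nat.zero_mul] at hnm; omega
    · exact h0
  have h4 : 1 < p ^ m := Nat.one_lt_pow hm0.ne' hp.one_lt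
  have h5 : (p ^ n - 1) / (p ^ m - 1) = Nat.card (Sylow z H) := by
    rw [h3]; exact Nat.mul_div_cancel _ (by omega)
  exact ⟨h1, h2, h5 ▸ hdvd, k, m, hk, hnm, h5, hmod⟩

theorem num_card (hN : FactNum) {C : Subgroup H} {p n : ℕ} (hp : p.Prime) (hn : 0 < n)
    (h : SLD H V C p n) {a b : ℕ} [ha : Fact a.Prime] [hb : Fact b.Prime] (hab : a ≠ b)
    (hua : UF a H (⊥ : AddSubgroup V)) (A : Sylow a H) (hA : ¬ Triv V (A : Subgroup H))
    (hub : UF b H (⊥ : AddSubgroup V)) (B : Sylow b H) (hB : ¬ Triv V (B : Subgroup H))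
    (W : Finset ℕ) (haW : a ∈ W) (hbW : b ∈ W) (hW : ∀ w ∈ W, w.Prime ∧ w ∣ n) :
    W.card + 1 ≤ (Nat.card (Sylow a H) * Nat.card (Sylow b H)).primeFactors.card := by
  classical
  obtain ⟨-, -, -, ka, ma, hka, hna, hca, hmoda⟩ := uf_card hp hn h hua A hA
  obtain ⟨-, -, -, kb, mb, hkb, hnb, hcb, hmodb⟩ := uf_card hp hn h hub B hB
  have h1 := hN p n {a, b} W (fun z => if z = a then ma else mb) (fun z => if z = a then ka else kb)
    hp hn (by
      intro x hx
      rw [Finset.mem_insert, Finset.mem_singleton] at hx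
      rcases hx with rfl | rfl
      · exact haW
      · exact hbW) (by rw [Finset.card_pair hab]) hW (by
      intro z hz
      rw [Finset.mem_insert, Finset.mem_singleton] at hz
      rcases hz with rfl | rfl
      · rw [if_pos rfl, if_pos rfl]
        exact ⟨hka, hna, hmoda⟩
      · rw [if_neg hab.symm, if_neg hab.symm]
        exact ⟨hkb, hnb, hmodb⟩)
  rw [Finset.prod_pair hab, if_pos rfl, if_neg hab.symm, hca, hcb] at h1
  exact h1

theorem num_dvd (hN : FactNum) {C : Subgroup H} {p n : ℕ} (hp : p.Prime) (hn : 0 < n)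
    (h : SLD H V C p n) {a b : ℕ} [ha : Fact a.Prime] [hb : Fact b.Prime] (hab : a ≠ b)
    (hua : UF a H (⊥ : AddSubgroup V)) (A : Sylow a H) (hA : ¬ Triv V (A : Subgroup H))
    (hub : UF b H (⊥ : AddSubgroup V)) (B : Sylow b H) (hB : ¬ Triv V (B : Subgroup H))
    (W : Finset ℕ) (haW : a ∈ W) (hbW : b ∈ W) (hW : ∀ w ∈ W, w.Prime ∧ w ∣ n) :
    W.card + 1 ≤ ((Ker H V).relIndex C).primeFactors.card := by
  classical
  refine (num_card hN hp hn h hab hua A hA hub B hB W haW hbW hW).trans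
    (Finset.card_le_card ?_)
  obtain ⟨-, -, h1, -⟩ := uf_card hp hn h hua A hA
  obtain ⟨-, -, h2, -⟩ := uf_card hp hn h hub B hB
  rw [Nat.primeFactors_mul Nat.card_pos.ne' Nat.card_pos.ne']
  exact Finset.union_subset (Nat.primeFactors_mono h1 (relIndex_ne_zero _ _))
    (Nat.primeFactors_mono h2 (relIndex_ne_zero _ _))

/-- The case `W = {a, b}`. -/
theorem three_le (hN : FactNum) {C : Subgroup H} {p n : ℕ} (hp : p.Prime) (hn : 0 < n)
    (h : SLD H V C p n) {a b : ℕ} [ha : Fact a.Prime] [hb : Fact b.Prime] (hab : a ≠ b)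
    (hua : UF a H (⊥ : AddSubgroup V)) (A : Sylow a H) (hA : ¬ Triv V (A : Subgroup H))
    (hub : UF b H (⊥ : AddSubgroup V)) (B : Sylow b H) (hB : ¬ Triv V (B : Subgroup H)) :
    3 ≤ (Nat.card (Sylow a H) * Nat.card (Sylow b H)).primeFactors.card := by
  classical
  have h1 := num_card hN hp hn h hab hua A hA hub B hB {a, b} (by simp) (by simp) (by
    intro w hw
    rw [Finset.mem_insert, Finset.mem_singleton] at hw
    rcases hw with rfl | rfl
    · exact ⟨ha.out, (uf_card hp hn h hua A hA).1.trans h.dvd⟩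
    · exact ⟨hb.out, (uf_card hp hn h hub B hB).1.trans h.dvd⟩)
  rwa [Finset.card_pair hab] at h1

theorem three_le' (hN : FactNum) {C : Subgroup H} {p n : ℕ} (hp : p.Prime) (hn : 0 < n)
    (h : SLD H V C p n) {a b : ℕ} [ha : Fact a.Prime] [hb : Fact b.Prime] (hab : a ≠ b)
    (hua : UF a H (⊥ : AddSubgroup V)) (A : Sylow a H) (hA : ¬ Triv V (A : Subgroup H))
    (hub : UF b H (⊥ : AddSubgroup V)) (B : Sylow b H) (hB : ¬ Triv V (B : Subgroup H)) :
    3 ≤ ((Ker H V).relIndex C).primeFactors.card := by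
  classical
  have h1 := num_dvd hN hp hn h hab hua A hA hub B hB {a, b} (by simp) (by simp) (by
    intro w hw
    rw [Finset.mem_insert, Finset.mem_singleton] at hw
    rcases hw with rfl | rfl
    · exact ⟨ha.out, (uf_card hp hn h hua A hA).1.trans h.dvd⟩
    · exact ⟨hb.out, (uf_card hp hn h hub B hB).1.trans h.dvd⟩)
  rwa [Finset.card_pair hab] at h1

/-- `|H : K| = |H : C| |C : K|`. -/
theorem index_eq {C : Subgroup H} {p n : ℕ} (h : SLD H V C p n) :
    (Ker H V).index = (Ker H V).relIndex C * C.index :=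
  (Subgroup.relIndex_mul_index h.ker).symm

theorem prime_dvd_index {C : Subgroup H} {p n : ℕ} (h : SLD H V C p n) {x : ℕ} (hx : x.Prime)
    (hd : x ∣ (Ker H V).index) : x ∣ (Ker H V).relIndex C ∨ x ∣ C.index := by
  rw [index_eq h] at hd
  exact hx.dvd_mul.1 hd

end

/-! ### The second configuration -/

section

variable {G : Type u} [Group G] [Finite G] {M P H : Subgroup G} [hM : M.Normal] [hP : P.Normal] {p : ℕ}

theorem finite_LC {N : Subgroup G} {p n : ℕ} (hp : p.Prime) (h : Nat.card (LC N) = p ^ n) :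
    Finite (LC N) :=
  Nat.finite_of_card_ne_zero (by rw [h]; exact (pow_pos hp.pos n).ne')

theorem nontrivial_LC {N : Subgroup G} {p n : ℕ} (hp : p.Prime) (hn : 0 < n)
    (h : Nat.card (LC N) = p ^ n) : Nontrivial (LC N) := by
  haveI := finite_LC hp h
  rw [← Finite.one_lt_card_iff_nontrivial, h]
  exact Nat.one_lt_pow hn.ne' hp.one_lt

theorem coprime_LC (h : T2 G M P H p) (hp : p.Prime) {y : ℕ} [hy : Fact y.Prime] (hyp : y ≠ p)
    (Y : Sylow y H) : (Nat.card (Y : Subgroup H)).Coprime (Nat.card (LC P)) := by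
  obtain ⟨n, hn⟩ := h.cardW
  obtain ⟨k, hk⟩ := IsPGroup.iff_card.1 Y.isPGroup'
  rw [hn]
  refine Nat.Coprime.pow_right _ ?_
  have h1 : Nat.card (Y : Subgroup H) = y ^ k := hk
  rw [h1]
  exact Nat.Coprime.pow_left _ ((Nat.coprime_primes hy.out hp).2 hyp)

/-- A normal Sylow `y`-subgroup `Y` nontrivial on `W`, and a prime `z` not adjacent to `y`. -/
theorem factB (hSL : FactSL.{u, u}) (hG : Group.IsSolvable G) (h : T2 G M P H p) (hp : p.Prime)
    {y z : ℕ} [hy : Fact y.Prime] [hz : Fact z.Prime] (hyp : y ≠ p) (hzp : z ≠ p) (hzR : Rho z G)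
    (hyz : NA y z G) (Y : Sylow y H) (hY : (Y : Subgroup H).Normal)
    (hYW : ¬ Triv (LC P) (Y : Subgroup H)) :
    (∀ Z : Sylow z H, ∀ x ∈ (Z : Subgroup H), ∀ v ∈ fixed (LC P) (Y : Subgroup H), x • v = v) ∧
    (∀ Z : Sylow z H, ¬ Triv (PSub (inv_com (V := LC P) (Y : Subgroup H) hY)) (Z : Subgroup H)) ∧
    UF z H (⊥ : AddSubgroup (PSub (inv_com (V := LC P) (Y : Subgroup H) hY))) ∧
    ∃ (C : Subgroup H) (n : ℕ), 0 < n ∧
      SLD H (PSub (inv_com (V := LC P) (Y : Subgroup H) hY)) C p n := by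
  obtain ⟨N, hN⟩ := h.cardW
  haveI := finite_LC hp hN
  haveI hH : Group.IsSolvable H := inferInstance
  have hcop := coprime_LC h hp hyp Y
  have hf := uf_of_cfg_fixed hH h.cfgW (z := z) (y := y)
    (fun e he _ h1 h2 => hyz e he h1 h2) Y hY
  have hcom : com (LC P) (Y : Subgroup H) ≠ ⊥ := fun e => hYW (com_eq_bot_iff.1 e)
  have hinf := fixed_inf_com (V := LC P) (Y : Subgroup H) hcop
  have hfix : fixed (LC P) (Y : Subgroup H) ≠ ⊤ := by
    intro e
    apply hYW
    intro x hx v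
    exact (e ▸ AddSubgroup.mem_top v : v ∈ fixed (LC P) (Y : Subgroup H)) x hx
  have hexv : ∃ v : LC P, v ∉ fixed (LC P) (Y : Subgroup H) := by
    by_contra hcon
    push Not at hcon
    exact hfix ((AddSubgroup.eq_top_iff' _).2 hcon)
  have h1 : ∀ Z : Sylow z H, ∀ x ∈ (Z : Subgroup H), ∀ v ∈ fixed (LC P) (Y : Subgroup H),
      x • v = v := fun Z =>
    hf.1.triv_of_compl (inv_fixed _ hY) (inv_com _ hY) hinf hcom Z
  have h2 : ∀ Z : Sylow z H,
      ¬ Triv (PSub (inv_com (V := LC P) (Y : Subgroup H) hY)) (Z : Subgroup H) := by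
    intro Z hZ
    rw [Sub.triv_iff] at hZ
    have h3 : Triv (LC P) (Z : Subgroup H) := by
      intro x hx v
      obtain ⟨a, ha, b, hb, rfl⟩ := com_sup_fixed (V := LC P) (Y : Subgroup H) hcop v
      rw [smul_add, hZ x hx a ha, h1 Z x hx b hb]
    exact h.nt z hz.out hzp hzR Z (hf.1.normal_of_triv hfix h3) (hf.2 hexv Z) h3
  have h3 : UF z H (⊥ : AddSubgroup (PSub (inv_com (V := LC P) (Y : Subgroup H) hY))) :=
    hf.1.sub _ hinf
  obtain ⟨n, hn, hc⟩ := exists_card_fixed hp hN (com (LC P) (Y : Subgroup H))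
  have hn0 : 0 < n := by
    rcases Nat.eq_zero_or_pos n with h0 | h0
    · rw [h0, pow_zero, AddSubgroup.card_eq_one] at hc
      exact absurd hc hcom
    · exact h0
  have hcs : Nat.card (PSub (inv_com (V := LC P) (Y : Subgroup H) hY)) = p ^ n := by
    rw [Sub.card]; exact hc
  obtain ⟨Z⟩ : Nonempty (Sylow z H) := inferInstance
  have hirr := h3.irr hp hcs (h2 Z)
  obtain ⟨C, hC⟩ := hSL H (PSub (inv_com (V := LC P) (Y : Subgroup H) hY)) p n z hH hp hn0 hcs hirr
    hz.out hzp h3 ⟨Z, h2 Z⟩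
  exact ⟨h1, h2, h3, C, n, hn0, hC⟩

/-- `K(W_y) ≤ K(V)`. -/
theorem ker_le (h : T2 G M P H p) {y : ℕ} [hy : Fact y.Prime] (hyp : y ≠ p) (hpy : NA p y G)
    (Y : Sylow y H) (hY : (Y : Subgroup H).Normal) (hYV : Triv (LC M) (Y : Subgroup H))
    (hYW : ¬ Triv (LC P) (Y : Subgroup H)) :
    Ker H (PSub (inv_com (V := LC P) (Y : Subgroup H) hY)) ≤ Ker H (LC M) := by
  intro x hx
  exact h.ker_com y hy.out hyp hpy Y hY hYV hYW x (fun w hw =>
    congrArg Sub.val (hx (Cfsg.Agent.H670.Palfy.Sub.mk _ w hw)))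

/-- A prime with the unique fixing property on `V` and on `W_y` acts trivially on `V`. -/
theorem triv_of_uf (h : T2 G M P H p) (hp : p.Prime) {y z : ℕ} [hy : Fact y.Prime]
    [hz : Fact z.Prime] (hyp : y ≠ p) (hpy : NA p y G)
    (Y : Sylow y H) (hY : (Y : Subgroup H).Normal) (hYV : Triv (LC M) (Y : Subgroup H))
    (hYW : ¬ Triv (LC P) (Y : Subgroup H)) (hu : UF z H (⊥ : AddSubgroup (LC M)))
    (hu' : UF z H (⊥ : AddSubgroup (PSub (inv_com (V := LC P) (Y : Subgroup H) hY))))
    (Z : Sylow z H) : Triv (LC M) (Z : Subgroup H) := by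
  by_contra hcon
  obtain ⟨N, hN⟩ := h.cardW
  obtain ⟨n, hn0, hn⟩ := h.card
  haveI := finite_LC hp hN
  haveI := finite_LC hp hn
  obtain ⟨m, hm, hc⟩ := exists_card_fixed hp hN (com (LC P) (Y : Subgroup H))
  have hlt := h.card_com y hy.out hyp hpy Y hY hYV hYW
  rw [hn, hc] at hlt
  have h1 : n < m := (Nat.pow_lt_pow_iff_right hp.one_lt).1 hlt
  have h2 := UF.card_eq hp hu hu' hn (by rw [Sub.card]; exact hc) hn0 (by omega)
    (hu.card_ne_one hcon)
  omega

/-- The generator of `C` does not act trivially on `V`. -/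
theorem no_ker (h : T2 G M P H p) (hp : p.Prime) {y s : ℕ} [hy : Fact y.Prime] [hs : Fact s.Prime]
    (hyp : y ≠ p) (hsp : s ≠ p) (hpy : NA p y G) (Y : Sylow y H) (hY : (Y : Subgroup H).Normal)
    (hYV : Triv (LC M) (Y : Subgroup H)) (hYW : ¬ Triv (LC P) (Y : Subgroup H))
    {C : Subgroup H} {n : ℕ} (hn : 0 < n)
    (hC : SLD H (PSub (inv_com (V := LC P) (Y : Subgroup H) hY)) C p n)
    (hu : UF s H (⊥ : AddSubgroup (PSub (inv_com (V := LC P) (Y : Subgroup H) hY))))
    (S : Sylow s H) (hS : ¬ Triv (PSub (inv_com (V := LC P) (Y : Subgroup H) hY)) (S : Subgroup H))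
    (hCV : C ≤ Ker H (LC M)) : False := by
  obtain ⟨N, hN⟩ := h.cardW
  haveI := finite_LC hp hN
  obtain ⟨g, hg, hgen, hirr⟩ := hC.gen
  have hcard : Nat.card (com (LC P) (Y : Subgroup H)) = p ^ n := by
    rw [← hC.card, Sub.card]
  obtain ⟨i, hi, hgi⟩ := h.pow_com y hy.out hyp hpy Y hY hYV hYW n hcard g (hCV hg) (by
    intro Z hZ hgZ
    let Z' : AddSubgroup (PSub (inv_com (V := LC P) (Y : Subgroup H) hY)) :=
      { carrier := {y | y.val ∈ Z}
        zero_mem' := zero_mem Z
        add_mem' := fun {a b} ha hb => by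
          change a.val + b.val ∈ Z
          exact add_mem ha hb
        neg_mem' := fun {a} ha => by
          change -a.val ∈ Z
          exact neg_mem ha }
    rcases hirr Z' (fun w hw => hgZ _ hw) with h1 | h1
    · left
      rw [eq_bot_iff]
      intro z hz
      have h2 : Cfsg.Agent.H670.Palfy.Sub.mk (inv_com (V := LC P) (Y : Subgroup H) hY) z (hZ hz) ∈ Z' := hz
      rw [h1, AddSubgroup.mem_bot] at h2
      exact congrArg Sub.val h2
    · right
      apply le_antisymm hZ
      intro y hy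
      have h2 : Cfsg.Agent.H670.Palfy.Sub.mk (inv_com (V := LC P) (Y : Subgroup H) hY) y hy ∈ Z' := by
        rw [h1]; exact AddSubgroup.mem_top _
      exact h2)
  exact hC.no_pow hp hn hsp hu S hS hg hgen hi (fun v => Sub.ext (hgi v.val v.mem))

end

end Cfsg.Agent.H734.Prism
end

-- part: H734/Prism/Main
section
/-!
# Degree graphs of solvable groups: the prism does not occur (helper734, plan of helper670)
-/

set_option autoImplicit false
set_option linter.unusedSectionVars false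
set_option linter.style.haveILetI false

namespace Cfsg.Agent.H734.Prism

open Subgroup Cfsg.Agent.H670.Palfy

local notation "PSub" => Cfsg.Agent.H670.Palfy.Sub

universe u v w

/-- The degree primes of `G`, six primes cyclically not adjacent. -/
structure Hex (G : Type u) [Group G] (p q s w u r : ℕ) : Prop where
  pp : p.Prime
  pq : q.Prime
  ps : s.Prime
  pw : w.Prime
  pu : u.Prime
  pr : r.Prime
  rp : Rho p G
  rq : Rho q G
  rs : Rho s G
  rw : Rho w G
  ru : Rho u G
  rr : Rho r G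
  all : ∀ x : ℕ, x.Prime → Rho x G → x = p ∨ x = q ∨ x = s ∨ x = w ∨ x = u ∨ x = r
  apq : NA p q G
  aqs : NA q s G
  asw : NA s w G
  awu : NA w u G
  aur : NA u r G
  arp : NA r p G
  nd : [p, q, s, w, u, r].Nodup

theorem NA.symm {a b : ℕ} {G : Type u} [Group G] (h : NA a b G) : NA b a G :=
  fun e he h1 h2 => h e he h2 h1

variable {G : Type u} [Group G] {p q s w u r : ℕ}

theorem Hex.rev (h : Hex G p q s w u r) : Hex G p r u w s q where
  pp := h.pp
  pq := h.pr
  ps := h.pu
  pw := h.pw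
  pu := h.ps
  pr := h.pq
  rp := h.rp
  rq := h.rr
  rs := h.ru
  rw := h.rw
  ru := h.rs
  rr := h.rq
  all := fun x hx hR => by
    rcases h.all x hx hR with h1 | h1 | h1 | h1 | h1 | h1 <;> simp only [h1, true_or, or_true]
  apq := NA.symm h.arp
  aqs := NA.symm h.aur
  asw := NA.symm h.awu
  awu := NA.symm h.asw
  aur := NA.symm h.aqs
  arp := NA.symm h.apq
  nd := by
    have := h.nd
    simp only [List.nodup_cons, List.mem_cons, List.not_mem_nil, or_false, not_or, List.nodup_nil,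
      not_false_eq_true, and_true] at this ⊢
    tauto

theorem Hex.ne (h : Hex G p q s w u r) : (p ≠ q ∧ p ≠ s ∧ p ≠ w ∧ p ≠ u ∧ p ≠ r) ∧
    (q ≠ s ∧ q ≠ w ∧ q ≠ u ∧ q ≠ r) ∧ (s ≠ w ∧ s ≠ u ∧ s ≠ r) ∧ (w ≠ u ∧ w ≠ r) ∧ u ≠ r := by
  have := h.nd
  simp only [List.nodup_cons, List.mem_cons, List.not_mem_nil, or_false, not_or, List.nodup_nil,
    not_false_eq_true, and_true] at this
  tauto

/-- The primes of a degree. -/
theorem Hex.cases (h : Hex G p q s w u r) {e x : ℕ} (he : e ∈ Cfsg.charDegrees G) (hx : x.Prime)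
    (hxe : x ∣ e) : x = p ∨ x = q ∨ x = s ∨ x = w ∨ x = u ∨ x = r :=
  h.all x hx ⟨e, he, hxe⟩

/-! ### The first configuration -/

theorem t1 (hSL : FactSL.{u, u}) (hN : FactNum) [Finite G] (hG : Group.IsSolvable G)
    {M : Subgroup G} [M.Normal] {H : Subgroup G} (hex : Hex G p q s w u r) (h : T1 G M H p) :
    False := by
  obtain ⟨l, n, hl, hlp, hn, hcard⟩ := h.card
  haveI := finite_LC hl hcard
  haveI := nontrivial_LC hl hn hcard
  haveI hH : Group.IsSolvable H := inferInstance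
  haveI : Fact q.Prime := ⟨hex.pq⟩
  haveI : Fact r.Prime := ⟨hex.pr⟩
  haveI : Fact w.Prime := ⟨hex.pw⟩
  obtain ⟨hne1, hne2, hne3, hne4, hne5⟩ := hex.ne
  have hbot : (⊥ : AddSubgroup (LC M)) ≠ ⊤ := bot_ne_top
  -- `q`, `r`
  have hD : ∀ z : ℕ, NA p z G → ∀ e ∈ Cfsg.charDegrees G, p ∣ e → z ∣ e → False :=
    fun z h1 e he h2 h3 => h1 e he h2 h3
  have huq : UF q H (⊥ : AddSubgroup (LC M)) := uf_of_cfg hH h.cfg (hD q hex.apq)
  have hur : UF r H (⊥ : AddSubgroup (LC M)) := uf_of_cfg hH h.cfg (hD r (NA.symm hex.arp))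
  have hnq : ∀ Q : Sylow q H, ¬ Triv (LC M) (Q : Subgroup H) := fun Q hQ =>
    h.nt q hex.pq hex.rq Q (huq.normal_of_triv hbot hQ)
      (comm_of_cfg hH h.cfg (hD q hex.apq) inferInstance Q) hQ
  have hnr : ∀ Q : Sylow r H, ¬ Triv (LC M) (Q : Subgroup H) := fun Q hQ =>
    h.nt r hex.pr hex.rr Q (hur.normal_of_triv hbot hQ)
      (comm_of_cfg hH h.cfg (hD r (NA.symm hex.arp)) inferInstance Q) hQ
  obtain ⟨Q⟩ : Nonempty (Sylow q H) := inferInstance
  obtain ⟨R⟩ : Nonempty (Sylow r H) := inferInstance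
  obtain ⟨C, hC⟩ : ∃ C : Subgroup H, SLD H (LC M) C l n := by
    by_cases hql : q = l
    · exact hSL H (LC M) l n r hH hl hn hcard h.irr hex.pr (fun e => hne2.2.2.2 (hql.trans e.symm))
        hur ⟨R, hnr R⟩
    · exact hSL H (LC M) l n q hH hl hn hcard h.irr hex.pq hql huq ⟨Q, hnq Q⟩
  obtain ⟨hqC, hqc, -⟩ := uf_card hl hn hC huq Q (hnq Q)
  obtain ⟨hrC, hrc, -⟩ := uf_card hl hn hC hur R (hnr R)
  have hCd : C.index ∈ Cfsg.charDegrees G := h.cd hC.deg
  -- a nonzero vector
  obtain ⟨v, hv⟩ := exists_ne (0 : LC M)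
  have h3 := three_le' hN hl hn hC hne2.2.2.2 huq Q (hnq Q) hur R (hnr R)
  -- all primes of `c` divide one degree together with `p`
  obtain ⟨e, he, he1, he2⟩ := h.cfg v hv 1 H681.DegBasic.one_mem
  rw [mul_one] at he1
  have hce : (Ker H (LC M)).relIndex C ∣ e := (hC.stab v hv).trans he1
  have hwc : ¬ w ∣ (Ker H (LC M)).relIndex C := by
    intro hwc
    have : ((Ker H (LC M)).relIndex C).primeFactors.card ≤ 2 := by
      refine card_le_two (a := p) (b := w) fun x hx hxc => ?_
      rcases hex.cases he hx (hxc.trans hce) with h1 | h1 | h1 | h1 | h1 | h1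
      · exact Or.inl h1
      · exact absurd (h1 ▸ hxc) hqc
      · exact (hex.asw e he (h1 ▸ hxc.trans hce) (hwc.trans hce)).elim
      · exact Or.inr h1
      · exact (hex.awu e he (hwc.trans hce) (h1 ▸ hxc.trans hce)).elim
      · exact absurd (h1 ▸ hxc) hrc
    omega
  have hsc : s ∣ (Ker H (LC M)).relIndex C := by
    by_contra hsc
    have : ((Ker H (LC M)).relIndex C).primeFactors.card ≤ 2 := by
      refine card_le_two (a := p) (b := u) fun x hx hxc => ?_
      rcases hex.cases he hx (hxc.trans hce) with h1 | h1 | h1 | h1 | h1 | h1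
      · exact Or.inl h1
      · exact absurd (h1 ▸ hxc) hqc
      · exact absurd (h1 ▸ hxc) hsc
      · exact absurd (h1 ▸ hxc) hwc
      · exact Or.inr h1
      · exact absurd (h1 ▸ hxc) hrc
    omega
  -- `w ∣ |H : C|`
  have hwC : w ∣ C.index := by
    by_contra hwC
    have hwi : ¬ w ∣ (Ker H (LC M)).index := by
      intro h1
      rcases prime_dvd_index hC hex.pw h1 with h2 | h2
      · exact hwc h2
      · exact hwC h2
    obtain ⟨W⟩ : Nonempty (Sylow w H) := inferInstance
    obtain ⟨h5, h6, h7⟩ := normal_sylow hH (Ker H (LC M)) hwi (by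
      intro d hd hwd
      have hle : Ker H (LC M) ≤ MulAction.stabilizer H v := fun x hx => hx v
      obtain ⟨f, hf, hdf⟩ := deg_le hle hd
      obtain ⟨e, he, he1, he2⟩ := h.cfg v hv f hf
      exact hex.asw e he ((hsc.trans (hC.stab v hv)).trans ((Dvd.intro _ rfl).trans he1))
        ((hwd.trans hdf).trans ((Dvd.intro_left _ rfl).trans he1))) W
    exact h.nt w hex.pw hex.rw W h6 h7 h5
  -- four primes
  have h4 := num_dvd hN hl hn hC hne2.2.2.2 huq Q (hnq Q) hur R (hnr R) {q, r, w} (by simp)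
    (by simp) (by
      intro x hx
      simp only [Finset.mem_insert, Finset.mem_singleton] at hx
      rcases hx with rfl | rfl | rfl
      · exact ⟨hex.pq, hqC.trans hC.dvd⟩
      · exact ⟨hex.pr, hrC.trans hC.dvd⟩
      · exact ⟨hex.pw, hwC.trans hC.dvd⟩)
  have h5 : ({q, r, w} : Finset ℕ).card = 3 := by
    rw [Finset.card_eq_three]
    exact ⟨q, r, w, hne2.2.2.2, hne2.2.1, hne4.2.symm, rfl⟩
  have h6 : ((Ker H (LC M)).relIndex C).primeFactors.card ≤ 3 := by
    refine card_le_three (a := p) (b := s) (d := u) fun x hx hxc => ?_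
    rcases hex.cases he hx (hxc.trans hce) with h1 | h1 | h1 | h1 | h1 | h1
    · exact Or.inl h1
    · exact absurd (h1 ▸ hxc) hqc
    · exact Or.inr (Or.inl h1)
    · exact absurd (h1 ▸ hxc) hwc
    · exact Or.inr (Or.inr h1)
    · exact absurd (h1 ▸ hxc) hrc
  omega

/-! ### The second configuration -/

section T2

variable [Finite G] {M P H : Subgroup G} [hM : M.Normal] [hP : P.Normal]

/-- `Q` and `R` nontrivial on `V`. -/
theorem t2a (hSL : FactSL.{u, u}) (hN : FactNum) (hG : Group.IsSolvable G)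
    (hex : Hex G p q s w u r) (h : T2 G M P H p)
    [hq : Fact q.Prime] [hr : Fact r.Prime]
    (Q : Sylow q H) (hQ : ¬ Triv (LC M) (Q : Subgroup H))
    (R : Sylow r H) (hR : ¬ Triv (LC M) (R : Subgroup H)) : False := by
  obtain ⟨n, hn, hcard⟩ := h.card
  haveI := finite_LC hex.pp hcard
  haveI := nontrivial_LC hex.pp hn hcard
  haveI hH : Group.IsSolvable H := inferInstance
  obtain ⟨hne1, hne2, hne3, hne4, hne5⟩ := hex.ne
  have hD : ∀ z : ℕ, NA p z G → ∀ e ∈ Cfsg.charDegrees G, p ∣ e → z ∣ e → False :=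
    fun z h1 e he h2 h3 => h1 e he h2 h3
  have huq : UF q H (⊥ : AddSubgroup (LC M)) := uf_of_cfg hH h.cfgV (hD q hex.apq)
  have hur : UF r H (⊥ : AddSubgroup (LC M)) := uf_of_cfg hH h.cfgV (hD r (NA.symm hex.arp))
  obtain ⟨C, hC⟩ := hSL H (LC M) p n q hH hex.pp hn hcard h.irr hex.pq hne1.1.symm huq ⟨Q, hQ⟩
  obtain ⟨hqC, hqc, -⟩ := uf_card hex.pp hn hC huq Q hQ
  obtain ⟨hrC, hrc, -⟩ := uf_card hex.pp hn hC hur R hR
  obtain ⟨v, hv⟩ := exists_ne (0 : LC M)
  have h3 := three_le' hN hex.pp hn hC hne2.2.2.2 huq Q hQ hur R hR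
  obtain ⟨e, he, he1, he2⟩ := h.cfgV v hv 1 H681.DegBasic.one_mem
  rw [mul_one] at he1
  have hce : (Ker H (LC M)).relIndex C ∣ e := (hC.stab v hv).trans he1
  have hpc : ¬ p ∣ (Ker H (LC M)).relIndex C := fun h1 =>
    h.ndvd ((h1.trans (hC.stab v hv)).trans (Subgroup.index_dvd_card _))
  by_cases hwc : w ∣ (Ker H (LC M)).relIndex C
  · have : ((Ker H (LC M)).relIndex C).primeFactors.card ≤ 2 := by
      refine card_le_two (a := w) (b := w) fun x hx hxc => ?_
      rcases hex.cases he hx (hxc.trans hce) with h1 | h1 | h1 | h1 | h1 | h1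
      · exact absurd (h1 ▸ hxc) hpc
      · exact absurd (h1 ▸ hxc) hqc
      · exact (hex.asw e he (h1 ▸ hxc.trans hce) (hwc.trans hce)).elim
      · exact Or.inr h1
      · exact (hex.awu e he (hwc.trans hce) (h1 ▸ hxc.trans hce)).elim
      · exact absurd (h1 ▸ hxc) hrc
    omega
  · have : ((Ker H (LC M)).relIndex C).primeFactors.card ≤ 2 := by
      refine card_le_two (a := s) (b := u) fun x hx hxc => ?_
      rcases hex.cases he hx (hxc.trans hce) with h1 | h1 | h1 | h1 | h1 | h1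
      · exact absurd (h1 ▸ hxc) hpc
      · exact absurd (h1 ▸ hxc) hqc
      · exact Or.inl h1
      · exact absurd (h1 ▸ hxc) hwc
      · exact Or.inr h1
      · exact absurd (h1 ▸ hxc) hrc
    omega

/-- `|H : K(V)|` is prime to `z` if the Sylow `z`-subgroups are trivial on `V`. -/
theorem not_dvd_of_triv {H : Type u} {V : Type v} [Group H] [AddCommGroup V] [DistribMulAction H V]
    [Finite H] {z : ℕ} [hz : Fact z.Prime] {Z : Sylow z H} (h : Triv V (Z : Subgroup H)) :
    ¬ z ∣ (Ker H V).index := not_dvd_of_sylow_le (Z := Z) h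

/-- `Q` trivial, `R` nontrivial on `V`. -/
theorem t2b (hSL : FactSL.{u, u}) (hN1 : ∀ p n m k s r : ℕ, p.Prime → s.Prime → r.Prime → s ≠ p →
      r ≠ s → 0 < n → n = m * s ^ k → 0 < k → r ∣ n → (p ^ n - 1) / (p ^ m - 1) ≡ 1 [MOD s] →
      2 ≤ ((p ^ n - 1) / (p ^ m - 1)).primeFactors.card) (hG : Group.IsSolvable G)
    (hex : Hex G p q s w u r) (h : T2 G M P H p)
    [hq : Fact q.Prime] [hr : Fact r.Prime]
    (Q : Sylow q H) (hQ : Triv (LC M) (Q : Subgroup H))
    (R : Sylow r H) (hR : ¬ Triv (LC M) (R : Subgroup H)) : False := by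
  obtain ⟨n0, hn0, hcard0⟩ := h.card
  obtain ⟨N, hcardW⟩ := h.cardW
  haveI := finite_LC hex.pp hcard0
  haveI := nontrivial_LC hex.pp hn0 hcard0
  haveI := finite_LC hex.pp hcardW
  haveI hH : Group.IsSolvable H := inferInstance
  haveI : Fact s.Prime := ⟨hex.ps⟩
  haveI : Fact w.Prime := ⟨hex.pw⟩
  haveI : Fact u.Prime := ⟨hex.pu⟩
  obtain ⟨hne1, hne2, hne3, hne4, hne5⟩ := hex.ne
  have hbot : (⊥ : AddSubgroup (LC M)) ≠ ⊤ := bot_ne_top
  have hD : ∀ z : ℕ, NA p z G → ∀ e ∈ Cfsg.charDegrees G, p ∣ e → z ∣ e → False :=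
    fun z h1 e he h2 h3 => h1 e he h2 h3
  have huq : UF q H (⊥ : AddSubgroup (LC M)) := uf_of_cfg hH h.cfgV (hD q hex.apq)
  have hur : UF r H (⊥ : AddSubgroup (LC M)) := uf_of_cfg hH h.cfgV (hD r (NA.symm hex.arp))
  have hQn : (Q : Subgroup H).Normal := huq.normal_of_triv hbot hQ
  have hQW : ¬ Triv (LC P) (Q : Subgroup H) := fun h1 =>
    h.nt q hex.pq hne1.1.symm hex.rq Q hQn (comm_of_cfg hH h.cfgV (hD q hex.apq) inferInstance Q) h1
  obtain ⟨-, hS2, huS, C, n, hn, hC⟩ := factB hSL hG h hex.pp hne1.1.symm hne1.2.1.symm hex.rs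
    hex.aqs Q hQn hQW
  have hcom : com (LC P) (Q : Subgroup H) ≠ ⊥ := fun e => hQW (com_eq_bot_iff.1 e)
  haveI hWn : Nontrivial (PSub (inv_com (V := LC P) (Q : Subgroup H) hQn)) := sub_nontrivial _ hcom
  have hK := ker_le h hne1.1.symm hex.apq Q hQn hQ hQW
  obtain ⟨S⟩ : Nonempty (Sylow s H) := inferInstance
  obtain ⟨hsC, hsc, hsd, k, m, hk, hnm, hsd', hmod⟩ := uf_card hex.pp hn hC huS S (hS2 S)
  have hrC : r ∣ C.index := by
    by_contra hrC
    exact hR (hC.triv hrC hK hur R)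
  have hCd : C.index ∈ Cfsg.charDegrees G := h.cd hC.deg
  -- degrees over a nonzero vector of `W_q`
  obtain ⟨v, hv⟩ := exists_ne (0 : PSub (inv_com (V := LC P) (Q : Subgroup H) hQn))
  have hcfg := cfg_sub (inv_com (V := LC P) (Q : Subgroup H) hQn) h.cfgW
  have hcop := coprime_LC h hex.pp hne1.1.symm Q
  have hqv : ∀ v : PSub (inv_com (V := LC P) (Q : Subgroup H) hQn), v ≠ 0 →
      q ∣ (MulAction.stabilizer H v).index := by
    intro v hv
    by_contra hcon
    have h1 := le_of_not_dvd Q hQn _ hcon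
    have h2 : v.val ∈ com (LC P) (Q : Subgroup H) ⊓ fixed (LC P) (Q : Subgroup H) :=
      ⟨v.mem, fun x hx => congrArg Sub.val (h1 hx)⟩
    rw [fixed_inf_com (V := LC P) (Q : Subgroup H) hcop, AddSubgroup.mem_bot] at h2
    exact hv (Sub.ext h2)
  set K := Ker H (PSub (inv_com (V := LC P) (Q : Subgroup H) hQn)) with hKdef
  -- `u` does not divide `c`
  have huc : ¬ u ∣ K.relIndex C := by
    intro huc
    have hur' : UF r H (⊥ : AddSubgroup (PSub (inv_com (V := LC P) (Q : Subgroup H) hQn))) := by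
      refine uf_of_stab fun v hv => ?_
      have h1 := stab_of_cfg hH hcfg (z := r) u (fun e he _ h2 h3 => hex.aur e he h2 h3) (v := v) hv
        (huc.trans (hC.stab v hv))
      exact ⟨h1.1, fun Q => (h1.2 Q).1⟩
    exact hR (triv_of_uf h hex.pp hne1.1.symm hex.apq Q hQn hQ hQW hur hur' R)
  have huC : ¬ u ∣ C.index := fun h1 => hex.aur _ hCd h1 hrC
  have hui : ¬ u ∣ K.index := by
    intro h1
    rcases prime_dvd_index hC hex.pu h1 with h2 | h2
    · exact huc h2
    · exact huC h2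
  obtain ⟨U⟩ : Nonempty (Sylow u H) := inferInstance
  obtain ⟨h5, h6, h7⟩ := normal_sylow hH K hui (by
    intro d hd hud
    have hle : K ≤ MulAction.stabilizer H v := fun x hx => hx v
    obtain ⟨f, hf, hdf⟩ := deg_le hle hd
    obtain ⟨e, he, he1, he2⟩ := hcfg v hv f hf
    have hue : u ∣ e := (hud.trans hdf).trans ((Dvd.intro_left _ rfl).trans he1)
    have hce : K.relIndex C ∣ e := (hC.stab v hv).trans ((Dvd.intro _ rfl).trans he1)
    have hqe : q ∣ e := (hqv v hv).trans ((Dvd.intro _ rfl).trans he1)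
    have h1 := hN1 p n m k s r hex.pp hex.ps hex.pr hne1.2.1.symm hne3.2.2.symm hn hnm hk
      (hrC.trans hC.dvd) hmod
    rw [hsd'] at h1
    have h2 : (Nat.card (Sylow s H)).primeFactors.card ≤ 1 := by
      refine (Finset.card_le_card (t := {q}) ?_).trans (by simp)
      intro x hx
      have hxp := Nat.prime_of_mem_primeFactors hx
      have hxc := (Nat.dvd_of_mem_primeFactors hx).trans hsd
      rw [Finset.mem_singleton]
      rcases hex.cases he hxp (hxc.trans hce) with h1 | h1 | h1 | h1 | h1 | h1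
      · exact (hex.apq e he (h1 ▸ hxc.trans hce) hqe).elim
      · exact h1
      · exact (hex.aqs e he hqe (h1 ▸ hxc.trans hce)).elim
      · exact (hex.awu e he (h1 ▸ hxc.trans hce) hue).elim
      · exact absurd (h1 ▸ hxc) huc
      · exact (hex.aur e he hue (h1 ▸ hxc.trans hce)).elim
    omega) U
  -- `U` is nontrivial on `W`
  have hUW : ¬ Triv (LC P) (U : Subgroup H) := fun h1 =>
    h.nt u hex.pu hne1.2.2.2.1.symm hex.ru U h6 h7 h1
  obtain ⟨hR1, -⟩ := factB hSL hG h hex.pp (y := u) (z := r) hne1.2.2.2.1.symm hne1.2.2.2.2.symm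
    hex.rr hex.aur U h6 hUW
  apply hR
  intro x hx
  refine (hK ?_ : x ∈ Ker H (LC M))
  intro y
  apply Sub.ext
  refine hR1 R x hx y.val ?_
  intro t ht
  exact congrArg Sub.val (h5 ht y)

/-- `Q` and `R` trivial on `V`. -/
theorem t2c (hSL : FactSL.{u, u}) (hN : FactNum) (hG : Group.IsSolvable G)
    (hex : Hex G p q s w u r) (h : T2 G M P H p)
    [hq : Fact q.Prime] [hr : Fact r.Prime]
    (Q : Sylow q H) (hQ : Triv (LC M) (Q : Subgroup H))
    (R : Sylow r H) (hR : Triv (LC M) (R : Subgroup H)) : False := by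
  obtain ⟨n0, hn0, hcard0⟩ := h.card
  obtain ⟨N, hcardW⟩ := h.cardW
  haveI := finite_LC hex.pp hcard0
  haveI := nontrivial_LC hex.pp hn0 hcard0
  haveI := finite_LC hex.pp hcardW
  haveI hH : Group.IsSolvable H := inferInstance
  haveI : Fact s.Prime := ⟨hex.ps⟩
  haveI : Fact w.Prime := ⟨hex.pw⟩
  haveI : Fact u.Prime := ⟨hex.pu⟩
  obtain ⟨hne1, hne2, hne3, hne4, hne5⟩ := hex.ne
  have hbot : (⊥ : AddSubgroup (LC M)) ≠ ⊤ := bot_ne_top
  have hD : ∀ z : ℕ, NA p z G → ∀ e ∈ Cfsg.charDegrees G, p ∣ e → z ∣ e → False :=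
    fun z h1 e he h2 h3 => h1 e he h2 h3
  have huq : UF q H (⊥ : AddSubgroup (LC M)) := uf_of_cfg hH h.cfgV (hD q hex.apq)
  have hur : UF r H (⊥ : AddSubgroup (LC M)) := uf_of_cfg hH h.cfgV (hD r (NA.symm hex.arp))
  have hQn : (Q : Subgroup H).Normal := huq.normal_of_triv hbot hQ
  have hRn : (R : Subgroup H).Normal := hur.normal_of_triv hbot hR
  have hQW : ¬ Triv (LC P) (Q : Subgroup H) := fun h1 =>
    h.nt q hex.pq hne1.1.symm hex.rq Q hQn (comm_of_cfg hH h.cfgV (hD q hex.apq) inferInstance Q) h1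
  have hRW : ¬ Triv (LC P) (R : Subgroup H) := fun h1 =>
    h.nt r hex.pr hne1.2.2.2.2.symm hex.rr R hRn
      (comm_of_cfg hH h.cfgV (hD r (NA.symm hex.arp)) inferInstance R) h1
  obtain ⟨hS1, hS2, huS, C, n, hn, hC⟩ := factB hSL hG h hex.pp hne1.1.symm hne1.2.1.symm hex.rs
    hex.aqs Q hQn hQW
  obtain ⟨hU1, hU2, huU, C', n', hn', hC'⟩ := factB hSL hG h hex.pp hne1.2.2.2.2.symm
    hne1.2.2.2.1.symm hex.ru (NA.symm hex.aur) R hRn hRW
  have hKq := ker_le h hne1.1.symm hex.apq Q hQn hQ hQW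
  have hKr := ker_le h hne1.2.2.2.2.symm (NA.symm hex.arp) R hRn hR hRW
  have hcomq : com (LC P) (Q : Subgroup H) ≠ ⊥ := fun e => hQW (com_eq_bot_iff.1 e)
  have hcomr : com (LC P) (R : Subgroup H) ≠ ⊥ := fun e => hRW (com_eq_bot_iff.1 e)
  haveI hWn : Nontrivial (PSub (inv_com (V := LC P) (Q : Subgroup H) hQn)) := sub_nontrivial _ hcomq
  obtain ⟨S⟩ : Nonempty (Sylow s H) := inferInstance
  obtain ⟨U⟩ : Nonempty (Sylow u H) := inferInstance
  obtain ⟨hsC, hsc, hsd, -⟩ := uf_card hex.pp hn hC huS S (hS2 S)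
  have hirrq := huS.irr hex.pp hC.card (hS2 S)
  have hirrr := huU.irr hex.pp hC'.card (hU2 U)
  have hCd : C.index ∈ Cfsg.charDegrees G := h.cd hC.deg
  have hwC : ¬ w ∣ C.index := fun h1 => hex.asw _ hCd hsC h1
  -- degrees over a nonzero vector of `W_q`
  obtain ⟨v, hv⟩ := exists_ne (0 : PSub (inv_com (V := LC P) (Q : Subgroup H) hQn))
  have hcfg := cfg_sub (inv_com (V := LC P) (Q : Subgroup H) hQn) h.cfgW
  have hcop := coprime_LC h hex.pp hne1.1.symm Q
  have hcopr := coprime_LC h hex.pp hne1.2.2.2.2.symm R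
  have hqv : q ∣ (MulAction.stabilizer H v).index := by
    by_contra hcon
    have h1 := le_of_not_dvd Q hQn _ hcon
    have h2 : v.val ∈ com (LC P) (Q : Subgroup H) ⊓ fixed (LC P) (Q : Subgroup H) :=
      ⟨v.mem, fun x hx => congrArg Sub.val (h1 hx)⟩
    rw [fixed_inf_com (V := LC P) (Q : Subgroup H) hcop, AddSubgroup.mem_bot] at h2
    exact hv (Sub.ext h2)
  obtain ⟨e, he, he1, -⟩ := hcfg v hv 1 H681.DegBasic.one_mem
  rw [mul_one] at he1
  set K := Ker H (PSub (inv_com (V := LC P) (Q : Subgroup H) hQn)) with hKdef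
  have hce : K.relIndex C ∣ e := (hC.stab v hv).trans he1
  have hpK : ∀ x : ℕ, x ∣ K.relIndex C → x ∣ Nat.card H := fun x hx =>
    (hx.trans (hC.stab v hv)).trans (Subgroup.index_dvd_card _)
  have hqV : ¬ q ∣ (Ker H (LC M)).index := not_dvd_of_triv hQ
  have hrV : ¬ r ∣ (Ker H (LC M)).index := not_dvd_of_triv hR
  have hnot : ¬ C ≤ Ker H (LC M) := fun hCV =>
    no_ker h hex.pp hne1.1.symm hne1.2.1.symm hex.apq Q hQn hQ hQW hn hC huS S (hS2 S) hCV
  -- the intersection of `W_q` and `W_r`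
  have hinter : com (LC P) (Q : Subgroup H) = com (LC P) (R : Subgroup H) ∨
      com (LC P) (Q : Subgroup H) ⊓ com (LC P) (R : Subgroup H) = ⊥ := by
    have hI : _root_.Cfsg.Agent.H670.Palfy.Inv H (com (LC P) (Q : Subgroup H) ⊓ com (LC P) (R : Subgroup H)) := fun g y hy =>
      ⟨inv_com _ hQn g y hy.1, inv_com _ hRn g y hy.2⟩
    rcases irr_sub hirrq inf_le_left hI with h1 | h1
    · exact Or.inr h1
    · rcases irr_sub hirrr inf_le_right hI with h2 | h2
      · exact Or.inr h2
      · exact Or.inl (h1.symm.trans h2)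
  -- if `w` divides `|H : K(V)|`, then `S` and `U` have the unique fixing property on `V`
  have hfreew : ∀ z : ℕ, z.Prime → NA w z G → w ∣ (Ker H (LC M)).index →
      UF z H (⊥ : AddSubgroup (LC M)) := by
    intro z hz hwz hwV
    haveI : Fact z.Prime := ⟨hz⟩
    refine uf_of_stab fun v hv => ?_
    have h1 := stab_of_cfg hH h.cfgV (z := z) w (fun e he _ h2 h3 => hwz e he h2 h3) (v := v) hv
      (dvd_stab hC hKq h.irr hwC hwV (fun h0 => hv (by simpa using h0)))
    exact ⟨h1.1, fun Q => (h1.2 Q).1⟩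
  rcases hinter with heq | hinf
  · -- `W_q = W_r`
    have hU2' : ∀ hI : _root_.Cfsg.Agent.H670.Palfy.Inv H (com (LC P) (R : Subgroup H)), ¬ Triv (PSub hI) (U : Subgroup H) :=
      fun hI => hU2 U
    have huU' : ∀ hI : _root_.Cfsg.Agent.H670.Palfy.Inv H (com (LC P) (R : Subgroup H)), UF u H (⊥ : AddSubgroup (PSub hI)) :=
      fun hI => huU
    rw [← heq] at hU2' huU'
    have hU3 := hU2' (inv_com _ hQn)
    have huU3 := huU' (inv_com _ hQn)
    obtain ⟨huC, huc, hud, -⟩ := uf_card hex.pp hn hC huU3 U hU3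
    have hrv : r ∣ (MulAction.stabilizer H v).index := by
      by_contra hcon
      have h1 := le_of_not_dvd R hRn _ hcon
      have h2 : v.val ∈ com (LC P) (R : Subgroup H) ⊓ fixed (LC P) (R : Subgroup H) :=
        ⟨heq ▸ v.mem, fun x hx => congrArg Sub.val (h1 hx)⟩
      rw [fixed_inf_com (V := LC P) (R : Subgroup H) hcopr, AddSubgroup.mem_bot] at h2
      exact hv (Sub.ext h2)
    have hcases : ∀ x : ℕ, x.Prime → x ∣ K.relIndex C → x = q ∨ x = r ∨ x = w := by
      intro x hx hxc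
      rcases hex.cases he hx (hxc.trans hce) with h1 | h1 | h1 | h1 | h1 | h1
      · exact absurd (h1 ▸ hpK x hxc) h.ndvd
      · exact Or.inl h1
      · exact absurd (h1 ▸ hxc) hsc
      · exact Or.inr (Or.inr h1)
      · exact absurd (h1 ▸ hxc) huc
      · exact Or.inr (Or.inl h1)
    by_cases hwV : w ∣ (Ker H (LC M)).index
    · have huSV := hfreew s hex.ps (NA.symm hex.asw) hwV
      have huUV := hfreew u hex.pu hex.awu hwV
      have hSV := triv_of_uf h hex.pp hne1.1.symm hex.apq Q hQn hQ hQW huSV huS S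
      have hUV := triv_of_uf h hex.pp hne1.1.symm hex.apq Q hQn hQ hQW huUV huU3 U
      have h1 := not_dvd_card hex.pp hn hC hKq hne3.1.symm hwC hwV huS S (hS2 S) hSV
      have h2 := not_dvd_card hex.pp hn hC hKq hne4.1 hwC hwV huU3 U hU3 hUV
      have h3 := three_le hN hex.pp hn hC hne3.2.1 huS S (hS2 S) huU3 U hU3
      have h4 : (Nat.card (Sylow s H) * Nat.card (Sylow u H)).primeFactors.card ≤ 2 := by
        refine card_le_two (a := q) (b := r) fun x hx hxd => ?_
        rcases hx.dvd_mul.1 hxd with h5 | h5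
        · rcases hcases x hx (h5.trans hsd) with h6 | h6 | h6
          · exact Or.inl h6
          · exact Or.inr h6
          · exact absurd (h6 ▸ h5) h1
        · rcases hcases x hx (h5.trans hud) with h6 | h6 | h6
          · exact Or.inl h6
          · exact Or.inr h6
          · exact absurd (h6 ▸ h5) h2
      omega
    · apply hnot
      refine le_ker hC hKq fun x hx hxc hxV => ?_
      rcases hcases x hx hxc with rfl | rfl | rfl
      · exact hqV hxV
      · exact hrV hxV
      · exact hwV hxV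
  · -- `W_q ⊓ W_r = ⊥`
    have hQr : ∀ x ∈ (Q : Subgroup H), ∀ v ∈ com (LC P) (R : Subgroup H), x • v = v := by
      intro x hx v hv
      have h1 : x • v - v ∈ com (LC P) (Q : Subgroup H) ⊓ com (LC P) (R : Subgroup H) :=
        AddSubgroup.mem_inf.2 ⟨AddSubgroup.subset_closure ⟨x, hx, v, rfl⟩,
          sub_mem (inv_com _ hRn x v hv) hv⟩
      rw [hinf, AddSubgroup.mem_bot] at h1
      exact sub_eq_zero.1 h1
    have hRq : ∀ x ∈ (R : Subgroup H), ∀ v ∈ com (LC P) (Q : Subgroup H), x • v = v := by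
      intro x hx v hv
      have h1 : x • v - v ∈ com (LC P) (Q : Subgroup H) ⊓ com (LC P) (R : Subgroup H) :=
        AddSubgroup.mem_inf.2 ⟨sub_mem (inv_com _ hQn x v hv) hv,
          AddSubgroup.subset_closure ⟨x, hx, v, rfl⟩⟩
      rw [hinf, AddSubgroup.mem_bot] at h1
      exact sub_eq_zero.1 h1
    -- `S` trivial on `W_r`, so on `V`
    have hSV : Triv (LC M) (S : Subgroup H) := by
      intro x hx
      refine (hKr ?_ : x ∈ Ker H (LC M))
      intro y
      apply Sub.ext
      exact hS1 S x hx y.val (fun t ht => hQr t ht y.val y.mem)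
    -- `U`, `R` trivial on `W_q`
    have hUK : (U : Subgroup H) ≤ K := by
      intro x hx y
      apply Sub.ext
      exact hU1 U x hx y.val (fun t ht => hRq t ht y.val y.mem)
    have hRK : (R : Subgroup H) ≤ K := by
      intro x hx y
      apply Sub.ext
      exact hRq x hx y.val y.mem
    have huK : ¬ u ∣ K.index := not_dvd_of_sylow_le hUK
    have hrK : ¬ r ∣ K.index := not_dvd_of_sylow_le hRK
    have hci : K.relIndex C ∣ K.index := by
      rw [index_eq hC]
      exact Dvd.intro _ rfl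
    have hcases : ∀ x : ℕ, x.Prime → x ∣ K.relIndex C → x = q ∨ x = w := by
      intro x hx hxc
      rcases hex.cases he hx (hxc.trans hce) with h1 | h1 | h1 | h1 | h1 | h1
      · exact absurd (h1 ▸ hpK x hxc) h.ndvd
      · exact Or.inl h1
      · exact absurd (h1 ▸ hxc) hsc
      · exact Or.inr h1
      · exact absurd (h1 ▸ hxc.trans hci) huK
      · exact absurd (h1 ▸ hxc.trans hci) hrK
    by_cases hwV : w ∣ (Ker H (LC M)).index
    · have huSV := hfreew s hex.ps (NA.symm hex.asw) hwV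
      have hSn := huSV.normal_of_triv hbot hSV
      apply huS.card_ne_one (hS2 S)
      have : Subsingleton (Sylow s H) := (Sylow.unique_of_normal S hSn).instSubsingleton
      exact Nat.card_eq_one_iff_unique.2 ⟨this, ⟨S⟩⟩
    · apply hnot
      refine le_ker hC hKq fun x hx hxc hxV => ?_
      rcases hcases x hx hxc with rfl | rfl
      · exact hqV hxV
      · exact hwV hxV

end T2

/-! ### The main theorem -/

/-- Six primes, cyclically not adjacent, are not the degree primes of a solvable group. -/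
def NoPrism : Prop := ∀ (G : Type u) [Group G] [Finite G], Group.IsSolvable G →
  ∀ a : Fin 6 → ℕ, Function.Injective a → (∀ p : ℕ, (∃ i, a i = p) ↔ p.Prime ∧ Rho p G) →
    (∀ i, NA (a i) (a (i + 1)) G) → False

/-- Two prime divisors. -/
def FactNum1 : Prop := ∀ p n m k s r : ℕ, p.Prime → s.Prime → r.Prime → s ≠ p → r ≠ s → 0 < n →
  n = m * s ^ k → 0 < k → r ∣ n → (p ^ n - 1) / (p ^ m - 1) ≡ 1 [MOD s] →
    2 ≤ ((p ^ n - 1) / (p ^ m - 1)).primeFactors.card

theorem exists_minN (G : Type u) [Group G] [Finite G] [Nontrivial G] : ∃ M : Subgroup G, MinN M := by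
  obtain ⟨M, hM⟩ := (Set.toFinite {N : Subgroup G | N ≠ ⊥ ∧ N.Normal}).exists_minimal
    ⟨⊤, top_ne_bot, inferInstance⟩
  refine ⟨M, hM.prop.1, hM.prop.2, fun N hN hNM => ?_⟩
  by_contra hcon
  push Not at hcon
  exact hcon.2 (le_antisymm hNM (hM.le_of_le ⟨hcon.1, hN⟩ hNM))

theorem step (hSL : FactSL.{u, u}) (hN : FactNum) (h1 : FactT1.{u}) (hpre : FactT2pre.{u})
    (ha : FactT2a.{u}) (hb : FactT2b.{u}) (hN1 : FactNum1) (G : Type u) [Group G] [Finite G]
    (hG : Group.IsSolvable G) (M : Subgroup G) [hMn : M.Normal] (hM : MinN M) {p q s w u r : ℕ}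
    (hex : Hex G p q s w u r) (hp : ¬ Rho p (G ⧸ M)) : False := by
  by_cases hMp : IsPGroup p M
  · obtain ⟨P, H, hPH⟩ := hpre G hG M p hex.pp hM hex.rp hp hMp
    haveI : P.Normal := hPH.nrm
    have h := T2.of hG hPH ha hb
    haveI : Fact q.Prime := ⟨hex.pq⟩
    haveI : Fact r.Prime := ⟨hex.pr⟩
    obtain ⟨Q⟩ : Nonempty (Sylow q H) := inferInstance
    obtain ⟨R⟩ : Nonempty (Sylow r H) := inferInstance
    by_cases hQ : Triv (LC M) (Q : Subgroup H)
    · by_cases hR : Triv (LC M) (R : Subgroup H)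
      · exact t2c hSL hN hG hex h Q hQ R hR
      · exact t2b hSL hN1 hG hex h Q hQ R hR
    · by_cases hR : Triv (LC M) (R : Subgroup H)
      · exact t2b hSL hN1 hG hex.rev h R hR Q hQ
      · exact t2a hSL hN hG hex h Q hQ R hR
  · obtain ⟨H, h⟩ := h1 G hG M p hex.pp hM hex.rp hp hMp
    exact t1 hSL hN hG hex h

theorem noPrism (hSL : FactSL.{u, u}) (hN : FactNum) (h1 : FactT1.{u}) (hpre : FactT2pre.{u})
    (ha : FactT2a.{u}) (hb : FactT2b.{u}) (hN1 : FactNum1) : NoPrism.{u} := by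
  suffices H : ∀ (k : ℕ) (G : Type u) [Group G] [Finite G], Nat.card G = k → Group.IsSolvable G →
      ∀ a : Fin 6 → ℕ, Function.Injective a → (∀ p : ℕ, (∃ i, a i = p) ↔ p.Prime ∧ Rho p G) →
        (∀ i, NA (a i) (a (i + 1)) G) → False from
    fun G _ _ hG a => H _ G rfl hG a
  intro k
  induction k using Nat.strong_induction_on with
  | _ k ih =>
    intro G _ _ hk hG a hinj hall hna
    haveI : Nontrivial G := by
      by_contra hcon
      rw [not_nontrivial_iff_subsingleton] at hcon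
      obtain ⟨hp, e, he, hpe⟩ := (hall (a 0)).1 ⟨0, rfl⟩
      have h2 := H681.DegBasic.dvd_card he
      rw [Nat.card_of_subsingleton (1 : G), Nat.dvd_one] at h2
      rw [h2, Nat.dvd_one] at hpe
      exact hp.one_lt.ne' hpe
    obtain ⟨M, hM⟩ := exists_minN G
    haveI := hM.nrm
    have hle : ∀ {x : ℕ}, x ∈ Cfsg.charDegrees (G ⧸ M) → x ∈ Cfsg.charDegrees G := fun hx =>
      H681.DegBasic.charDegrees_comp (QuotientGroup.mk' M) (QuotientGroup.mk'_surjective M) hx
    by_cases hR : ∀ i, Rho (a i) (G ⧸ M)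
    · haveI : Group.IsSolvable (G ⧸ M) := inferInstance
      refine ih (Nat.card (G ⧸ M)) ?_ (G ⧸ M) rfl inferInstance a hinj ?_ ?_
      · rw [← hk, ← Subgroup.card_mul_index M]
        have h2 : 1 < Nat.card M := by
          rw [Finite.one_lt_card_iff_nontrivial, Subgroup.nontrivial_iff_ne_bot]
          exact hM.ne
        have h3 : 0 < M.index := Nat.pos_of_ne_zero Subgroup.index_ne_zero_of_finite
        change M.index < _
        nlinarith only [h2, h3]
      · intro x
        constructor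
        · rintro ⟨i, rfl⟩
          exact ⟨((hall (a i)).1 ⟨i, rfl⟩).1, hR i⟩
        · rintro ⟨hx, e, he, hxe⟩
          exact (hall x).2 ⟨hx, e, hle he, hxe⟩
      · intro i e he h2 h3
        exact hna i e (hle he) h2 h3
    · push Not at hR
      obtain ⟨i, hi⟩ := hR
      have hpr : ∀ j, (a j).Prime ∧ Rho (a j) G := fun j => (hall (a j)).1 ⟨j, rfl⟩
      have hcyc : ∀ j : Fin 6, j + 5 + 1 = j := by decide
      have hex : Hex G (a i) (a (i + 1)) (a (i + 2)) (a (i + 3)) (a (i + 4)) (a (i + 5)) :=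
        { pp := (hpr _).1
          pq := (hpr _).1
          ps := (hpr _).1
          pw := (hpr _).1
          pu := (hpr _).1
          pr := (hpr _).1
          rp := (hpr _).2
          rq := (hpr _).2
          rs := (hpr _).2
          rw := (hpr _).2
          ru := (hpr _).2
          rr := (hpr _).2
          all := by
            intro x hx hxR
            obtain ⟨j, rfl⟩ := (hall x).2 ⟨hx, hxR⟩
            have : ∀ i j : Fin 6, j = i ∨ j = i + 1 ∨ j = i + 2 ∨ j = i + 3 ∨ j = i + 4 ∨ j = i + 5 := by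
              decide
            rcases this i j with rfl | rfl | rfl | rfl | rfl | rfl <;> simp
          apq := hna i
          aqs := by
            have := hna (i + 1)
            rwa [add_assoc, show (1 + 1 : Fin 6) = 2 from rfl] at this
          asw := by
            have := hna (i + 2)
            rwa [add_assoc, show (2 + 1 : Fin 6) = 3 from rfl] at this
          awu := by
            have := hna (i + 3)
            rwa [add_assoc, show (3 + 1 : Fin 6) = 4 from rfl] at this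
          aur := by
            have := hna (i + 4)
            rwa [add_assoc, show (4 + 1 : Fin 6) = 5 from rfl] at this
          arp := by
            have := hna (i + 5)
            rwa [hcyc] at this
          nd := by
            have h2 : ∀ i : Fin 6, [i, i + 1, i + 2, i + 3, i + 4, i + 5].Nodup := by decide
            exact (h2 i).map hinj }
      exact step hSL hN h1 hpre ha hb hN1 G hG M hM hex hi

end Cfsg.Agent.H734.Prism
end

-- part: H734/Prism/Num
section
/-!
# Two prime divisors of `(p ^ n - 1) / (p ^ m - 1)` (helper734)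
-/

set_option autoImplicit false

namespace Cfsg.Agent.H734.Prism

open Cfsg.Agent.H849.FactNum

theorem factNum1 (p n m k s r : ℕ) (hp : p.Prime) (hs : s.Prime) (hr : r.Prime) (hsp : s ≠ p)
    (hrs : r ≠ s) (hn : 0 < n) (hnm : n = m * s ^ k) (hk : 0 < k) (hrn : r ∣ n)
    (hmod : (p ^ n - 1) / (p ^ m - 1) ≡ 1 [MOD s]) :
    2 ≤ ((p ^ n - 1) / (p ^ m - 1)).primeFactors.card := by
  have hm0 : m ≠ 0 := by
    rintro rfl
    rw [zero_mul] at hnm
    omega
  have hno : ¬ p ^ m ≡ 1 [MOD s] := not_one hp.two_le hm0 hs hk hnm hmod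
  have hs2 : s ≠ 2 := by
    rintro rfl
    have hodd : Odd p := hp.odd_of_ne_two (fun h => hsp h.symm)
    apply hno
    have h1 : Odd (p ^ m) := hodd.pow
    rw [Nat.ModEq, Nat.odd_iff.1 h1]
  have hso : Odd s := hs.odd_of_ne_two hs2
  have h3 : s = 3 → p = 2 → Odd m := by
    intro h3 hp2
    by_contra hne
    rw [Nat.not_odd_iff_even] at hne
    obtain ⟨c, hc⟩ := hne
    apply hno
    rw [h3, hp2, hc, ← two_mul, pow_mul]
    have : (2 ^ 2 : ℕ) ≡ 1 [MOD 3] := by decide
    have := this.pow c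
    rwa [one_pow] at this
  have hs3 : 3 ≤ s := by
    have := hs.two_le
    omega
  have hsk : 3 ≤ s ^ k := le_trans hs3 (Nat.le_self_pow hk.ne' s)
  obtain ⟨m', hm'⟩ : r ∣ m := by
    rw [hnm] at hrn
    rcases hr.dvd_mul.1 hrn with h | h
    · exact h
    · exact absurd ((Nat.prime_dvd_prime_iff_eq hr hs).1 (hr.dvd_of_dvd_pow h)) hrs
  have hm'0 : m' ≠ 0 := by
    rintro rfl
    rw [mul_zero] at hm'
    exact hm0 hm'
  set d := m' * s ^ k with hd
  have hnd : n = r * d := by rw [hnm, hm', hd, mul_assoc]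
  have hd3 : 3 ≤ d := by
    have : 1 * s ^ k ≤ m' * s ^ k := Nat.mul_le_mul_right _ (Nat.pos_of_ne_zero hm'0)
    omega
  have hr2 := hr.two_le
  have hn6 : 6 ≤ n := by
    rw [hnd]
    calc 6 = 2 * 3 := rfl
      _ ≤ r * d := Nat.mul_le_mul hr2 hd3
  have hsk1 : s ∣ s ^ k := dvd_pow_self s hk.ne'
  -- `6` is excluded
  have hno6 : ∀ c : ℕ, c * s ^ k = 6 → p = 2 → Even m → False := by
    intro c hc hp2 hme
    have h4 : s ∣ 6 := hc ▸ Dvd.dvd.mul_left hsk1 c
    have h5 : s = 3 := by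
      have h6 : s ∣ 2 * 3 := h4
      rcases hs.dvd_mul.1 h6 with h7 | h7
      · exact absurd ((Nat.prime_dvd_prime_iff_eq hs Nat.prime_two).1 h7) hs2
      · exact (Nat.prime_dvd_prime_iff_eq hs Nat.prime_three).1 h7
    have h6 := h3 h5 hp2
    rw [← Nat.not_even_iff_odd] at h6
    exact h6 hme
  have heven : ∀ c : ℕ, c * s ^ k = 6 → Even c := by
    intro c hc
    have h4 : Even (c * s ^ k) := by rw [hc]; decide
    rcases Nat.even_mul.1 h4 with h5 | h5
    · exact h5
    · have h6 : Odd (s ^ k) := hso.pow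
      rw [← Nat.not_even_iff_odd] at h6
      exact absurd h5 h6
  obtain ⟨t1, ht1, hp1, -, -⟩ := Lib.Zsigmondy.exists_primitive (a := p) (n := n) hp.two_le (by omega)
    (by omega) (by
      rintro ⟨h4, h5⟩
      exact hno6 m (by rw [← hnm]; exact h5) h4 (heven m (by rw [← hnm]; exact h5)))
  obtain ⟨t2, ht2, hp2, -, -⟩ := Lib.Zsigmondy.exists_primitive (a := p) (n := d) hp.two_le (by omega)
    (by omega) (by
      rintro ⟨h4, h5⟩
      refine hno6 m' h5 h4 ?_
      rw [hm']
      exact (heven m' h5).mul_left r)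
  have hfac : fac p n m * (p ^ m - 1) = p ^ n - 1 := fac_mul ⟨_, hnm⟩
  have hd1 : t1 ∣ fac p n m := by
    have h4 : t1 ∣ fac p n m * (p ^ m - 1) := by rw [hfac]; exact (hp1 n).2 dvd_rfl
    refine (ht1.dvd_mul.1 h4).resolve_right fun h5 => ?_
    have h6 := Nat.le_of_dvd (Nat.pos_of_ne_zero hm0) ((hp1 m).1 h5)
    rw [hnm] at h6
    have h7 : m * 3 ≤ m * s ^ k := Nat.mul_le_mul_left _ hsk
    omega
  have hd2 : t2 ∣ fac p n m := by
    have h4 : t2 ∣ fac p n m * (p ^ m - 1) := by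
      rw [hfac]; exact (hp2 n).2 ⟨r, by rw [hnd, mul_comm]⟩
    refine (ht2.dvd_mul.1 h4).resolve_right fun h5 => ?_
    have h6 := (hp2 m).1 h5
    rw [hm', hd, mul_comm r] at h6
    have h7 : s ^ k ∣ r := Nat.dvd_of_mul_dvd_mul_left (Nat.pos_of_ne_zero hm'0) h6
    exact hrs ((Nat.prime_dvd_prime_iff_eq hs hr).1 (hsk1.trans h7)).symm
  have hne : t1 ≠ t2 := by
    rintro rfl
    have h4 := Nat.le_of_dvd (by omega) ((hp1 d).1 ((hp2 d).2 dvd_rfl))
    rw [hnd] at h4
    have h5 : 2 * d ≤ r * d := Nat.mul_le_mul_right _ hr2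
    omega
  have h4 : fac p n m ≠ 0 := by
    intro h0
    rw [h0, zero_mul] at hfac
    have := Nat.one_lt_pow hn.ne' hp.one_lt
    omega
  have h5 : ({t1, t2} : Finset ℕ) ⊆ (fac p n m).primeFactors := by
    intro x hx
    rw [Finset.mem_insert, Finset.mem_singleton] at hx
    rcases hx with rfl | rfl
    · exact Nat.mem_primeFactors.2 ⟨ht1, hd1, h4⟩
    · exact Nat.mem_primeFactors.2 ⟨ht2, hd2, h4⟩
  have h6 := Finset.card_le_card h5
  rw [Finset.card_pair hne] at h6
  exact h6

end Cfsg.Agent.H734.Prism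
end

-- part: H734/Prism/Full
section
/-!
# The prism does not occur (helper734)
-/

set_option autoImplicit false

namespace Cfsg.Agent.H734.Prism

open Cfsg.Agent.H670.Palfy

universe u

theorem noPrism_of (hSL : FactSL.{u, u}) (h1 : FactT1.{u}) (hpre : FactT2pre.{u})
    (ha : FactT2a.{u}) (hb : FactT2b.{u}) : NoPrism.{u} :=
  noPrism hSL H849.FactNum.factNum h1 hpre ha hb factNum1

end Cfsg.Agent.H734.Prism
end

-- part: H670/Reg/Solv
section
/-!
# 3-regular degree graphs (S4919): solvable groups (helper670)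
-/

set_option autoImplicit false

namespace Cfsg.Agent.H670.Reg

open Cfsg

universe u

/-- **The solvable case.** -/
theorem solvable_case {G : Type u} [Group G] [Finite G] (hG : Group.IsSolvable G) {V : Finset ℕ} (c : Reg3 G V) :
    V.card ≤ 5 := by
  have na : ∀ {a b : ℕ}, a ≠ b → a ∈ V → b ∈ V → ¬ (degreeGraph G).Adj a b → Cfsg.Agent.H670.Palfy.NA a b G := by
    intro a b hab ha hb h e he h1 h2
    exact h (adj_of he ((c.hV a).1 ha).1 ((c.hV b).1 hb).1 hab h1 h2)
  have hrho : ∀ p, p ∈ V ↔ p.Prime ∧ Cfsg.Agent.H670.Palfy.Rho p G := by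
    intro p
    rw [c.hV]
    exact Iff.rfl
  rcases c.cub.solv (fun a ha b hb d hd hab hbd had => H748.Palfy.palfy hG ((c.hV a).1 ha) ((c.hV b).1 hb)
    ((c.hV d).1 hd) hab hbd had) with h | ⟨a, hinj, hr, hn⟩ | ⟨A, B, hA, hB, hd, hu, hn⟩
  · exact h
  · exfalso
    refine H734.Prism.noPrism_of Cfsg.Agent.H670.Palfy.factSL H415.Palfy.factT1 H415.Palfy.factT2pre H55.T2a.factT2a
      H161.PalFb.factT2b G hG a hinj (fun p => by rw [hr, hrho]) fun i => ?_
    have hne : a i ≠ a (i + 1) := by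
      intro h
      have h1 := hinj h
      have h2 : ∀ i : Fin 6, i ≠ i + 1 := by decide
      exact h2 i h1
    exact na hne ((hr _).1 ⟨i, rfl⟩) ((hr _).1 ⟨i + 1, rfl⟩) (hn i)
  · exfalso
    refine H377.DegSolv.noTwo Cfsg.Agent.H670.Palfy.factSL H849.FactNum.factNum H415.Palfy.factT1 H415.Palfy.factT2pre
      H55.T2a.factT2a H161.PalFb.factT2b G hG A B (by rw [hA, hB]) (by omega) hd (fun p => by rw [hu, hrho]) ?_
    intro x hx y hy
    refine na ?_ ?_ ?_ (hn x hx y hy)
    · rintro rfl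
      exact Finset.disjoint_left.1 hd hx hy
    · rw [← hu]; exact Finset.mem_union_left _ hx
    · rw [← hu]; exact Finset.mem_union_right _ hy

end Cfsg.Agent.H670.Reg
end
end

-- part: H670/Reg/Red2
section
prune_inst 0x424600010080002000000800250003e06c2000000102800014880040004808f220000a120b480100810202204003900081000002000000000000004000119008090b010042100000484001f800084010000000000000000000000000000000000004010000
set_option linter.all false
open scoped Cfsg.Agent.FastGrp

-- part: H670/Reg/OutOdd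
section
/-!
# Outer primes over `PSL(2,F)`, `|F|` odd: the prime two (helper670; after helper714)
-/

set_option autoImplicit false

namespace Cfsg.Agent.H670.Reg

open Cfsg Cfsg.Agent.H714.Tri
open Cfsg.Agent.Characters.Core

universe u

variable {Γ : Type u} [Group Γ] [Finite Γ] (S : Subgroup Γ) [hS : S.Normal] {F : Type} [Field F] [Fintype F]
  (e : S ≃* Matrix.ProjectiveSpecialLinearGroup (Fin 2) F)

include e in
/-- **Outer primes**, `|F|` odd: a degree divisible by `2 t s`, `s` an odd prime divisor of `|S|`. -/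
theorem out_odd (hodd : Odd (Fintype.card F)) (hF : 4 ≤ Fintype.card F) (hC : Subgroup.centralizer (S : Set Γ) = ⊥) {t : ℕ}
    (ht : t.Prime) (hdvd : t ∣ S.index) (htS : ¬ t ∣ Nat.card S) : ∃ s : ℕ, s.Prime ∧ s ≠ 2 ∧ s ∣ Nat.card S ∧
      ∃ d ∈ charDegrees Γ, t * (2 * s) ∣ d := by
  classical
  obtain ⟨g, hgS, hgt⟩ := exists_outer S ht hdvd
  obtain ⟨σ, hσ, hσ2, hσ1⟩ := exists_fa (Al S e g)
  -- `σ ^ t = 1`
  have hσt : σ ^ t = 1 := by
    have h1 : ∀ n : ℕ, ∀ x, tsq ((Al S e g ^ n) x) = (σ ^ n) (tsq x) := by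
      intro n
      induction n with
      | zero => intro x; rfl
      | succ k ih =>
        intro x
        rw [pow_succ, pow_succ]
        show tsq ((Al S e g ^ k) (Al S e g x)) = (σ ^ k) (σ (tsq x))
        rw [ih, hσ]
    refine fa_eq_one (α := Al S e g ^ t) (h1 t) (g := e ⟨g ^ t, hgt⟩) ?_
    rw [← map_pow]
    exact al_mem S e ⟨g ^ t, hgt⟩
  have hcardS : Nat.card S = Nat.card (Psl F) := Nat.card_congr e.toEquiv
  have hcard : 2 * Nat.card S = (Fintype.card F + 1) * (Fintype.card F * (Fintype.card F - 1)) := by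
    rw [hcardS]
    exact (H525.L2.frame (MulEquiv.refl (Psl F))).card_odd hodd
  set q := Fintype.card F with hq
  obtain ⟨h, hh⟩ : ∃ h, q = 2 * h + 1 := hodd
  have hcard' : Nat.card S = (2 * h + 1) * (2 * (h * (h + 1))) := by
    have h1 : (q + 1) * (q * (q - 1)) = 2 * ((2 * h + 1) * (2 * (h * (h + 1)))) := by
      rw [hh]
      have : 2 * h + 1 - 1 = 2 * h := by omega
      rw [this]; ring
    rw [h1] at hcard
    exact Nat.eq_of_mul_eq_mul_left (by norm_num) hcard
  have h4S : 4 ∣ Nat.card S := by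
    rw [hcard']
    obtain ⟨c, hc⟩ := Nat.even_mul_succ_self h
    exact ⟨(2 * h + 1) * c, by rw [hc]; ring⟩
  have ht2 : t ≠ 2 := by
    rintro rfl
    exact htS ((by norm_num : (2 : ℕ) ∣ 4).trans h4S)
  have htodd : Odd t := ht.odd_of_ne_two ht2
  have hσn : σ ≠ 1 := by
    intro h1
    obtain ⟨y, hy⟩ := hσ2 h1
    apply hgS
    have hgg : g * g ∈ S := mem_of_inner S e hC (y := y) (by rw [map_mul]; exact hy)
    obtain ⟨k, hk⟩ := htodd
    have h2 : g ^ t = (g * g) ^ k * g := by rw [hk, pow_succ, pow_mul, pow_two]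
    have h3 := S.mul_mem (S.inv_mem (S.pow_mem hgg k)) hgt
    rwa [h2, inv_mul_cancel_left] at h3
  have hord : orderOf σ = t := by
    have h1 := orderOf_dvd_of_pow_eq_one hσt
    rcases (Nat.dvd_prime ht).1 h1 with h | h
    · exact absurd (orderOf_eq_one_iff.1 h) hσn
    · exact h
  have ht3 : 3 ≤ t := by
    have := ht.two_le
    omega
  obtain ⟨χ, hχ1, hχ⟩ := exists_nonfixed_odd ⟨h, hh⟩ hσ (by rw [hord]; exact ht3)
  obtain ⟨d, hd, hdd⟩ := exists_degree S e hC ht hgt χ hχ
  have hcardt := StdL2.FGal.card_fixed σ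
  rw [Nat.card_eq_fintype_card (α := F), hord] at hcardt
  have hq0 := StdL2.FGal.one_lt_card_fixed σ
  rcases hχ1 with hχ1 | hχ1
  · rw [charDegree_eq_of (n := q + 1) (by rw [hχ1, Nat.cast_add, Nat.cast_one])] at hdd
    obtain ⟨s, hs, hs2, hsd⟩ := exists_prime_ne (m := q + 1) (r := 2) (by omega) (by
      intro k hk
      rw [hq, hcardt] at hk
      exact not_two_pow_add hq0 htodd ht3 hk)
    have hsS : s ∣ h + 1 := by
      have h1 : q + 1 = 2 * (h + 1) := by omega
      rw [h1] at hsd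
      exact (Nat.Coprime.dvd_of_dvd_mul_left ((Nat.coprime_primes hs Nat.prime_two).2 hs2) hsd)
    refine ⟨s, hs, hs2, ?_, d, hd, ?_⟩
    · rw [hcard']; exact Dvd.dvd.mul_left (Dvd.dvd.mul_left (Dvd.dvd.mul_left hsS _) _) _
    · refine (Nat.mul_dvd_mul_left t ?_).trans hdd
      have h1 : q + 1 = 2 * (h + 1) := by omega
      rw [h1]
      exact Nat.mul_dvd_mul_left 2 hsS
  · rw [charDegree_eq_of (n := q - 1) (by rw [hχ1, Nat.cast_sub (by omega), Nat.cast_one])] at hdd
    obtain ⟨s, hs, hs2, hsd⟩ := exists_prime_ne (m := q - 1) (r := 2) (by omega) (by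
      intro k hk
      rcases Nat.eq_zero_or_pos k with h0 | h0
      · rw [h0, pow_zero] at hk; omega
      · rw [hq, hcardt] at hk
        exact not_two_pow_sub hq0 htodd ht3 (by omega) hk)
    have hsS : s ∣ h := by
      have h1 : q - 1 = 2 * h := by omega
      rw [h1] at hsd
      exact (Nat.Coprime.dvd_of_dvd_mul_left ((Nat.coprime_primes hs Nat.prime_two).2 hs2) hsd)
    refine ⟨s, hs, hs2, ?_, d, hd, ?_⟩
    · rw [hcard']; exact Dvd.dvd.mul_left (Dvd.dvd.mul_left (Dvd.dvd.mul_right hsS _) _) _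
    · refine (Nat.mul_dvd_mul_left t ?_).trans hdd
      have h1 : q - 1 = 2 * h := by omega
      rw [h1]
      exact Nat.mul_dvd_mul_left 2 hsS

end Cfsg.Agent.H670.Reg
end

-- part: H670/Reg/L2a
section
/-!
# 3-regular degree graphs (S4919): `G / R` almost simple with socle `PSL(2,q)`; `q = 5` or `q` odd, `q = 4, 8` (helper670)

* `memR` : a vertex prime to `|PSL(2,q)|` is an outer prime or divides a degree of `R`;
* `l2_small` : `q = 4, 5, 8`;
* `l2_odd` : `q ≥ 7` odd.
-/

set_option autoImplicit false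

namespace Cfsg.Agent.H670.Reg

open Cfsg Subgroup Cfsg.Agent.H33 Cfsg.Agent.H671.H5 Cfsg.Agent.H681.DegBasic Cfsg.Agent.H671.Link
  Cfsg.Agent.H459.Rad Cfsg.Agent.H988.DG Cfsg.Agent.Characters.Core

universe u v

section

variable {G : Type u} [Group G]

theorem im_adj {a b : ℕ} (hab : a ≠ b) (ha : a.Prime) (hb : b.Prime) {m : ℕ} (h : H33.IM m G) (h1 : a ∣ m) (h2 : b ∣ m) :
    (degreeGraph G).Adj a b := by
  obtain ⟨χ, hχ⟩ := h
  exact adj_of ⟨χ, rfl⟩ ha hb hab (h1.trans hχ) (h2.trans hχ)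

variable [Finite G]

theorem memR (T : Fr G) {t : ℕ} (ht : t ∈ degreePrimes G) (h1 : ¬ t ∣ Nat.card T.L) : t ∣ T.Kb.index ∨ H33.IM t T.R := by
  classical
  have := Fintype.ofFinite G
  have := Fintype.ofFinite T.R
  obtain ⟨htp, χ, hχ⟩ := mem_dp_iff.1 ht
  by_cases h2 : t ∣ T.Kb.index
  · exact Or.inl h2
  right
  obtain ⟨n, hn, hn'⟩ := isIrr_apply_one χ.2
  rw [H670.PSing.charDegree_eq_of hn'] at hχ
  obtain ⟨ψ, d, hψ, hψ1, -, hdn, hdi⟩ := exists_constituent T.R χ.2 hn'
  refine IM.of_apply_one hψ hψ1 ?_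
  have h4 : n = d * (n / d) := (Nat.mul_div_cancel' hdn).symm
  rw [h4, htp.dvd_mul] at hχ
  rcases hχ with h | h
  · exact h
  · exfalso
    have h5 : t ∣ T.R.index := h.trans hdi
    have h6 : T.R.index = Nat.card T.Kb * T.Kb.index := by
      rw [Subgroup.index_eq_card T.R]
      exact (Subgroup.card_mul_index T.Kb).symm
    rw [h6, htp.dvd_mul, T.card_Kb] at h5
    rcases h5 with h5 | h5
    · exact h1 h5
    · exact h2 h5

omit [Finite G] in
theorem two_of {x p q : ℕ} (T : Fr G) (hx : x.Prime) (hp : p.Prime) (hq : q.Prime) (hpq : p ≠ q) (hpd : p ∣ Nat.card T.L)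
    (hqd : q ∣ Nat.card T.L) (hxd : ¬ x ∣ Nat.card T.L) (h : H33.IM (x * (p * q)) G) :
    (degreeGraph G).Adj x p ∧ (degreeGraph G).Adj x q ∧ (degreeGraph G).Adj p q := by
  have h1 : x ≠ p := by rintro rfl; exact hxd hpd
  have h2 : x ≠ q := by rintro rfl; exact hxd hqd
  exact ⟨im_adj h1 hx hp h (Dvd.intro _ rfl) ((Dvd.intro _ rfl).trans (Dvd.intro_left _ rfl)),
    im_adj h2 hx hq h (Dvd.intro _ rfl) ((Dvd.intro_left _ rfl).trans (Dvd.intro_left _ rfl)),
    im_adj hpq hp hq h ((Dvd.intro _ rfl).trans (Dvd.intro_left _ rfl)) ((Dvd.intro_left _ rfl).trans (Dvd.intro_left _ rfl))⟩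

/-- `q = 4, 5, 8` -/
theorem l2_small (T : Fr G) {V : Finset ℕ} (c : Reg3 G V)
    (hF : Fintype.card T.F = 4 ∨ Fintype.card T.F = 5 ∨ Fintype.card T.F = 8) : V.card ≤ 5 := by
  classical
  have hsimp : IsSimpleGroup (Matrix.ProjectiveSpecialLinearGroup (Fin 2) T.F) :=
    Matrix.ProjectiveSpecialLinearGroup.rank_two_simple (by have := T.hF; rw [Nat.card_eq_fintype_card]; omega)
  set P : Finset ℕ := (Nat.card T.L).primeFactors with hPdef
  have hPm : ∀ p, p ∈ P ↔ p.Prime ∧ p ∣ Nat.card T.L := fun p => by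
    rw [hPdef, Nat.mem_primeFactors]
    exact ⟨fun h => ⟨h.1, h.2.1⟩, fun h => ⟨h.1, h.2, Nat.card_pos.ne'⟩⟩
  have hna : ¬ IsMulCommutative T.L := by
    intro h
    obtain ⟨h2, p, q, hp, hq, hp2, hq2, hpq, h6, h7⟩ :=
      primes_psl T.hF (MulEquiv.refl (Matrix.ProjectiveSpecialLinearGroup (Fin 2) T.F))
    have h9 : (2 : ℕ) ∣ Nat.card T.L := two_dvd_card_psl T.hF
    have h10 : Nat.card T.L = 2 := by
      let iC : CommGroup T.L := { (inferInstance : Group T.L) with mul_comm := h.is_comm.comm }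
      have h11 : (Nat.card T.L).Prime := @IsSimpleGroup.prime_card T.L iC hsimp
      exact ((Nat.prime_dvd_prime_iff_eq Nat.prime_two h11).1 h9).symm
    have h12 := h6.dvd_card
    rw [h10, Nat.prime_dvd_prime_iff_eq hp Nat.prime_two] at h12
    exact hp2 h12
  have hP3 : P.card = 3 := le_antisymm (card_le_three hF) (three_le_primes hna)
  refine c.cub.smallD hP3 (fun x => x.Prime ∧ H33.IM x T.R) ?_ ?_
  · rintro x y z ⟨hxp, hx⟩ ⟨hyp, hy⟩ ⟨hzp, hz⟩ hxy hyz hxz
    have hs := T.sol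
    have up : ∀ {a b : ℕ}, H671.H5.Adj a b T.R → (degreeGraph G).Adj a b := by
      intro a b h
      obtain ⟨h5, h6, h7, h8⟩ := Cfsg.Agent.H988.DG.adj_iff.1 h
      exact Cfsg.Agent.H988.DG.adj_iff.2 ⟨h5, h6, h7, h8.of_normal T.R⟩
    rcases H748.Palfy.palfy hs (mem_dp_iff.2 ⟨hxp, hx⟩) (mem_dp_iff.2 ⟨hyp, hy⟩) (mem_dp_iff.2 ⟨hzp, hz⟩) hxy hyz hxz with
      h | h | h
    · exact Or.inl (up h)
    · exact Or.inr (Or.inl (up h))
    · exact Or.inr (Or.inr (up h))
  · intro x hx hxP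
    have hxd := (c.hV x).1 hx
    have hxp := hxd.1
    have hxL : ¬ x ∣ Nat.card T.L := fun h => hxP ((hPm x).2 ⟨hxp, h⟩)
    rcases memR T hxd hxL with h | h
    · left
      obtain ⟨r, s, hr, hs, hrs, hrd, hsd, d, ⟨ψ, rfl⟩, hd⟩ := outFact (G ⧸ T.R) T.Kb T.F T.e T.hF T.cen x hxp h
        (by rwa [T.card_Kb])
      rw [T.card_Kb] at hrd hsd
      have h5 : H33.IM (x * (r * s)) (G ⧸ T.R) := ⟨ψ, by rwa [← mul_assoc]⟩
      obtain ⟨h6, h7, h8⟩ := two_of T hxp hr hs hrs hrd hsd hxL (h5.of_quotient T.R)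
      exact ⟨r, (hPm r).2 ⟨hr, hrd⟩, s, (hPm s).2 ⟨hs, hsd⟩, hrs, h6, h7, h8⟩
    · rcases T.out_R h with ⟨r, s, hr, hs, hrs, hrd, hsd, h4⟩ | ⟨h4, h5⟩
      · left
        obtain ⟨h6, h7, h8⟩ := two_of T hxp hr hs hrs hrd hsd hxL h4
        exact ⟨r, (hPm r).2 ⟨hr, hrd⟩, s, (hPm s).2 ⟨hs, hsd⟩, hrs, h6, h7, h8⟩
      · right
        refine ⟨?_, hxp, h⟩
        intro a ha
        obtain ⟨hap, had⟩ := (hPm a).1 ha
        have h6 := h5 a (H664.R1.PSLTwo.im_psl T.hF hap had)
        have hxa : x ≠ a := by rintro rfl; exact hxP ha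
        exact im_adj hxa hxp hap h6 (Dvd.intro _ rfl) (Dvd.intro_left _ rfl)

/-- `q ≥ 7` odd -/
theorem l2_odd (hOdd : FactOdd.{u}) (T : Fr G) {V : Finset ℕ} (c : Reg3 G V)
    (hodd : Odd (Fintype.card T.F)) (h7 : 7 ≤ Fintype.card T.F) : V.card ≤ 5 := by
  classical
  have hpr : (ringChar T.F).Prime := CharP.char_is_prime T.F _
  have hFp : Fact (ringChar T.F).Prime := ⟨hpr⟩
  have hCh : CharP T.F (ringChar T.F) := ringChar.charP T.F
  obtain ⟨nn, hnn, hq⟩ := FiniteField.card T.F (ringChar T.F)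
  have hp2 : ringChar T.F ≠ 2 := by
    intro h
    have := FiniteField.even_card_iff_char_two.1 h
    rw [Nat.odd_iff] at hodd
    omega
  obtain ⟨-, hadj⟩ := S4774.result T.F (ringChar T.F) hp2 (Fintype.card T.F) rfl (by omega) (Or.inl ⟨MulEquiv.refl _⟩)
  have hsq : Fintype.card T.F ^ 2 - 1 = (Fintype.card T.F + 1) * (Fintype.card T.F - 1) := by
    have := Nat.sq_sub_sq (Fintype.card T.F) 1
    rwa [one_pow] at this
  have hcard := SmallSimple.PSLTwoPart.card_psl_two_odd (F := T.F) hodd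
  set p := ringChar T.F with hpd
  set q := Fintype.card T.F with hqd
  have hupL : ∀ {a b : ℕ}, (degreeGraph T.L).Adj a b → (degreeGraph G).Adj a b := by
    intro a b h
    obtain ⟨h1, h2, h4, h5⟩ := Cfsg.Agent.H988.DG.adj_iff.1 h
    exact Cfsg.Agent.H988.DG.adj_iff.2 ⟨h1, h2, h4, T.im_of_L h5⟩
  have h2sq : 2 ∣ q ^ 2 - 1 := by
    rw [hsq]
    obtain ⟨k, hk⟩ := hodd
    exact Dvd.dvd.mul_left ⟨k, by omega⟩ _
  have hsq0 : q ^ 2 - 1 ≠ 0 := by
    rw [hsq]
    exact Nat.mul_ne_zero (by omega) (by omega)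
  set C : Finset ℕ := (q ^ 2 - 1).primeFactors.erase 2 with hC
  have hCm : ∀ x, x ∈ C ↔ x ≠ 2 ∧ x.Prime ∧ x ∣ q ^ 2 - 1 := by
    intro x
    rw [hC, Finset.mem_erase, Nat.mem_primeFactors]
    exact ⟨fun h => ⟨h.1, h.2.1, h.2.2.1⟩, fun h => ⟨h.1, h.2.1, h.2.2, hsq0⟩⟩
  -- prime divisors of `|L|`
  have hL2 : ∀ x : ℕ, x.Prime → x ∣ Nat.card T.L → x = 2 ∨ x = p ∨ x ∈ C := by
    intro x hx hxL
    have h1 : x ∣ q * (q ^ 2 - 1) := by
      rw [← hcard]
      exact hxL.mul_left _
    rcases hx.dvd_mul.1 h1 with h2 | h2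
    · right; left
      rw [hq] at h2
      exact (Nat.prime_dvd_prime_iff_eq hx hpr).1 (hx.dvd_of_dvd_pow h2)
    · by_cases h3 : x = 2
      · exact Or.inl h3
      · exact Or.inr (Or.inr ((hCm x).2 ⟨h3, hx, h2⟩))
  have hpL : p ∣ Nat.card T.L := by
    have h1 : p ∣ 2 * Nat.card T.L := by
      rw [hcard]
      refine Dvd.dvd.mul_right ?_ _
      rw [hq]
      exact dvd_pow_self _ nn.pos.ne'
    exact (Nat.Coprime.dvd_of_dvd_mul_left ((Nat.coprime_primes hpr Nat.prime_two).2 hp2) h1)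
  have hCL : ∀ x ∈ C, x ∣ Nat.card T.L := by
    intro x hx
    obtain ⟨h1, h2, h3⟩ := (hCm x).1 hx
    have h4 : x ∣ 2 * Nat.card T.L := by
      rw [hcard]
      exact h3.mul_left _
    exact (Nat.Coprime.dvd_of_dvd_mul_left ((Nat.coprime_primes h2 Nat.prime_two).2 h1) h4)
  have h2L : 2 ∣ Nat.card T.L := two_dvd_card_psl T.hF
  have hpC : p ∉ C := by
    intro h
    obtain ⟨h1, h2, h3⟩ := (hCm p).1 h
    have h4 : p ∣ q ^ 2 := by
      rw [hq, ← pow_mul]
      exact dvd_pow_self _ (Nat.mul_ne_zero nn.pos.ne' (by norm_num))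
    have h5 := (Nat.dvd_sub h4 h3)
    have h6 : q ^ 2 - (q ^ 2 - 1) = 1 := by
      have : 1 ≤ q ^ 2 := Nat.one_le_pow _ _ (by omega)
      (clear * - this; omega)
    rw [h6] at h5
    exact hpr.one_lt.ne' (Nat.dvd_one.1 h5)
  have hCn : C.Nonempty := by
    obtain ⟨h2, a, b, ha, hb, ha2, hb2, hab, h8, h9⟩ :=
      primes_psl T.hF (MulEquiv.refl (Matrix.ProjectiveSpecialLinearGroup (Fin 2) T.F))
    rcases hL2 a ha h8.dvd_card with h | h | h
    · exact absurd h ha2
    · rcases hL2 b hb h9.dvd_card with h' | h' | h'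
      · exact absurd h' hb2
      · exact absurd (h.trans h'.symm) hab
      · exact ⟨b, h'⟩
    · exact ⟨a, h⟩
  refine c.cub.oddC (p := p) (C := C) hp2 (fun h => ((hCm 2).1 h).1 rfl) hpC hCn ?_ ?_
  · intro x hx
    obtain ⟨h1, h2, h3⟩ := (hCm x).1 hx
    exact hupL ((hadj 2 x).2 ⟨h1.symm, Nat.prime_two, h2, h2sq, h3, Or.inl rfl⟩)
  · intro x hx hx2 hxp hxC
    have hxd := (c.hV x).1 hx
    have hxpr := hxd.1
    have hxL : ¬ x ∣ Nat.card T.L := by
      intro h
      rcases hL2 x hxpr h with h' | h' | h'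
      · exact hx2 h'
      · exact hxp h'
      · exact hxC h'
    rcases memR T hxd hxL with h | h
    · obtain ⟨s, hs, hs2, hsd, d, ⟨ψ, rfl⟩, hd⟩ := out_odd T.Kb T.e hodd T.hF T.cen hxpr h (by rwa [T.card_Kb])
      rw [T.card_Kb] at hsd
      have h5 : H33.IM (x * (2 * s)) (G ⧸ T.R) := ⟨ψ, hd⟩
      obtain ⟨h6, h7, h8⟩ := two_of T hxpr Nat.prime_two hs hs2.symm h2L hsd hxL (h5.of_quotient T.R)
      exact ⟨⟨2, s, Or.inl rfl, hL2 s hs hsd, hs2.symm, h6, h7, h8⟩, Or.inl h6⟩
    · constructor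
      · rcases T.out_R h with ⟨r, s, hr, hs, hrs, hrd, hsd, h4⟩ | ⟨h4, -⟩
        · obtain ⟨h6, h7, h8⟩ := two_of T hxpr hr hs hrs hrd hsd hxL h4
          exact ⟨r, s, hL2 r hr hrd, hL2 s hs hsd, hrs, h6, h7, h8⟩
        · exfalso
          rw [← hqd] at h4
          obtain ⟨k, hk⟩ := hodd
          omega
      · have := Fintype.ofFinite T.K
        have := Fintype.ofFinite T.f.ker
        obtain ⟨θ, hθ⟩ : H33.IM x T.f.ker := h.of_equiv T.kerEquiv
        obtain ⟨χ, -, d, hd, hd'⟩ := hOdd T.K T.f.ker T.F hodd h7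
          (QuotientGroup.quotientKerEquivOfSurjective T.f T.f_surj) θ
        have hK : H33.IM (d * x) G := T.im_of_K ⟨χ, by rw [hd]; exact Nat.mul_dvd_mul_left d hθ⟩
        rcases hd' with h2 | h2
        · left
          exact im_adj hx2 hxpr Nat.prime_two hK (Dvd.intro_left _ rfl) (h2.mul_right _)
        · right
          have hp' := h2 p hpr hp2 hpL
          refine ⟨im_adj hxp hxpr hpr hK (Dvd.intro_left _ rfl) (hp'.mul_right _), ?_, ?_⟩
          · intro c' hc'
            obtain ⟨e1, e2, -⟩ := (hCm c').1 hc'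
            have h4 := h2 c' e2 e1 (hCL c' hc')
            refine ⟨im_adj ?_ hxpr e2 hK (Dvd.intro_left _ rfl) (h4.mul_right _),
              im_adj ?_ hpr e2 hK (hp'.mul_right _) (h4.mul_right _)⟩
            · rintro rfl; exact hxC hc'
            · rintro rfl; exact hpC hc'
          · intro a ha b hb hab
            obtain ⟨a1, a2, -⟩ := (hCm a).1 ha
            obtain ⟨b1, b2, -⟩ := (hCm b).1 hb
            exact im_adj hab a2 b2 hK ((h2 a a2 a1 (hCL a ha)).mul_right _) ((h2 b b2 b1 (hCL b hb)).mul_right _)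

end

end Cfsg.Agent.H670.Reg
end

-- part: H191/CrossF
section
/-!
# CROSS: `q² - 1` divides a degree, or twice `q + 1` times a prime of `q - 1` does
-/

set_option autoImplicit false
set_option linter.unusedSectionVars false
open Cfsg

namespace Cfsg.Agent.H191.Cross

open Cfsg.Agent.ClassicalGeometry
open Cfsg.Agent.Characters.Core
open Cfsg.Agent.H672
open scoped commutatorElement

universe u

section main
variable {X : Type u} [Group X] [Finite X] (V : Subgroup X) [hVn : V.Normal]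
  {F : Type} [Field F] [Fintype F] (π : X →* P2 F)

/-- the conclusion of the strongest form -/
def ConclF (X : Type u) [Group X] (q : ℕ) : Prop :=
  (∃ d ∈ charDegrees X, q ^ 2 - 1 ∣ d) ∨
    (∃ x : ℕ, x.Prime ∧ x ∣ q - 1 ∧ ∃ d ∈ charDegrees X, 2 * x * (q + 1) ∣ d)

theorem index_PP (Q : Sylow 2 (P2 F)) (l : V →* ℂˣ) (hQJ : (Q : Subgroup (P2 F)) ≤ (inertia V (lf l)).map π) :
    (PP V π Q l).index * Nat.card (Q : Subgroup (P2 F)) = Nat.card ((inertia V (lf l)).map π) := by
  have h1 : PP V π Q l = ((Q : Subgroup (P2 F)).subgroupOf ((inertia V (lf l)).map π)).comap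
      (π.subgroupMap (inertia V (lf l))) := rfl
  rw [h1, Subgroup.index_comap_of_surjective _ (π.subgroupMap_surjective (inertia V (lf l))),
    ← Nat.card_congr (Subgroup.subgroupOfEquivOfLe hQJ).toEquiv, mul_comm]
  exact Subgroup.card_mul_index _

theorem main_evenF (hF : Even (Fintype.card F)) (h4 : 4 < Fintype.card F)
    (hVc : ∀ x ∈ V, ∀ y ∈ V, x * y = y * x) (hπ : Function.Surjective π) (hker : π.ker = V)
    (Q : Sylow 2 (P2 F)) (hV2 : ∀ v ∈ V, v * v = 1) (l : V →* ℂˣ)
    (hfix : ∀ x : X, π x ∈ Q → x ∈ inertia V (lf l))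
    (hJ : (inertia V (lf l)).map π ≠ ⊤) :
    ConclF X (Fintype.card F) := by
  classical
  have := charTwo hF
  have h1 : 1 < Fintype.card F := Fintype.one_lt_card
  have hVI : V ≤ inertia V (lf l) := le_inertia' V hVc l
  have hQJ : (Q : Subgroup (P2 F)) ≤ (inertia V (lf l)).map π := by
    intro b hb
    obtain ⟨x, rfl⟩ := hπ b
    exact ⟨x, hfix x hb, rfl⟩
  have hcQ : Nat.card (Q : Subgroup (P2 F)) = Fintype.card F := card_sylow hF h4 Q
  have hcard : Fintype.card F ≤ 2 * Nat.card ((inertia V (lf l)).map π ⊓ (Q : Subgroup (P2 F)) : Subgroup (P2 F)) := by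
    rw [inf_eq_right.2 hQJ, hcQ]
    omega
  have hle := le_normalizer_of_large' hF h4 Q _ hJ hcard
  have hidx : Fintype.card F + 1 ∣ ((inertia V (lf l)).map π).index := by
    rw [← H436.TT.index_normalizer 2 Q]
    exact Subgroup.index_dvd_of_le hle
  obtain ⟨k, hk⟩ := hidx
  obtain ⟨m, hm⟩ : Fintype.card F ∣ Nat.card ((inertia V (lf l)).map π) := by
    rw [← hcQ]; exact Subgroup.card_dvd_of_le hQJ
  have hmul := Subgroup.card_mul_index ((inertia V (lf l)).map π)
  rw [hk, hm, Classification.PSLTwoEvenSylow.card_psl, fac _ h1] at hmul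
  have hmk : m * k = Fintype.card F - 1 := by
    have h2 : Fintype.card F * (Fintype.card F + 1) * (m * k) =
        Fintype.card F * (Fintype.card F + 1) * (Fintype.card F - 1) := by
      calc Fintype.card F * (Fintype.card F + 1) * (m * k) = Fintype.card F * m * ((Fintype.card F + 1) * k) := by ring
        _ = Fintype.card F * ((Fintype.card F - 1) * (Fintype.card F + 1)) := hmul
        _ = _ := by ring
    exact Nat.eq_of_mul_eq_mul_left (by positivity) h2
  have hPm : (PP V π Q l).index = m := by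
    have h2 := index_PP V π Q l hQJ
    rw [hm, hcQ, mul_comm] at h2
    exact Nat.eq_of_mul_eq_mul_left (by omega) h2
  have hPn : (PP V π Q l).Normal := by
    constructor
    rintro ⟨y, hyI⟩ hy ⟨g, hg⟩
    have h5 : π y ∈ (Q : Subgroup (P2 F)) := hy
    show π (g * y * g⁻¹) ∈ (Q : Subgroup (P2 F))
    rw [map_mul, map_mul, map_inv]
    exact (Subgroup.mem_normalizer_iff.1 (hle ⟨g, hg, rfl⟩) _).1 h5
  by_cases hext : ∃ φ : PP V π Q l →* ℂˣ, ∀ v : V, φ (embV V π hVc hker Q l v) = l v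
  · left
    obtain ⟨φ, hφ⟩ := hext
    let ρ : PP V π Q l →* (Q : Subgroup (P2 F)) :=
      (π.comp ((inertia V (lf l)).subtype.comp (PP V π Q l).subtype)).codRestrict _ (fun x => x.2)
    have hρ : ∀ x : PP V π Q l, (ρ x : P2 F) = π (x : X) := fun _ => rfl
    have hdeg : ∀ ν : (Q : Subgroup (P2 F)) →* ℂˣ, ∃ d ∈ charDegrees X,
        (inertia V (lf l)).index * (H672.inertia (PP V π Q l) (lf (φ * ν.comp ρ))).index ∣ d := by
      intro ν
      refine exists_degree V (inertia V (lf l)) l rfl (PP V π Q l) hVI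
        (fun v => (embV V π hVc hker Q l v).2) (φ * ν.comp ρ) ?_
      intro v
      have h5 : ρ (embV V π hVc hker Q l v) = 1 := by
        apply Subtype.ext
        rw [hρ]
        have : (v : X) ∈ π.ker := by rw [hker]; exact v.2
        exact this
      show φ (embV V π hVc hker Q l v) * ν (ρ (embV V π hVc hker Q l v)) = l v
      rw [h5, map_one, mul_one, hφ]
    have hcomQ : ∀ x y : (Q : Subgroup (P2 F)), x * y = y * x := fun x y => Subtype.ext (comm_of hF Q x.2 y.2)
    have hPle : ∀ ν : (Q : Subgroup (P2 F)) →* ℂˣ,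
        PP V π Q l ≤ H672.inertia (PP V π Q l) (lf (φ * ν.comp ρ)) := fun ν =>
      le_inertia (isCharacter_isClassFunction (isCharacter_lf _))
    -- a good extension
    obtain ⟨ν, hν⟩ : ∃ ν : (Q : Subgroup (P2 F)) →* ℂˣ,
        H672.inertia (PP V π Q l) (lf (φ * ν.comp ρ)) ≤ PP V π Q l := by
      by_contra hcon
      push Not at hcon
      have hx : ∀ ν : (Q : Subgroup (P2 F)) →* ℂˣ, ∃ x : inertia V (lf l),
          x ∈ H672.inertia (PP V π Q l) (lf (φ * ν.comp ρ)) ∧ x ∉ PP V π Q l := by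
        intro ν
        exact SetLike.not_le_iff_exists.1 (hcon ν)
      choose x hx1 hx2 using hx
      have hfin : Finite ((Q : Subgroup (P2 F)) →* ℂˣ) := by
        apply Nat.finite_of_card_ne_zero
        rw [card_lin hcomQ]
        exact Nat.card_pos.ne'
      have hni : ¬ Function.Injective (fun ν : (Q : Subgroup (P2 F)) →* ℂˣ =>
          (QuotientGroup.mk (x ν) : inertia V (lf l) ⧸ PP V π Q l)) := by
        intro hinj
        have h5 := Nat.card_le_card_of_injective _ hinj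
        rw [card_lin hcomQ, hcQ, ← Subgroup.index_eq_card, hPm] at h5
        have h6 : 0 < k := by
          rcases Nat.eq_zero_or_pos k with h | h
          · rw [h, mul_zero] at hmk; omega
          · exact h
        have h7 : m ≤ m * k := Nat.le_mul_of_pos_right m h6
        omega
      rw [Function.not_injective_iff] at hni
      obtain ⟨ν, ν', he, hne⟩ := hni
      -- the element `x ν'` fixes both
      have e1 : x ν' ∈ H672.inertia (PP V π Q l) (lf (φ * ν.comp ρ)) := by
        have h5 := QuotientGroup.eq.1 he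
        have h6 := mul_mem (hx1 ν) (hPle ν h5)
        rwa [mul_inv_cancel_left] at h6
      have e2 := hx1 ν'
      have hxP := hx2 ν'
      set c : inertia V (lf l) := x ν' with hc
      rw [mem_inertia_lf] at e1 e2
      have hcJ : π (c : X) ∈ (inertia V (lf l)).map π := ⟨c, c.2, rfl⟩
      have hcN := hle hcJ
      -- `c` acts on `Q`
      let γ : ↥(Q : Subgroup (P2 F)) → ↥(Q : Subgroup (P2 F)) := fun y =>
        ⟨π (c : X) * y * (π (c : X))⁻¹ * (y : P2 F)⁻¹,
          mul_mem ((Subgroup.mem_normalizer_iff.1 hcN _).1 y.2) (inv_mem y.2)⟩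
      have hγ : ∀ y, ((γ y : (Q : Subgroup (P2 F))) : P2 F) = π (c : X) * y * (π (c : X))⁻¹ * (y : P2 F)⁻¹ :=
        fun _ => rfl
      have hγi : Function.Injective γ := by
        intro y z hyz
        have h5 : π (c : X) * y * (π (c : X))⁻¹ * (y : P2 F)⁻¹ = π (c : X) * z * (π (c : X))⁻¹ * (z : P2 F)⁻¹ :=
          congrArg Subtype.val hyz
        -- `y⁻¹ z` is centralised by `π c`
        have hzc : π (c : X) * ((y : P2 F)⁻¹ * z) * (π (c : X))⁻¹ = (y : P2 F)⁻¹ * z := by
          have ha : π (c : X) * z * (π (c : X))⁻¹ ∈ (Q : Subgroup (P2 F)) := (Subgroup.mem_normalizer_iff.1 hcN _).1 z.2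
          have hb : π (c : X) * y * (π (c : X))⁻¹ ∈ (Q : Subgroup (P2 F)) := (Subgroup.mem_normalizer_iff.1 hcN _).1 y.2
          have e3 : π (c : X) * ((y : P2 F)⁻¹ * z) * (π (c : X))⁻¹ =
              (π (c : X) * y * (π (c : X))⁻¹)⁻¹ * (π (c : X) * z * (π (c : X))⁻¹) := by group
          have e4 : π (c : X) * z * (π (c : X))⁻¹ = π (c : X) * y * (π (c : X))⁻¹ * ((y : P2 F)⁻¹ * z) := by
            have h6 := congrArg (· * (z : P2 F)) h5
            simp only [inv_mul_cancel_right] at h6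
            rw [← h6]; group
          rw [e3, e4, inv_mul_cancel_left]
        by_contra hyz'
        have hne1 : (y : P2 F)⁻¹ * z ≠ 1 := by
          intro h
          apply hyz'
          exact Subtype.ext (inv_mul_eq_one.1 h)
        have hQm : (y : P2 F)⁻¹ * z ∈ (Q : Subgroup (P2 F)) := mul_mem (inv_mem y.2) z.2
        have h6 := WeakTI.PslTwo.cent (MulEquiv.refl (P2 F)) (sq_one hF Q hQm) hne1
          (mul_inv_eq_iff_eq_mul.1 hzc).symm
        apply hxP
        rw [mem_PP]
        refine le_sylow_of_isPGroup Q (Subgroup.zpowers (π (c : X))) ?_ ?_ (Subgroup.mem_zpowers _)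
        · rw [Subgroup.zpowers_le]; exact hcN
        · rintro ⟨y, k, rfl⟩
          refine ⟨1, ?_⟩
          apply Subtype.ext
          show (π (c : X) ^ k) ^ (2 ^ 1) = 1
          rw [pow_one, ← zpow_natCast, ← zpow_mul, mul_comm, zpow_mul, zpow_natCast, pow_two, h6, one_zpow]
      have hγs : Function.Surjective γ := Finite.surjective_of_injective hγi
      apply hne
      ext z
      obtain ⟨y, rfl⟩ := hγs z
      congr 1
      obtain ⟨w, hw⟩ := hπ (y : P2 F)
      have hwI : w ∈ inertia V (lf l) := hfix w (by rw [hw]; exact y.2)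
      let wP : PP V π Q l := ⟨⟨w, hwI⟩, by rw [mem_PP]; show π w ∈ _; rw [hw]; exact y.2⟩
      have e3 := e1 wP
      have e4 := e2 wP
      have hr1 : ρ wP = y := Subtype.ext hw
      have hr2 : ρ (MulAut.conjNormal c wP) = γ y * y := by
        apply Subtype.ext
        rw [hρ]
        show π ((c : X) * w * (c : X)⁻¹) = π (c : X) * y * (π (c : X))⁻¹ * (y : P2 F)⁻¹ * (y : P2 F)
        rw [map_mul, map_mul, map_inv, hw, inv_mul_cancel_right]
      simp only [MonoidHom.mul_apply, MonoidHom.comp_apply, hr1, hr2, map_mul] at e3 e4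
      -- `φ (w ^ c) ν (γ y) ν y = φ w ν y`
      have e5 : φ (MulAut.conjNormal c wP) * ν (γ y) = φ wP := by
        apply mul_right_cancel (b := ν y)
        rw [mul_assoc]; exact e3
      have e6 : φ (MulAut.conjNormal c wP) * ν' (γ y) = φ wP := by
        apply mul_right_cancel (b := ν' y)
        rw [mul_assoc]; exact e4
      exact mul_left_cancel (e5.trans e6.symm)
    obtain ⟨d, hd, hdd⟩ := hdeg ν
    have h5 : H672.inertia (PP V π Q l) (lf (φ * ν.comp ρ)) = PP V π Q l := le_antisymm hν (hPle ν)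
    rw [h5, hPm, ← index_map V π hVc hπ hker l, hk] at hdd
    refine ⟨d, hd, ?_⟩
    rw [fac _ h1, ← hmk]
    have h6 : m * k * (Fintype.card F + 1) = (Fintype.card F + 1) * k * m := by ring
    rw [h6]
    exact hdd
  · right
    have hk1 : k ≠ 1 := by
      intro hk1
      apply hext
      rw [hk1, mul_one] at hmk
      refine exists_extension V π hF h4 hVc hπ hker Q hV2 l hfix ?_
      intro a b ha ha1 hb hb1
      exact trans_of_dvd hF h4 Q _ hle (by rw [hm, hmk]; exact Dvd.intro_left _ rfl) ha ha1 hb hb1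
    obtain ⟨r, hr, hrk⟩ := Nat.exists_prime_and_dvd hk1
    refine ⟨r, hr, ?_, ?_⟩
    · rw [← hmk]; exact hrk.mul_left _
    -- a character of even degree
    let f := embV V π hVc hker Q l
    obtain ⟨χ, hχ, hχo⟩ := exists_over V (lf l) (isIrr_lf l)
    let g : PP V π Q l →* X := (inertia V (lf l)).subtype.comp (PP V π Q l).subtype
    have hgf : V.subtype = g.comp f := rfl
    rw [hgf, over_comp_iff g f (isIrr_isCharacter hχ) (isIrr_lf l)] at hχo
    obtain ⟨ξ, hξ, hξo, hξl⟩ := hχo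
    rw [over_comp_iff (inertia V (lf l)).subtype (PP V π Q l).subtype (isIrr_isCharacter hχ) hξ] at hξo
    obtain ⟨ψ, hψ, -, hψξ⟩ := hξo
    have hdvd := (charDegree_dvd_of_over (PP V π Q l) hψ hξ hψξ).1
    have hψl : Over (Subgroup.inclusion hVI) ψ (lf l) := by
      have h5 : Subgroup.inclusion hVI = (PP V π Q l).subtype.comp f := rfl
      rw [h5, over_comp_iff _ _ (isIrr_isCharacter hψ) (isIrr_lf l)]
      exact ⟨ξ, hξ, hψξ, hξl⟩
    have hmem := degree_of_over V l hVI hψ hψl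
    refine ⟨_, hmem, ?_⟩
    have heven : 2 ∣ charDegree ξ := by
      -- the degree is a power of two
      have hP2 : IsPGroup 2 (PP V π Q l) := by
        intro z
        refine ⟨2, ?_⟩
        have h5 := hV2 _ (sq_mem V π hF hker Q z.2)
        apply Subtype.ext
        apply Subtype.ext
        show (((z : inertia V (lf l)) : X)) ^ (2 ^ 2) = 1
        rw [show (((z : inertia V (lf l)) : X)) ^ (2 ^ 2) = ((z : inertia V (lf l)) : X) * ((z : inertia V (lf l)) : X) *
          (((z : inertia V (lf l)) : X) * ((z : inertia V (lf l)) : X)) by simp [pow_succ, mul_assoc]]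
        exact h5
      obtain ⟨n, hn⟩ := IsPGroup.iff_card.1 hP2
      have hdc : charDegree ξ ∣ Nat.card (PP V π Q l) := by
        obtain ⟨n', ρ', hρ', h'⟩ := hξ
        have e1 : charDegree ξ = Module.finrank ℂ (Fin n' → ℂ) := by
          apply charDegree_of_eq
          rw [← h', Representation.char_one]
        rw [e1]
        have := hρ'
        exact Characters.DegreeBounds.finrank_dvd_card ρ'
      rw [hn, Nat.dvd_prime_pow Nat.prime_two] at hdc
      obtain ⟨b, -, hb⟩ := hdc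
      rcases Nat.eq_zero_or_pos b with h0 | h0
      · exfalso
        rw [h0, pow_zero] at hb
        obtain ⟨φ, hφ⟩ := exists_hom_of_degree_one hξ hb
        apply hext
        refine ⟨φ, fun v => ?_⟩
        have h6 := eq_of_over_of_charDegree_eq hξ (isIrr_lf l) hξl (by rw [hb, charDegree_lf])
        have h7 := congrFun h6 v
        rw [hφ] at h7
        exact Units.ext h7
      · rw [hb]; exact dvd_pow_self 2 h0.ne'
    rw [← index_map V π hVc hπ hker l, hk]
    have h5 : 2 * r * (Fintype.card F + 1) = (Fintype.card F + 1) * r * 2 := by ring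
    rw [h5]
    exact Nat.mul_dvd_mul (Nat.mul_dvd_mul_left _ hrk) (heven.trans hdvd)

end main

/-- **CROSS, strongest form.** -/
theorem crossF {X : Type u} [Group X] [Finite X] (V : Subgroup X) [V.Normal]
    (hVc : ∀ x ∈ V, ∀ y ∈ V, x * y = y * x)
    (hmin : ∀ N : Subgroup X, N.Normal → N ≤ V → N = ⊥ ∨ N = V)
    (hVz : ¬ V ≤ Subgroup.center X) (F : Type) [Field F] [Fintype F]
    (hF : Even (Fintype.card F)) (h4 : 4 < Fintype.card F)
    (e : X ⧸ V ≃* Matrix.ProjectiveSpecialLinearGroup (Fin 2) F) :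
    (∃ d ∈ Cfsg.charDegrees X, Fintype.card F ^ 2 - 1 ∣ d) ∨
      (∃ x : ℕ, x.Prime ∧ x ∣ Fintype.card F - 1 ∧
        ∃ d ∈ Cfsg.charDegrees X, 2 * x * (Fintype.card F + 1) ∣ d) := by
  classical
  let π : X →* P2 F := e.toMonoidHom.comp (QuotientGroup.mk' V)
  have hπ : Function.Surjective π := e.surjective.comp (QuotientGroup.mk'_surjective V)
  have hker : π.ker = V := by
    ext x
    rw [MonoidHom.mem_ker]
    show e (QuotientGroup.mk x) = 1 ↔ x ∈ V
    rw [map_eq_one_iff e e.injective, QuotientGroup.eq_one_iff]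
  have hVcom : ∀ v w : V, v * w = w * v := fun v w => Subtype.ext (hVc v v.2 w w.2)
  have hVbot : V ≠ ⊥ := by
    rintro rfl
    exact hVz bot_le
  obtain ⟨p, hp, hpV⟩ := exists_exponent V hmin hVc hVbot
  have hcard := card_lin hVcom
  have hfin : Finite (V →* ℂˣ) := by
    apply Nat.finite_of_card_ne_zero
    rw [hcard]
    exact Nat.card_pos.ne'
  have Q : Sylow 2 (P2 F) := default
  -- a nontrivial linear character is not invariant
  have hninv : ∀ l : V →* ℂˣ, l ≠ 1 → (inertia V (lf l)).map π ≠ ⊤ := by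
    intro l hl h
    have hall : ∀ x : X, x ∈ inertia V (lf l) := by
      intro x
      rw [← mem_map_iff V π hVc hker l, h]
      trivial
    let K : Subgroup X := l.ker.map V.subtype
    have hK : K.Normal := by
      constructor
      rintro _ ⟨v, hv, rfl⟩ g
      refine ⟨MulAut.conjNormal g v, ?_, rfl⟩
      show l _ = 1
      rw [(mem_inertia_lf V).1 (hall g) v]
      exact hv
    rcases hmin K hK (Subgroup.map_subtype_le _) with h1 | h1
    · apply hVz
      intro v hv
      rw [Subgroup.mem_center_iff]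
      intro g
      have h2 : (⟨v, hv⟩ : V)⁻¹ * MulAut.conjNormal g ⟨v, hv⟩ ∈ l.ker := by
        rw [MonoidHom.mem_ker, map_mul, map_inv, (mem_inertia_lf V).1 (hall g), inv_mul_cancel]
      have h3 : V.subtype ((⟨v, hv⟩ : V)⁻¹ * MulAut.conjNormal g ⟨v, hv⟩) ∈ K := ⟨_, h2, rfl⟩
      rw [h1, Subgroup.mem_bot] at h3
      have h4 : v⁻¹ * (g * v * g⁻¹) = 1 := h3
      rw [inv_mul_eq_one] at h4
      exact (mul_inv_eq_iff_eq_mul.1 h4.symm)
    · apply hl
      ext v
      have h2 : (v : X) ∈ K := by rw [h1]; exact v.2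
      obtain ⟨w, hw, hwv⟩ := h2
      have h3 : w = v := Subtype.ext hwv
      rw [← h3]
      exact congrArg _ hw
  by_cases hp2 : p = 2
  · subst hp2
    let _ := act V
    have hV2 : ∀ v ∈ V, v * v = 1 := fun v hv => by rw [← pow_two]; exact hpV v hv
    let D : Subgroup X := (Q : Subgroup (P2 F)).comap π
    have hD : IsPGroup 2 D := by
      intro x
      refine ⟨2, ?_⟩
      apply Subtype.ext
      have h1 := hV2 _ (sq_mem V π hF hker Q x.2)
      show (x : X) ^ (2 ^ 2) = 1
      rw [show (x : X) ^ (2 ^ 2) = (x : X) * x * ((x : X) * x) by simp [pow_succ, mul_assoc]]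
      exact h1
    have hVp : IsPGroup 2 V := by
      intro v
      refine ⟨1, ?_⟩
      apply Subtype.ext
      show (v : X) ^ (2 ^ 1) = 1
      rw [pow_one]
      exact hpV v v.2
    have hdvd : 2 ∣ Nat.card (V →* ℂˣ) := by
      rw [hcard]
      obtain ⟨n, hn⟩ := IsPGroup.iff_card.1 hVp
      rw [hn]
      apply dvd_pow_self
      rintro rfl
      rw [pow_zero, Subgroup.card_eq_one] at hn
      exact hVbot hn
    obtain ⟨l, hl, hl1⟩ := hD.exists_fixed_point_of_prime_dvd_card_of_fixed_point (V →* ℂˣ) hdvd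
      (a := 1) (fun d => by
        show (d : X) • (1 : V →* ℂˣ) = 1
        exact (act V).smul_one (d : X))
    refine main_evenF V π hF h4 hVc hπ hker Q hV2 l ?_ (hninv l (Ne.symm hl1))
    intro x hx
    exact (act_eq_iff V x l).1 (hl ⟨x, hx⟩)
  · have hodd : Odd (Nat.card (V →* ℂˣ)) := by
      rw [hcard]
      have hVp : IsPGroup p V := by
        intro v
        refine ⟨1, ?_⟩
        apply Subtype.ext
        show (v : X) ^ (p ^ 1) = 1
        rw [pow_one]
        exact hpV v v.2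
      have := Fact.mk hp
      obtain ⟨n, hn⟩ := IsPGroup.iff_card.1 hVp
      rw [hn]
      exact (hp.odd_of_ne_two hp2).pow
    have hex : ∃ x : X, π x ∈ Q ∧ ∃ l : V →* ℂˣ, x ∉ inertia V (lf l) := ?_
    · obtain ⟨l, hlQ, hlc⟩ := exists_half V π hF h4 hVc hπ hker Q hfin hodd hex
      have hJ : (inertia V (lf l)).map π ≠ ⊤ := by
        intro h
        rw [h] at hlQ
        exact hlQ le_top
      have hle := le_normalizer_of_large' hF h4 Q _ hJ hlc
      obtain ⟨-, h2⟩ := le_of_half hF h4 Q _ hle hlc hlQ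
      have hmul := Subgroup.card_mul_index ((inertia V (lf l)).map π)
      have := charTwo hF
      have h1 : 1 < Fintype.card F := Fintype.one_lt_card
      rw [Classification.PSLTwoEvenSylow.card_psl, fac _ h1] at hmul
      have hidx : ((inertia V (lf l)).map π).index = 2 * (Fintype.card F + 1) * (Fintype.card F - 1) := by
        have hpos : 0 < Nat.card ((inertia V (lf l)).map π) := Nat.card_pos
        apply Nat.eq_of_mul_eq_mul_left hpos
        rw [hmul]
        conv_lhs => rw [← h2]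
        have h3 : 0 < Fintype.card F - 1 := by omega
        rw [h2]
        nth_rewrite 1 [← h2]
        ring
      left
      obtain ⟨d, hd, hdd⟩ := exists_degree_one V l
      rw [← index_map V π hVc hπ hker l, hidx] at hdd
      refine ⟨d, hd, dvd_trans ?_ hdd⟩
      rw [fac _ h1]
      exact ⟨2, by ring⟩
    -- faithfulness
    have hsimp : IsSimpleGroup (P2 F) := TwoFusion.SLTwoFacts.isSimpleGroup_psl (by omega)
    let C : Subgroup X := Subgroup.centralizer (V : Set X)
    have hCn : C.Normal := inferInstance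
    have hVC : V ≤ C := by
      intro v hv
      rw [Subgroup.mem_centralizer_iff]
      intro w hw
      exact hVc w hw v hv
    have hCV : C ≤ V := by
      rcases (hCn.map π hπ).eq_bot_or_eq_top with h | h
      · intro c hc
        rw [← hker, MonoidHom.mem_ker]
        have : π c ∈ C.map π := ⟨c, hc, rfl⟩
        rw [h] at this
        exact this
      · exfalso
        apply hVz
        intro v hv
        rw [Subgroup.mem_center_iff]
        intro g
        have h1 : π g ∈ C.map π := by rw [h]; trivial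
        obtain ⟨c, hc, hcg⟩ := h1
        have h2 : c⁻¹ * g ∈ V := by
          rw [← hker, MonoidHom.mem_ker, map_mul, map_inv, hcg, inv_mul_cancel]
        have h3 : g ∈ C := by
          have := mul_mem hc (hVC h2)
          simpa using this
        exact ((Subgroup.mem_centralizer_iff.1 h3) v hv).symm
    have hQ1 : (Q : Subgroup (P2 F)) ≠ ⊥ := by
      intro h
      have h1 : Nat.card (Q : Subgroup (P2 F)) = Fintype.card F := card_sylow hF h4 Q
      rw [h] at h1
      simp at h1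
      omega
    obtain ⟨a, haQ, ha1⟩ := (Subgroup.bot_or_exists_ne_one _).resolve_left hQ1
    obtain ⟨x, rfl⟩ := hπ a
    have hxV : x ∉ C := by
      intro h
      apply ha1
      have := hCV h
      rw [← hker] at this
      exact this
    rw [Subgroup.mem_centralizer_iff] at hxV
    push Not at hxV
    obtain ⟨v, hv, hvx⟩ := hxV
    have hne : (⟨v, hv⟩ : V)⁻¹ * MulAut.conjNormal x ⟨v, hv⟩ ≠ 1 := by
      intro h
      apply hvx
      rw [inv_mul_eq_one] at h
      have h1 : v = x * v * x⁻¹ := congrArg Subtype.val h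
      exact (mul_inv_eq_iff_eq_mul.1 h1.symm).symm
    obtain ⟨l, hl⟩ := exists_lin hVcom hne
    refine ⟨x, haQ, l, ?_⟩
    intro hx
    apply hl
    rw [map_mul, map_inv, (mem_inertia_lf V).1 hx, inv_mul_cancel]

end Cfsg.Agent.H191.Cross
end

-- part: H670/Reg/L2b
section
/-!
# 3-regular degree graphs (S4919): `G / R` almost simple with socle `PSL(2,q)`, `q ≥ 16` even (helper670)

* `resid` : a group with a solvable normal subgroup with quotient `PSL(2,q)` is a direct product or has degrees linking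
  `q - 1` and `q + 1`;
* `l2_even`.
-/

set_option autoImplicit false

namespace Cfsg.Agent.H670.Reg

open Cfsg Subgroup Cfsg.Agent.H33 Cfsg.Agent.H671.H5 Cfsg.Agent.H681.DegBasic Cfsg.Agent.H671.Link
  Cfsg.Agent.H459.Rad Cfsg.Agent.H988.DG Cfsg.Agent.Characters.Core

universe u v

theorem resid {X : Type u} [Group X] [Finite X] {F : Type} [Field F] [Fintype F]
    (f : X →* Matrix.ProjectiveSpecialLinearGroup (Fin 2) F) (hfs : Function.Surjective f) (hks : Group.IsSolvable f.ker)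
    (hev : Even (Fintype.card F)) (h4 : 4 < Fintype.card F) :
    (∃ (D : Subgroup X) (_ : D.Normal), (∀ a ∈ D, ∀ b ∈ f.ker, a * b = b * a) ∧ D ⊓ f.ker = ⊥ ∧
      (∀ g : X, ∃ a ∈ D, ∃ b ∈ f.ker, a * b = g) ∧ Nonempty (D ≃* Matrix.ProjectiveSpecialLinearGroup (Fin 2) F)) ∨
    ((∃ d ∈ charDegrees X, Fintype.card F ^ 2 - 1 ∣ d) ∨ ∃ x : ℕ, x.Prime ∧ x ∣ Fintype.card F - 1 ∧
      ∃ d ∈ charDegrees X, 2 * x * (Fintype.card F + 1) ∣ d) := by
  classical
  have hsimp : IsSimpleGroup (Matrix.ProjectiveSpecialLinearGroup (Fin 2) F) :=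
    Matrix.ProjectiveSpecialLinearGroup.rank_two_simple (by rw [Nat.card_eq_fintype_card]; omega)
  have hna : ¬ Group.IsSolvable (Matrix.ProjectiveSpecialLinearGroup (Fin 2) F) := by
    intro h
    have hc : ∀ a b : Matrix.ProjectiveSpecialLinearGroup (Fin 2) F, a * b = b * a := IsSimpleGroup.comm_iff_isSolvable.2 h
    obtain ⟨h2, p, q, hp, hq, hp2, hq2, hpq, h6, h7⟩ :=
      primes_psl h4.le (MulEquiv.refl (Matrix.ProjectiveSpecialLinearGroup (Fin 2) F))
    have h9 : (2 : ℕ) ∣ Nat.card (Matrix.ProjectiveSpecialLinearGroup (Fin 2) F) := two_dvd_card_psl h4.le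
    have h10 : Nat.card (Matrix.ProjectiveSpecialLinearGroup (Fin 2) F) = 2 := by
      let iC : CommGroup (Matrix.ProjectiveSpecialLinearGroup (Fin 2) F) :=
        { (inferInstance : Group (Matrix.ProjectiveSpecialLinearGroup (Fin 2) F)) with mul_comm := hc }
      have h11 : (Nat.card (Matrix.ProjectiveSpecialLinearGroup (Fin 2) F)).Prime :=
        @IsSimpleGroup.prime_card (Matrix.ProjectiveSpecialLinearGroup (Fin 2) F) iC hsimp
      exact ((Nat.prime_dvd_prime_iff_eq Nat.prime_two h11).1 h9).symm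
    have h12 := h6.dvd_card
    rw [h10, Nat.prime_dvd_prime_iff_eq hp Nat.prime_two] at h12
    exact hp2 h12
  obtain ⟨D, hDn, hperf, hDs⟩ := H671.Frame.exists_residual X
  -- `D` maps onto the simple group
  have hDR : D.map f = ⊤ := by
    rcases hsimp.eq_bot_or_eq_top_of_normal (D.map f) (hDn.map _ hfs) with h | h
    · exfalso
      rw [Subgroup.map_eq_bot_iff] at h
      have h1 : Group.IsSolvable D := Group.isSolvable_of_isSolvable_injective (Subgroup.inclusion_injective h)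
      have h2 : Group.IsSolvable X := Group.isSolvable_of_ker_le_range D.subtype (QuotientGroup.mk' D) (by
        rw [QuotientGroup.ker_mk', Subgroup.range_subtype])
      exact hna (Group.isSolvable_of_surjective hfs)
    · exact h
  let g : D →* Matrix.ProjectiveSpecialLinearGroup (Fin 2) F := f.comp D.subtype
  have hgk : ∀ x : D, x ∈ g.ker ↔ (x : X) ∈ f.ker := by
    intro x
    rw [MonoidHom.mem_ker, MonoidHom.mem_ker]
    rfl
  have hgs : Function.Surjective g := by
    intro y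
    have h1 : y ∈ D.map f := by rw [hDR]; trivial
    obtain ⟨d, hd, hdy⟩ := h1
    exact ⟨⟨d, hd⟩, hdy⟩
  have hks' : Group.IsSolvable g.ker := by
    let j : g.ker →* f.ker :=
      { toFun := fun x => ⟨(x : D), (hgk x).1 x.2⟩
        map_one' := rfl
        map_mul' := fun _ _ => rfl }
    exact Group.isSolvable_of_isSolvable_injective (f := j) (by
      intro x y hxy
      have h1 : ((j x : f.ker) : X) = (j y : f.ker) := congrArg Subtype.val hxy
      exact Subtype.ext (Subtype.ext h1))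
  by_cases hV0 : g.ker = ⊥
  · left
    have hinf : D ⊓ f.ker = ⊥ := by
      rw [eq_bot_iff]
      rintro x ⟨hx, hxR⟩
      have h1 : (⟨x, hx⟩ : D) ∈ g.ker := (hgk _).2 hxR
      rw [hV0, Subgroup.mem_bot] at h1
      exact congrArg Subtype.val h1
    have hcomm : ∀ a ∈ D, ∀ b ∈ f.ker, a * b = b * a := by
      intro a ha b hb
      have h1 : a * b * a⁻¹ * b⁻¹ ∈ D ⊓ f.ker := by
        refine Subgroup.mem_inf.2 ⟨?_, f.ker.mul_mem ((inferInstance : f.ker.Normal).conj_mem b hb a) (f.ker.inv_mem hb)⟩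
        have : a * b * a⁻¹ * b⁻¹ = a * (b * a⁻¹ * b⁻¹) := by group
        rw [this]
        exact D.mul_mem ha (hDn.conj_mem _ (D.inv_mem ha) b)
      rw [hinf, Subgroup.mem_bot] at h1
      have h2 : a * b = (a * b * a⁻¹ * b⁻¹) * (b * a) := by group
      rw [h2, h1, one_mul]
    have hall : ∀ x : X, ∃ a ∈ D, ∃ b ∈ f.ker, a * b = x := by
      intro x
      have h1 : f x ∈ D.map f := by rw [hDR]; trivial
      obtain ⟨d, hd, hdg⟩ := h1
      refine ⟨d, hd, d⁻¹ * x, ?_, by group⟩
      rw [MonoidHom.mem_ker, map_mul, map_inv, hdg, inv_mul_cancel]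
    exact ⟨D, hDn, hcomm, hinf, hall, ⟨MulEquiv.ofBijective g ⟨(MonoidHom.ker_eq_bot_iff g).1 hV0, hgs⟩⟩⟩
  · right
    obtain ⟨N0, hN0, hle, hVb, hVc, hmin⟩ := exists_chief g.ker hks' hV0
    have hVn : (g.ker.map (QuotientGroup.mk' N0)).Normal :=
      Subgroup.Normal.map inferInstance _ (QuotientGroup.mk'_surjective N0)
    have e2 : ((D ⧸ N0) ⧸ (g.ker.map (QuotientGroup.mk' N0))) ≃* Matrix.ProjectiveSpecialLinearGroup (Fin 2) F :=
      (QuotientGroup.quotientQuotientEquivQuotient N0 g.ker hle).trans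
        (QuotientGroup.quotientKerEquivOfSurjective g hgs)
    have up : ∀ {d m : ℕ}, d ∈ charDegrees (D ⧸ N0) → m ∣ d → ∃ d' ∈ charDegrees X, m ∣ d' := by
      intro d m hd hm
      obtain ⟨d', hd', hdd⟩ := overN D (quot N0 hd)
      exact ⟨d', hd', hm.trans hdd⟩
    by_cases hcen : g.ker.map (QuotientGroup.mk' N0) ≤ Subgroup.center (D ⧸ N0)
    · exfalso
      apply hVb
      refine no_central ?_ _ hcen hev h4 e2
      have h1 : (commutator D).map (QuotientGroup.mk' N0) = commutator (D ⧸ N0) := by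
        rw [commutator_def, commutator_def, Subgroup.map_commutator,
          Subgroup.map_top_of_surjective _ (QuotientGroup.mk'_surjective N0)]
      rw [← h1, perfect_of hperf, Subgroup.map_top_of_surjective _ (QuotientGroup.mk'_surjective N0)]
    · rcases Cfsg.Agent.H191.Cross.crossF (g.ker.map (QuotientGroup.mk' N0)) hVc hmin hcen F hev h4 e2 with
        ⟨d, hd, hdd⟩ | ⟨x, hx, hxd, d, hd, hdd⟩
      · exact Or.inl (up hd hdd)
      · exact Or.inr ⟨x, hx, hxd, up hd hdd⟩

/-- degrees of a direct product `PSL(2,q) × B`, `q` even: if `2 p` divides one then `2` or `p` divides a degree of `B` -/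
theorem prod_two {A B : Type u} [Group A] [Finite A] [Group B] [Finite B] {F : Type} [Field F] [Fintype F]
    (e : A ≃* Matrix.ProjectiveSpecialLinearGroup (Fin 2) F) (hev : Even (Fintype.card F)) (h4 : 4 ≤ Fintype.card F)
    {p : ℕ} (hp : p.Prime) (hp2 : p ≠ 2) (h : H33.IM (2 * p) (A × B)) : H33.IM 2 B ∨ H33.IM p B := by
  obtain ⟨χ, hχ⟩ := h
  obtain ⟨φ, ψ, hφ, hψ, he⟩ := (S0188.result (χ : A × B → ℂ)).1 χ.2
  obtain ⟨n, -, hn⟩ := isIrr_apply_one hφ
  obtain ⟨k, -, hk⟩ := isIrr_apply_one hψ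
  have h1 : (χ : A × B → ℂ) 1 = (n * k : ℕ) := by
    rw [he]
    change φ 1 * ψ 1 = _
    rw [hn, hk, Nat.cast_mul]
  rw [H670.PSing.charDegree_eq_of h1] at hχ
  by_cases h2 : 2 ∣ k
  · exact Or.inl (IM.of_apply_one hψ hk h2)
  by_cases h3 : p ∣ k
  · exact Or.inr (IM.of_apply_one hψ hk h3)
  exfalso
  have h5 : 2 ∣ n := ((Nat.prime_two.dvd_mul).1 ((Dvd.intro _ rfl).trans hχ)).resolve_right h2
  have h6 : p ∣ n := ((hp.dvd_mul).1 ((Dvd.intro_left _ rfl).trans hχ)).resolve_right h3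
  have h7 : H33.IM (2 * p) A := IM.of_apply_one hφ hn
    (Nat.Coprime.mul_dvd_of_dvd_of_dvd ((Nat.coprime_primes Nat.prime_two hp).2 hp2.symm) h5 h6)
  have h8 : H33.IM (2 * p) (Matrix.ProjectiveSpecialLinearGroup (Fin 2) F) := (IM.congr e).1 h7
  have hchar : CharP F 2 := by
    have h6 : ringChar F = 2 := FiniteField.even_card_iff_char_two.2 (Nat.even_iff.1 hev)
    rw [← h6]
    exact ringChar.charP F
  obtain ⟨-, hadj⟩ := S4812.result F (Fintype.card F) rfl h4 (Or.inl ⟨MulEquiv.refl _⟩)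
  obtain ⟨-, -, -, h9⟩ := (hadj 2 p).1 (Cfsg.Agent.H988.DG.adj_iff.2 ⟨hp2.symm, Nat.prime_two, hp, h8⟩)
  obtain ⟨k, hk⟩ := hev
  rcases h9 with h9 | h9
  · have := h9.1
    omega
  · have := h9.1
    omega

/-- `q ≥ 16` a power of two: `q ^ 2 - 1` has at least three prime divisors -/
theorem three_le {q n : ℕ} (hn : q = 2 ^ n) (h16 : 16 ≤ q) :
    3 ≤ (q - 1).primeFactors.card + (q + 1).primeFactors.card := by
  have hA : 1 ≤ (q - 1).primeFactors.card := Finset.card_pos.2 (Nat.nonempty_primeFactors.2 (by omega))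
  have hB : 1 ≤ (q + 1).primeFactors.card := Finset.card_pos.2 (Nat.nonempty_primeFactors.2 (by omega))
  have h2 : ∀ m : ℕ, m ≠ 0 → 3 ∣ m → (∀ k, m ≠ 3 ^ k) → 2 ≤ m.primeFactors.card := by
    intro m hm h3 hk
    obtain ⟨s, hs, hs3, hsd⟩ := Cfsg.Agent.H714.Tri.exists_prime_ne hm hk
    have h4 : ({3, s} : Finset ℕ) ⊆ m.primeFactors := by
      intro x hx
      simp only [Finset.mem_insert, Finset.mem_singleton] at hx
      rcases hx with rfl | rfl
      · exact Nat.mem_primeFactors.2 ⟨Nat.prime_three, h3, hm⟩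
      · exact Nat.mem_primeFactors.2 ⟨hs, hsd, hm⟩
    have h5 := Finset.card_le_card h4
    rwa [Finset.card_pair hs3.symm] at h5
  have h3S : 3 ∣ q - 1 ∨ 3 ∣ q + 1 := by
    have h5 : ¬ 3 ∣ q := by
      rw [hn]
      intro h
      have := (Nat.prime_dvd_prime_iff_eq Nat.prime_three Nat.prime_two).1
        (Nat.prime_three.dvd_of_dvd_pow h)
      omega
    omega
  rcases h3S with h | h
  · have := h2 (q - 1) (by omega) h (by
      intro k hk
      have h5 : 2 ^ n = 3 ^ k + 1 := by rw [← hn, ← hk]; omega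
      have h6 := H967.EppoArith.two_pow_eq h5
      have h7 : (2 : ℕ) ^ n ≤ 2 ^ 2 := Nat.pow_le_pow_right (by norm_num) h6
      rw [← hn] at h7
      omega)
    omega
  · have := h2 (q + 1) (by omega) h (by
      intro k hk
      have h5 : 2 ^ n + 1 = 3 ^ k := by rw [← hn, ← hk]
      have h6 := H967.EppoArith.two_pow_add_one_eq h5
      have h7 : (2 : ℕ) ^ n ≤ 2 ^ 3 := Nat.pow_le_pow_right (by norm_num) h6
      rw [← hn] at h7
      omega)
    omega

/-- `q ≥ 16` even -/
theorem l2_even {G : Type u} [Group G] [Finite G] (hEven : FactEven.{u}) (T : Fr G) {V : Finset ℕ} (c : Reg3 G V)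
    (hev : Even (Fintype.card T.F)) (h16 : 16 ≤ Fintype.card T.F) : V.card ≤ 5 := by
  classical
  have hchar : CharP T.F 2 := by
    have h6 : ringChar T.F = 2 := FiniteField.even_card_iff_char_two.2 (Nat.even_iff.1 hev)
    rw [← h6]
    exact ringChar.charP T.F
  obtain ⟨n, -, hn⟩ := FiniteField.card T.F 2
  obtain ⟨-, hadj⟩ := S4812.result T.F (Fintype.card T.F) rfl T.hF (Or.inl ⟨MulEquiv.refl _⟩)
  have hcard := SmallSimple.PSLTwoPart.card_psl_two_even (F := T.F) hev
  have hsq : Fintype.card T.F ^ 2 - 1 = (Fintype.card T.F + 1) * (Fintype.card T.F - 1) := by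
    have := Nat.sq_sub_sq (Fintype.card T.F) 1
    rwa [one_pow] at this
  have h3 := three_le hn h16
  have hout : ∀ t : ℕ, t.Prime → t ∣ T.Kb.index → H33.IM (t * (Fintype.card T.F - 1)) G ∧
      H33.IM (t * (Fintype.card T.F + 1)) G := by
    intro t ht htd
    obtain ⟨-, h1⟩ := H714.Tri.out T.Kb T.e T.hF T.cen ht htd
    obtain ⟨⟨d, ⟨χ, rfl⟩, hd⟩, h2⟩ := h1 hev
    obtain ⟨d', ⟨χ', rfl⟩, hd'⟩ := h2 (by omega)
    exact ⟨IM.of_quotient T.R ⟨χ, hd⟩, IM.of_quotient T.R ⟨χ', hd'⟩⟩
  have hupL : ∀ {a b : ℕ}, (degreeGraph T.L).Adj a b → (degreeGraph G).Adj a b := by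
    intro a b h
    obtain ⟨h1, h2, h4, h5⟩ := Cfsg.Agent.H988.DG.adj_iff.1 h
    exact Cfsg.Agent.H988.DG.adj_iff.2 ⟨h1, h2, h4, T.im_of_L h5⟩
  have hLm : ∀ {x : ℕ}, x.Prime → x ∣ Nat.card T.L → x ∈ V := fun hx h =>
    (c.hV _).2 (mem_dp_iff.2 ⟨hx, T.im_of_L (H664.R1.PSLTwo.im_psl T.hF hx h)⟩)
  have h2L : 2 ∣ Nat.card T.L := two_dvd_card_psl T.hF
  set q := Fintype.card T.F with hqd
  set A := (q - 1).primeFactors with hAd
  set B := (q + 1).primeFactors with hBd
  have hAm : ∀ x, x ∈ A ↔ x.Prime ∧ x ∣ q - 1 := by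
    intro x
    rw [hAd, Nat.mem_primeFactors]
    exact ⟨fun h => ⟨h.1, h.2.1⟩, fun h => ⟨h.1, h.2, by omega⟩⟩
  have hBm : ∀ x, x ∈ B ↔ x.Prime ∧ x ∣ q + 1 := by
    intro x
    rw [hBd, Nat.mem_primeFactors]
    exact ⟨fun h => ⟨h.1, h.2.1⟩, fun h => ⟨h.1, h.2, by omega⟩⟩
  have h2A : 2 ∉ A := by
    rw [hAm]
    rintro ⟨-, h⟩
    obtain ⟨k, hk⟩ := hev
    omega
  have h2B : 2 ∉ B := by
    rw [hBm]
    rintro ⟨-, h⟩
    obtain ⟨k, hk⟩ := hev
    omega
  have hAB : Disjoint A B := by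
    rw [Finset.disjoint_left]
    intro x hx hx'
    obtain ⟨hxp, h5⟩ := (hAm x).1 hx
    obtain ⟨-, h6⟩ := (hBm x).1 hx'
    have h7 := Nat.dvd_sub h6 h5
    rw [show q + 1 - (q - 1) = 2 by omega, Nat.prime_dvd_prime_iff_eq hxp Nat.prime_two] at h7
    exact h2A (h7 ▸ hx)
  have hABd : ∀ a ∈ A, ∀ b ∈ B, a ≠ b := fun a ha b hb h => Finset.disjoint_left.1 hAB ha (h ▸ hb)
  have hA : A.Nonempty := Nat.nonempty_primeFactors.2 (by omega)
  have hB : B.Nonempty := Nat.nonempty_primeFactors.2 (by omega)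
  have clA : ∀ a ∈ A, ∀ b ∈ A, a ≠ b → (degreeGraph G).Adj a b := by
    intro a ha b hb hab
    obtain ⟨a1, a2⟩ := (hAm a).1 ha
    obtain ⟨b1, b2⟩ := (hAm b).1 hb
    exact hupL ((hadj a b).2 ⟨hab, a1, b1, Or.inr ⟨a2, b2⟩⟩)
  have clB : ∀ a ∈ B, ∀ b ∈ B, a ≠ b → (degreeGraph G).Adj a b := by
    intro a ha b hb hab
    obtain ⟨a1, a2⟩ := (hBm a).1 ha
    obtain ⟨b1, b2⟩ := (hBm b).1 hb
    exact hupL ((hadj a b).2 ⟨hab, a1, b1, Or.inl ⟨a2, b2⟩⟩)
  -- primes of `|L|`
  have hL : ∀ x : ℕ, x.Prime → x ≠ 2 → x ∉ A → x ∉ B → ¬ x ∣ Nat.card T.L := by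
    intro x hx hx2 hxA hxB h
    rw [hcard, hsq] at h
    rcases hx.dvd_mul.1 h with h | h
    · rw [hn] at h
      exact hx2 ((Nat.prime_dvd_prime_iff_eq hx Nat.prime_two).1 (hx.dvd_of_dvd_pow h))
    · rcases hx.dvd_mul.1 h with h | h
      · exact hxB ((hBm x).2 ⟨hx, h⟩)
      · exact hxA ((hAm x).2 ⟨hx, h⟩)
  -- from a degree divisible by `t (q - 1)` and one divisible by `t (q + 1)`
  have hboth : ∀ t : ℕ, t.Prime → H33.IM (t * (q - 1)) G → H33.IM (t * (q + 1)) G →
      (∀ a ∈ A, a ≠ t → (degreeGraph G).Adj t a) ∧ ∀ b ∈ B, b ≠ t → (degreeGraph G).Adj t b := by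
    intro t ht h1 h2
    constructor
    · intro a ha hat
      obtain ⟨a1, a2⟩ := (hAm a).1 ha
      exact im_adj hat.symm ht a1 h1 (Dvd.intro _ rfl) (a2.mul_left _)
    · intro b hb hbt
      obtain ⟨b1, b2⟩ := (hBm b).1 hb
      exact im_adj hbt.symm ht b1 h2 (Dvd.intro _ rfl) (b2.mul_left _)
  have hks : Group.IsSolvable T.f.ker := by
    have := T.sol
    exact Group.isSolvable_of_surjective (f := T.kerEquiv.symm.toMonoidHom) T.kerEquiv.symm.surjective
  rcases resid T.f T.f_surj hks hev (by omega) with ⟨D, hDn, hcomm, hinf, hall, ⟨eD⟩⟩ | hcross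
  · -- a direct product
    let sp : ℕ → Prop := fun t => t.Prime ∧ (H33.IM t T.R ∨ t ∣ T.Kb.index)
    refine c.cub.evenB (hLm Nat.prime_two h2L) h2A h2B hAB h3 clA clB sp ?_ ?_ ?_
    · rintro t - ⟨ht, h⟩ x hx hxt
      obtain ⟨h5, h6⟩ : (∀ a ∈ A, a ≠ t → (degreeGraph G).Adj t a) ∧ ∀ b ∈ B, b ≠ t → (degreeGraph G).Adj t b := by
        rcases h with h | h
        · have hk : H33.IM t T.f.ker := h.of_equiv T.kerEquiv
          have imD : ∀ {z m : ℕ}, H33.IM z (Matrix.ProjectiveSpecialLinearGroup (Fin 2) T.F) → H33.IM (z * t) G := by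
            intro z _ hz
            exact T.im_of_K (im_of_two D T.f.ker hcomm hinf ((IM.congr eD).2 hz) hk)
          constructor
          · intro a ha hat
            obtain ⟨a1, a2⟩ := (hAm a).1 ha
            have haL : a ∣ Nat.card T.L := by
              rw [hcard, hsq]
              exact (a2.mul_left _).mul_left _
            exact im_adj hat.symm ht a1 (imD (m := 0) (H664.R1.PSLTwo.im_psl T.hF a1 haL)) (Dvd.intro_left _ rfl)
              (Dvd.intro _ rfl)
          · intro b hb hbt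
            obtain ⟨b1, b2⟩ := (hBm b).1 hb
            have hbL : b ∣ Nat.card T.L := by
              rw [hcard, hsq]
              exact (b2.mul_right _).mul_left _
            exact im_adj hbt.symm ht b1 (imD (m := 0) (H664.R1.PSLTwo.im_psl T.hF b1 hbL)) (Dvd.intro_left _ rfl)
              (Dvd.intro _ rfl)
        · obtain ⟨h5, h6⟩ := hout t ht h
          exact hboth t ht h5 h6
      rcases Finset.mem_union.1 hx with hx | hx
      · exact h5 x hx hxt
      · exact h6 x hx hxt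
    · intro x hx hx2 hxA hxB
      have hxd := (c.hV x).1 hx
      rcases memR T hxd (hL x hxd.1 hx2 hxA hxB) with h | h
      · exact ⟨hxd.1, Or.inr h⟩
      · exact ⟨hxd.1, Or.inl h⟩
    · intro p h2p
      obtain ⟨hp2, -, hp, χ, hχ⟩ := Cfsg.Agent.H988.DG.adj_iff.1 h2p
      have := Fintype.ofFinite G
      have := Fintype.ofFinite T.K
      by_cases i2 : 2 ∣ T.Kb.index
      · exact Or.inl ⟨Nat.prime_two, Or.inr i2⟩
      by_cases ip : p ∣ T.Kb.index
      · exact Or.inr ⟨hp, Or.inr ip⟩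
      have hidx : T.Kb.index = T.K.index := by
        have h1 : T.Kb.comap (QuotientGroup.mk' T.R) = T.K := by
          rw [Subgroup.comap_map_eq, QuotientGroup.ker_mk', sup_eq_left.2 T.le]
        rw [← Subgroup.index_comap_of_surjective _ (QuotientGroup.mk'_surjective T.R), h1]
      rw [hidx] at i2 ip
      obtain ⟨m, hm, hm'⟩ := isIrr_apply_one χ.2
      rw [H670.PSing.charDegree_eq_of hm'] at hχ
      obtain ⟨ψ, d, hψ, hψ1, -, hdn, hdi⟩ := exists_constituent T.K χ.2 hm'
      have h5 : m = d * (m / d) := (Nat.mul_div_cancel' hdn).symm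
      have hcop : Nat.Coprime (2 * p) (m / d) := by
        refine Nat.Coprime.mul_left ?_ ?_
        · exact (Nat.Prime.coprime_iff_not_dvd Nat.prime_two).2 fun h => i2 (h.trans hdi)
        · exact (Nat.Prime.coprime_iff_not_dvd hp).2 fun h => ip (h.trans hdi)
      have h6 : 2 * p ∣ d := by
        rw [h5] at hχ
        exact hcop.dvd_of_dvd_mul_right hχ
      have h7 : H33.IM (2 * p) T.K := IM.of_apply_one hψ hψ1 h6
      rcases prod_two eD hev T.hF hp hp2.symm ((IM.congr (_root_.Cfsg.Agent.H988.DG.prodEquiv D T.f.ker hcomm hinf hall)).2 h7) with h | h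
      · exact Or.inl ⟨Nat.prime_two, Or.inl ((IM.congr T.kerEquiv).1 h)⟩
      · exact Or.inr ⟨hp, Or.inl ((IM.congr T.kerEquiv).1 h)⟩
  · -- not a direct product
    refine c.cub.evenA h2A h2B hAB hA hB h3 clA clB ?_ ?_
    · intro x hx hx2 hxA hxB
      have hxd := (c.hV x).1 hx
      have hxp := hxd.1
      have hxL := hL x hxp hx2 hxA hxB
      have xA : ∀ a ∈ A, a ≠ x := fun a ha h => hxA (h ▸ ha)
      have xB : ∀ b ∈ B, b ≠ x := fun b hb h => hxB (h ▸ hb)
      rcases memR T hxd hxL with h | h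
      · left
        obtain ⟨h5, h6⟩ := hout x hxp h
        obtain ⟨h7, h8⟩ := hboth x hxp h5 h6
        exact ⟨fun a ha => h7 a ha (xA a ha), fun b hb => h8 b hb (xB b hb)⟩
      · have := Fintype.ofFinite T.K
        have := Fintype.ofFinite T.f.ker
        obtain ⟨θ, hθ⟩ : H33.IM x T.f.ker := h.of_equiv T.kerEquiv
        rcases hEven T.K T.f.ker T.F hev h16 (QuotientGroup.quotientKerEquivOfSurjective T.f T.f_surj) θ with
          ⟨χ, hχ⟩ | ⟨χ, -, d, hd, hd'⟩
        · -- the character extends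
          left
          obtain ⟨dθ, hdθ, hdθ'⟩ := isIrr_apply_one θ.2
          have hcθ := H670.PSing.charDegree_eq_of hdθ'
          have key : ∀ m : ℕ, H33.IM m T.L → H33.IM (x * m) G := by
            intro m hm
            obtain ⟨β, hβ⟩ := hm
            have hb : charDegree (β : T.L → ℂ) ∈ charDegrees (T.K ⧸ T.f.ker) :=
              charDegrees_comp (QuotientGroup.quotientKerEquivOfSurjective T.f T.f_surj : T.K ⧸ T.f.ker →* _)
                (QuotientGroup.quotientKerEquivOfSurjective T.f T.f_surj).surjective ⟨β, rfl⟩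
            have hχM : IsIrrCharacter T.f.ker (fun k : T.f.ker => (χ : T.K → ℂ) k) := by
              have h3 : (fun k : T.f.ker => (χ : T.K → ℂ) k) = (θ : T.f.ker → ℂ) := funext hχ
              rw [h3]
              exact θ.2
            have hχ1 : (χ : T.K → ℂ) 1 = dθ := by
              have := hχ 1
              rw [Subgroup.coe_one] at this
              rw [this, hdθ']
            obtain ⟨η, hη⟩ := gallagher (QuotientGroup.mk' T.f.ker) (QuotientGroup.mk'_surjective T.f.ker) T.f.ker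
              (fun k hk => (QuotientGroup.eq_one_iff k).2 hk) χ.2 hχM hχ1 hb
            refine T.im_of_K ⟨η, ?_⟩
            rw [hη, mul_comm]
            rw [hcθ] at hθ
            exact Nat.mul_dvd_mul hβ hθ
          constructor
          · intro a ha
            obtain ⟨a1, a2⟩ := (hAm a).1 ha
            have haL : a ∣ Nat.card T.L := by
              rw [hcard, hsq]
              exact (a2.mul_left _).mul_left _
            exact im_adj (xA a ha).symm hxp a1 (key a (H664.R1.PSLTwo.im_psl T.hF a1 haL)) (Dvd.intro _ rfl)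
              (Dvd.intro_left _ rfl)
          · intro b hb
            obtain ⟨b1, b2⟩ := (hBm b).1 hb
            have hbL : b ∣ Nat.card T.L := by
              rw [hcard, hsq]
              exact (b2.mul_right _).mul_left _
            exact im_adj (xB b hb).symm hxp b1 (key b (H664.R1.PSLTwo.im_psl T.hF b1 hbL)) (Dvd.intro _ rfl)
              (Dvd.intro_left _ rfl)
        · have hK : H33.IM (d * x) G := T.im_of_K ⟨χ, by rw [hd]; exact Nat.mul_dvd_mul_left d hθ⟩
          have xd : ∀ z : ℕ, z.Prime → z ≠ x → z ∣ d → (degreeGraph G).Adj x z := fun z hz hzx h =>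
            im_adj hzx.symm hxp hz hK (Dvd.intro_left _ rfl) (h.mul_right _)
          have dd : ∀ y z : ℕ, y.Prime → z.Prime → y ≠ z → y ∣ d → z ∣ d → (degreeGraph G).Adj y z :=
            fun y z hy hz hyz h h' => im_adj hyz hy hz hK (h.mul_right _) (h'.mul_right _)
          rcases hd' with h5 | h5 | h5 | ⟨a, b, ha, hb, had, hbd, h5⟩
          · left
            rw [hsq] at h5
            constructor
            · intro a ha
              obtain ⟨a1, a2⟩ := (hAm a).1 ha
              exact xd a a1 (xA a ha) ((a2.mul_left _).trans h5)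
            · intro b hb
              obtain ⟨b1, b2⟩ := (hBm b).1 hb
              exact xd b b1 (xB b hb) ((b2.mul_right _).trans h5)
          · right; left
            have h6 : 2 ∣ d := (Dvd.intro _ rfl).trans h5
            refine ⟨xd 2 Nat.prime_two hx2.symm h6, fun b hb => ?_⟩
            obtain ⟨b1, b2⟩ := (hBm b).1 hb
            have h7 : b ∣ d := (b2.mul_left _).trans h5
            exact ⟨xd b b1 (xB b hb) h7, dd 2 b Nat.prime_two b1 (by rintro rfl; exact h2B hb) h6 h7⟩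
          · right; right; left
            have h6 : 2 ∣ d := (Dvd.intro _ rfl).trans h5
            refine ⟨xd 2 Nat.prime_two hx2.symm h6, fun b hb => ?_⟩
            obtain ⟨b1, b2⟩ := (hAm b).1 hb
            have h7 : b ∣ d := (b2.mul_left _).trans h5
            exact ⟨xd b b1 (xA b hb) h7, dd 2 b Nat.prime_two b1 (by rintro rfl; exact h2A hb) h6 h7⟩
          · right; right; right
            have haA : a ∈ A := (hAm a).2 ⟨ha, had⟩
            have hbB : b ∈ B := (hBm b).2 ⟨hb, hbd⟩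
            have h6 : 2 ∣ d := ((Dvd.intro _ rfl).trans (Dvd.intro _ rfl)).trans h5
            have h7 : a ∣ d := ((Dvd.intro_left _ rfl).trans (Dvd.intro _ rfl)).trans h5
            have h8 : b ∣ d := (Dvd.intro_left _ rfl).trans h5
            exact ⟨a, haA, b, hbB, xd 2 Nat.prime_two hx2.symm h6, xd a ha (xA a haA) h7, xd b hb (xB b hbB) h8,
              dd 2 a Nat.prime_two ha (by rintro rfl; exact h2A haA) h6 h7,
              dd 2 b Nat.prime_two hb (by rintro rfl; exact h2B hbB) h6 h8, dd a b ha hb (hABd a haA b hbB) h7 h8⟩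
    · rcases hcross with ⟨d, ⟨χ, rfl⟩, hd⟩ | ⟨x, hx, hxd, d, ⟨χ, rfl⟩, hd⟩
      · left
        have h5 : H33.IM ((q + 1) * (q - 1)) G := T.im_of_K ⟨χ, by rwa [hsq] at hd⟩
        intro a ha b hb
        obtain ⟨a1, a2⟩ := (hAm a).1 ha
        obtain ⟨b1, b2⟩ := (hBm b).1 hb
        exact im_adj (hABd a ha b hb) a1 b1 h5 (a2.mul_left _) (b2.mul_right _)
      · right
        have h5 : H33.IM (2 * x * (q + 1)) G := T.im_of_K ⟨χ, hd⟩
        have hxA : x ∈ A := (hAm x).2 ⟨hx, hxd⟩
        have e2 : 2 ∣ 2 * x * (q + 1) := (Dvd.intro _ rfl).trans (Dvd.intro _ rfl)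
        have ex : x ∣ 2 * x * (q + 1) := (Dvd.intro_left _ rfl).trans (Dvd.intro _ rfl)
        refine ⟨x, hxA, im_adj (by rintro rfl; exact h2A hxA) Nat.prime_two hx h5 e2 ex, fun b hb => ?_⟩
        obtain ⟨b1, b2⟩ := (hBm b).1 hb
        have eb : b ∣ 2 * x * (q + 1) := b2.mul_left _
        exact ⟨im_adj (by rintro rfl; exact h2B hb) Nat.prime_two b1 h5 e2 eb,
          im_adj (hABd x hxA b hb) hx b1 h5 ex eb⟩

end Cfsg.Agent.H670.Reg
end

-- part: H670/Reg/L2
section
/-!
# 3-regular degree graphs (S4919): the non-solvable case from the facts on simple groups (helper670)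
-/

set_option autoImplicit false

namespace Cfsg.Agent.H670.Reg

open Cfsg Cfsg.Agent.H988.DG

universe u

theorem l2 (hOdd : FactOdd.{u}) (hEven : FactEven.{u}) (G : Type u) [Group G] [Finite G] (T : Fr G) (V : Finset ℕ)
    (c : Reg3 G V) : V.card ≤ 5 := by
  have h4 := T.hF
  rcases Nat.even_or_odd (Fintype.card T.F) with hev | hodd
  · have hchar : CharP T.F 2 := by
      have h6 : ringChar T.F = 2 := FiniteField.even_card_iff_char_two.2 (Nat.even_iff.1 hev)
      rw [← h6]
      exact ringChar.charP T.F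
    obtain ⟨n, -, hn⟩ := FiniteField.card T.F 2
    by_cases h16 : 16 ≤ Fintype.card T.F
    · exact l2_even hEven T c hev h16
    · refine l2_small T c ?_
      have hn4 : (n : ℕ) < 4 := by
        by_contra h
        push Not at h
        have h5 := Nat.pow_le_pow_right (n := 2) (by norm_num) h
        rw [← hn] at h5
        omega
      have h1 : 1 ≤ (n : ℕ) := n.2
      interval_cases (n : ℕ) <;> omega
  · by_cases h7 : 7 ≤ Fintype.card T.F
    · exact l2_odd hOdd T c hodd h7
    · refine l2_small T c ?_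
      obtain ⟨k, hk⟩ := hodd
      omega

end Cfsg.Agent.H670.Reg
end

-- part: H248/Reg/Free
section
/-!
# A linear character of an abelian normal subgroup with trivial stabiliser (S4919, EVEN, helper248)

`exists_free` : `V ⊴ Q` abelian, `Z ≤ V` central, elements outside `V` act without fixed points on `V / Z`,
`|Q : V| ≤ |V : Z|`: every linear character of `Z` extends to a linear character of `V` moved by every element outside `V`.
`exists_irr_index` : hence there is an irreducible character of `Q` of degree `|Q : V|` over it.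
-/

set_option autoImplicit false

namespace Cfsg.Agent.H248.Reg

open Cfsg Cfsg.Agent.Characters.Core Cfsg.Agent.H681.DegBasic Cfsg.Agent.H525.L2 Cfsg.Agent.H595.Count
  Cfsg.Agent.H595.Central Cfsg.Agent.H595.Triple

universe u v

theorem exists_free {Q : Type u} [Group Q] [Finite Q] (V : Subgroup Q) [hVn : V.Normal] (Z : Subgroup Q)
    (hZ : Z ≤ Subgroup.center Q) (hZV : Z ≤ V) (hV : ∀ x ∈ V, ∀ y ∈ V, x * y = y * x)
    (hfree : ∀ a, a ∉ V → ∀ v ∈ V, a * v * a⁻¹ * v⁻¹ ∈ Z → v ∈ Z)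
    (hcard : V.index ≤ Z.relIndex V) (l : Z →* ℂˣ) :
    ∃ lam : V →* ℂˣ, (∀ z : Z, lam ⟨z, hZV z.2⟩ = l z) ∧
      ∀ a : Q, (∀ v : V, lam ⟨a * v * a⁻¹, hVn.conj_mem v v.2 a⟩ = lam v) → a ∈ V := by
  classical
  let _ : CommGroup V := { (inferInstance : Group V) with
    mul_comm := fun a b => Subtype.ext (hV a a.2 b b.2) }
  let W : Subgroup V := Z.subgroupOf V
  let eW : W ≃* Z := Subgroup.subgroupOfEquivOfLe hZV
  obtain ⟨lam0, h0⟩ := MonoidHom.domRestrict_surjective (M := ℂ) W (l.comp eW.toMonoidHom)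
  have h0' : ∀ z : Z, lam0 ⟨z, hZV z.2⟩ = l z := by
    intro z
    have h1 := DFunLike.congr_fun h0 (eW.symm z)
    have h2 : l.comp eW.toMonoidHom (eW.symm z) = l z := by
      show l (eW (eW.symm z)) = l z
      rw [eW.apply_symm_apply]
    rw [h2] at h1
    exact h1
  by_contra hcon
  push Not at hcon
  let K := (MonoidHom.domRestrictHom W ℂˣ).ker
  have hK : Nat.card K = Z.relIndex V := CommGroup.card_domRestrictHom_ker (M := ℂ) W
  have hKW : ∀ (ν : K) (w : V), (w : Q) ∈ Z → (ν : V →* ℂˣ) w = 1 := by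
    intro ν w hw
    exact DFunLike.congr_fun (MonoidHom.mem_ker.1 ν.2) (⟨w, hw⟩ : W)
  have hex : ∀ ν : K, ∃ a : Q, (∀ v : V, (lam0 * ν) ⟨a * v * a⁻¹, hVn.conj_mem v v.2 a⟩ = (lam0 * ν) v) ∧
      a ∉ V := by
    intro ν
    refine hcon (lam0 * ν) fun z => ?_
    rw [MonoidHom.mul_apply, h0', hKW ν _ z.2, mul_one]
  choose a ha haV using hex
  have hinj : Function.Injective fun ν : K => ((a ν : Q) : Q ⧸ V) := by
    intro ν ν' h
    have h1 : (a ν)⁻¹ * a ν' ∈ V := QuotientGroup.eq.1 h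
    obtain ⟨w, hw, hw'⟩ : ∃ w ∈ V, a ν' = a ν * w := ⟨_, h1, by rw [mul_inv_cancel_left]⟩
    -- `a ν` fixes the second character
    have h2 : ∀ v : V, (lam0 * ν') ⟨a ν * v * (a ν)⁻¹, hVn.conj_mem v v.2 (a ν)⟩ = (lam0 * ν') v := by
      intro v
      rw [← ha ν' v]
      congr 1
      apply Subtype.ext
      show a ν * v * (a ν)⁻¹ = a ν' * v * (a ν')⁻¹
      rw [hw']
      have h3 := hV w hw v v.2
      calc a ν * (v : Q) * (a ν)⁻¹ = a ν * (v * w) * w⁻¹ * (a ν)⁻¹ := by group
        _ = a ν * (w * v) * w⁻¹ * (a ν)⁻¹ := by rw [h3]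
        _ = _ := by group
    -- the difference
    let ψ : V →* V := 
      { toFun := fun v => ⟨a ν * v * (a ν)⁻¹ * (v : Q)⁻¹, V.mul_mem (hVn.conj_mem v v.2 (a ν)) (V.inv_mem v.2)⟩
        map_one' := by
          apply Subtype.ext
          show a ν * 1 * (a ν)⁻¹ * 1⁻¹ = 1
          group
        map_mul' := by
          intro v w
          apply Subtype.ext
          show a ν * ((v : Q) * w) * (a ν)⁻¹ * ((v : Q) * w)⁻¹ =
            (a ν * v * (a ν)⁻¹ * (v : Q)⁻¹) * (a ν * w * (a ν)⁻¹ * (w : Q)⁻¹)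
          have h3 := hV _ (V.mul_mem (hVn.conj_mem w w.2 (a ν)) (V.inv_mem w.2)) (v : Q)⁻¹ (V.inv_mem v.2)
          calc a ν * ((v : Q) * w) * (a ν)⁻¹ * ((v : Q) * w)⁻¹
              = (a ν * v * (a ν)⁻¹) * ((a ν * w * (a ν)⁻¹ * (w : Q)⁻¹) * (v : Q)⁻¹) := by group
            _ = (a ν * v * (a ν)⁻¹) * ((v : Q)⁻¹ * (a ν * w * (a ν)⁻¹ * (w : Q)⁻¹)) := by rw [h3]
            _ = _ := by group }
    have hψ : ∀ v : V, ψ v = ⟨a ν * v * (a ν)⁻¹ * (v : Q)⁻¹,
      V.mul_mem (hVn.conj_mem v v.2 (a ν)) (V.inv_mem v.2)⟩ := fun _ => rfl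
    let ψ' : V →* V ⧸ W := (QuotientGroup.mk' W).comp ψ
    have hker : ψ'.ker = W := by
      ext v
      rw [MonoidHom.mem_ker]
      constructor
      · intro hv
        have h3 : ψ v ∈ W := (QuotientGroup.eq_one_iff _).1 hv
        exact hfree _ (haV ν) v v.2 h3
      · intro hv
        refine (QuotientGroup.eq_one_iff _).2 ?_
        have h3 : ψ v = 1 := by
          apply Subtype.ext
          show a ν * v * (a ν)⁻¹ * (v : Q)⁻¹ = 1
          have h4 : a ν * (v : Q) = v * a ν := Subgroup.mem_center_iff.1 (hZ hv) (a ν)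
          rw [h4, mul_inv_cancel_right, mul_inv_cancel]
        rw [h3]
        exact W.one_mem
    have hsurj : Function.Surjective ψ' := by
      have h3 : Nat.card ψ'.range = Nat.card (V ⧸ W) := by
        rw [← Subgroup.index_ker, hker]
        rfl
      exact MonoidHom.range_eq_top.1 (Subgroup.eq_top_of_card_eq _ h3)
    apply Subtype.ext
    ext v
    obtain ⟨w, hw2⟩ := hsurj (v : V ⧸ W)
    have h3 : (ψ w)⁻¹ * v ∈ W := QuotientGroup.eq.1 hw2
    have h4 : ∀ κ : K, (κ : V →* ℂˣ) v = (κ : V →* ℂˣ) (ψ w) := by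
      intro κ
      have h5 := hKW κ ((ψ w)⁻¹ * v) h3
      rw [map_mul, map_inv, inv_mul_eq_one] at h5
      exact h5.symm
    have h5 : ∀ κ : K, (∀ v : V, (lam0 * κ) ⟨a ν * v * (a ν)⁻¹, hVn.conj_mem v v.2 (a ν)⟩ = (lam0 * κ) v) →
        (κ : V →* ℂˣ) (ψ w) = (lam0 (ψ w))⁻¹ := by
      intro κ hκ
      have h6 := hκ w
      have h7 : (⟨a ν * w * (a ν)⁻¹, hVn.conj_mem w w.2 (a ν)⟩ : V) = ψ w * w := by
        apply Subtype.ext
        show a ν * w * (a ν)⁻¹ = a ν * w * (a ν)⁻¹ * (w : Q)⁻¹ * w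
        rw [inv_mul_cancel_right]
      rw [h7, map_mul] at h6
      have h8 : (lam0 * κ) (ψ w) = 1 := mul_eq_right.1 h6
      rw [MonoidHom.mul_apply] at h8
      exact eq_inv_of_mul_eq_one_right h8
    rw [h4 ν, h4 ν', h5 ν (ha ν), h5 ν' h2]
  have h1 : Nat.card (Q ⧸ V) = Nat.card K := by
    apply le_antisymm
    · rw [hK]; exact hcard
    · exact Nat.card_le_card_of_injective _ hinj
  have h2 := (Nat.bijective_iff_injective_and_card _).2 ⟨hinj, h1.symm⟩
  obtain ⟨ν, hν⟩ := h2.2 1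
  exact haV ν ((QuotientGroup.eq_one_iff _).1 hν)

/-- The irreducible character of degree `|Q : V|`. -/
theorem exists_irr_index {Q : Type u} {S : Type v} [Group Q] [Finite Q] [Group S] {π : Q →* S} (l : π.ker →* ℂˣ)
    (hc : π.ker ≤ Subgroup.center Q) (V : Subgroup Q) [hVn : V.Normal]
    (hZV : π.ker ≤ V) (hV : ∀ x ∈ V, ∀ y ∈ V, x * y = y * x)
    (hfree : ∀ a, a ∉ V → ∀ v ∈ V, a * v * a⁻¹ * v⁻¹ ∈ π.ker → v ∈ π.ker)
    (hcard : V.index ≤ π.ker.relIndex V) :
    ∃ γ : IrrCharacter Q, Over π l (γ : Q → ℂ) ∧ charDegree (γ : Q → ℂ) = V.index := by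
  classical
  have := Fintype.ofFinite Q
  have := Fintype.ofFinite V
  obtain ⟨lam, h1, h2⟩ := exists_free V π.ker hc hZV hV hfree hcard l
  obtain ⟨h3, h4, -⟩ := over_ind V (homIrr lam).2 V (fun g => by
    constructor
    · intro hg n
      have h5 : (⟨g * n * g⁻¹, hVn.conj_mem (n : Q) n.2 g⟩ : V) = n := by
        apply Subtype.ext
        show g * n * g⁻¹ = n
        rw [hV g hg n n.2, mul_inv_cancel_right]
      rw [h5]
    · intro h
      apply h2
      intro v
      have h5 := h v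
      rw [homIrr_apply, homIrr_apply] at h5
      exact Units.ext h5) le_rfl (homIrr lam).2 one_ne_zero (fun m => by
      rw [Nat.cast_one, one_mul])
  refine ⟨⟨_, h3⟩, ?_, ?_⟩
  · intro a z
    show indFun V _ (a * z) = indFun V _ a * l z
    rw [indFun_apply, indFun_apply, mul_assoc, Finset.sum_mul]
    congr 1
    refine Finset.sum_congr rfl fun x _ => ?_
    have hz : x⁻¹ * (a * z) * x = (x⁻¹ * a * x) * z := by
      have h5 := Subgroup.mem_center_iff.1 (hc z.2) x
      calc x⁻¹ * (a * z) * x = x⁻¹ * a * (z * x) := by group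
        _ = x⁻¹ * a * (x * z) := by rw [h5]
        _ = _ := by group
    rw [hz]
    by_cases hm : x⁻¹ * a * x ∈ V
    · rw [extendByZero_of_mem V _ hm, extendByZero_of_mem V _ (V.mul_mem hm (hZV z.2))]
      rw [homIrr_apply, homIrr_apply, ← h1 z, ← Units.val_mul, ← map_mul]
      rfl
    · have hm' : x⁻¹ * a * x * z ∉ V := fun h => hm (by
        have := V.mul_mem h (V.inv_mem (hZV z.2))
        rwa [mul_inv_cancel_right] at this)
      rw [extendByZero_of_notMem V _ hm, extendByZero_of_notMem V _ hm', zero_mul]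
  · rw [homIrr_apply, map_one, Units.val_one, mul_one] at h4
    have h5 := (deg_spec h3).1
    rw [h4] at h5
    exact_mod_cast h5.symm

end Cfsg.Agent.H248.Reg
end

-- part: H248/Reg/Borel
section
/-!
# Subgroups of odd index of `PSL(2, q)`, `q` even (S4919, EVEN, helper248)
-/

set_option autoImplicit false

namespace Cfsg.Agent.H248.Reg

open Cfsg Cfsg.Agent.Characters.Core Cfsg.Agent.H681.DegBasic Cfsg.Agent.H525.L2 Cfsg.Agent.H595.Count
  Cfsg.Agent.H595.Central Cfsg.Agent.H595.Triple Matrix Cfsg.Agent.H670.RankOne Cfsg.Agent.H670.SL2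

universe u v

section

variable {F : Type v} [Field F] [Fintype F]

theorem two_eq_zero (heven : Even (Fintype.card F)) : (2 : F) = 0 := by
  have hF : ringChar F = 2 := FiniteField.even_card_iff_char_two.2 (Nat.even_iff.1 heven)
  have hchar : CharP F 2 := ringChar.of_eq hF
  exact CharTwo.two_eq_zero

omit [Fintype F] in
theorem conj_x {b : _root_.Matrix.SpecialLinearGroup (Fin 2) F} (hb : b ∈ (data F).B) :
    ∃ u : Fˣ, (u = 1 → b ∈ (data F).U) ∧ ∀ s, b * x s * b⁻¹ = x ((u : F) ^ 2 * s) := by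
  obtain ⟨r, t, ⟨u, rfl⟩, rfl⟩ := hb
  refine ⟨u, ?_, ?_⟩
  · rintro rfl
    rw [map_one, mul_one]
    exact (data F).mem_U.2 ⟨r, rfl⟩
  · intro s
    rw [data_X]
    calc x r * tor u * x s * (x r * tor u)⁻¹ = x r * (tor u * x s) * (tor u)⁻¹ * (x r)⁻¹ := by group
      _ = x r * x ((u : F) ^ 2 * s) * (x r)⁻¹ := by rw [tor_mul_x]; group
      _ = x ((u : F) ^ 2 * s) * x r * (x r)⁻¹ := by
        rw [show x r * x ((u : F) ^ 2 * s) = x ((u : F) ^ 2 * s) * x r from (data F).X_comm _ _]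
      _ = _ := by rw [mul_inv_cancel_right]

/-- Subgroups of odd index contain the unipotent group and lie in the Borel subgroup, up to conjugation. -/
theorem exists_conj (heven : Even (Fintype.card F))
    (H : Subgroup (_root_.Matrix.SpecialLinearGroup (Fin 2) F)) (hodd : ¬ 2 ∣ H.index) (hne : H ≠ ⊤) :
    ∃ g : _root_.Matrix.SpecialLinearGroup (Fin 2) F, (∀ s, x s ∈ H.comap (MulAut.conj g⁻¹).toMonoidHom) ∧
      H.comap (MulAut.conj g⁻¹).toMonoidHom ≤ (data F).B := by
  classical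
  obtain ⟨p, hchar⟩ := CharP.exists F
  obtain ⟨n, hp, hqn⟩ := FiniteField.card F p
  have hp2 : p = 2 := by
    have h1 : 2 ∣ p ^ (n : ℕ) := by rw [← hqn, ← even_iff_two_dvd]; exact heven
    exact ((Nat.prime_dvd_prime_iff_eq Nat.prime_two hp).1 (Nat.prime_two.dvd_of_dvd_pow h1)).symm
  subst hp2
  have : Fact (Nat.Prime 2) := ⟨hp⟩
  let _ : MulAction (Multiplicative F) (_root_.Matrix.SpecialLinearGroup (Fin 2) F ⧸ H) :=
    MulAction.compHom _ ((data F).xh)
  obtain ⟨gH, hg⟩ := (xh_pgroup hqn).nonempty_fixed_point_of_prime_not_dvd_card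
    (_root_.Matrix.SpecialLinearGroup (Fin 2) F ⧸ H) hodd
  obtain ⟨g, rfl⟩ := QuotientGroup.mk_surjective gH
  have hx : ∀ s, x s ∈ H.comap (MulAut.conj g⁻¹).toMonoidHom := by
    intro s
    show g⁻¹ * x s * g⁻¹⁻¹ ∈ H
    rw [inv_inv]
    have h1 := hg (Multiplicative.ofAdd s)
    have h2 : ((x s * g : _root_.Matrix.SpecialLinearGroup (Fin 2) F) : _root_.Matrix.SpecialLinearGroup (Fin 2) F ⧸ H) = g := h1
    have h3 := QuotientGroup.eq.1 h2.symm
    rwa [← mul_assoc] at h3
  have hidx : (H.comap (MulAut.conj g⁻¹).toMonoidHom).index = H.index :=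
    Subgroup.index_comap_of_surjective H (MulAut.conj g⁻¹).surjective
  refine ⟨g, hx, le_B_of_x _ hx ?_⟩
  intro h
  rw [h, Subgroup.index_top, eq_comm, Subgroup.index_eq_one] at hidx
  exact hne hidx

/-- **The Borel case.** -/
theorem borel_case (heven : Even (Fintype.card F)) {Q : Type u} {S : Type u} [Group Q]
    [Finite Q] [Group S] {π : Q →* S} (hc : π.ker ≤ Subgroup.center Q) {l : π.ker →* ℂˣ}
    (hl : Function.Injective l) (φ : Q →* _root_.Matrix.SpecialLinearGroup (Fin 2) F) (hφ : φ.ker = π.ker)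
    (hx : ∀ s, x s ∈ φ.range) (hB : φ.range ≤ (data F).B) {β : Q → ℂ} (hβ : IsIrrCharacter Q β)
    (ho : Over π l β) {d : ℕ} (hd : β 1 = d) (hpd : ¬ 2 ∣ d) :
    ∃ γ : IrrCharacter Q, Over π l (γ : Q → ℂ) ∧
      charDegree (γ : Q → ℂ) * Fintype.card F = Nat.card φ.range := by
  classical
  have h2 := two_eq_zero heven
  let V : Subgroup Q := (data F).U.comap φ
  have hmV : ∀ a, a ∈ V ↔ ∃ s, φ a = x s := fun a => (data F).mem_U
  have hφ1 : ∀ a, φ a = 1 ↔ a ∈ π.ker := fun a => by rw [← hφ, MonoidHom.mem_ker]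
  have hZV : π.ker ≤ V := by
    intro a ha
    rw [← hφ1] at ha
    exact (hmV a).2 ⟨0, ha.trans (data F).X_zero.symm⟩
  have hVn : V.Normal := by
    constructor
    intro v hv a
    obtain ⟨s, hs⟩ := (hmV v).1 hv
    obtain ⟨u, -, hu⟩ := conj_x (hB ⟨a, rfl⟩)
    exact (hmV _).2 ⟨_, by rw [map_mul, map_mul, map_inv, hs, hu]⟩
  -- squares of elements of `V`
  have hsq : ∀ v ∈ V, v * v ∈ π.ker := by
    intro v hv
    obtain ⟨s, hs⟩ := (hmV v).1 hv
    rw [← hφ1, map_mul, hs]
    have h3 : x s * x s = x (s + s) := ((data F).X_add s s).symm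
    rw [h3, ← two_mul, h2, zero_mul]
    exact (data F).X_zero
  have hV : ∀ a ∈ V, ∀ b ∈ V, a * b = b * a := by
    intro a ha b hb
    obtain ⟨r, hr⟩ := (hmV a).1 ha
    obtain ⟨s, hs⟩ := (hmV b).1 hb
    have hab : a * b * a⁻¹ * b⁻¹ ∈ π.ker := by
      rw [← hφ1, map_mul, map_mul, map_mul, map_inv, map_inv, hr, hs,
        show x r * x s = x s * x r from (data F).X_comm _ _, mul_inv_cancel_right, mul_inv_cancel]
    have h3 := pow_commutator hc hl hβ ho hd a b hab
    have h4 : (a * b * a⁻¹ * b⁻¹) ^ 2 = 1 := by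
      -- `[a, b] ^ 2 = [a ^ 2, b]`
      have h5 := Subgroup.mem_center_iff.1 (hc (hsq a ha)) b
      have h6 := Subgroup.mem_center_iff.1 (hc hab) a
      calc (a * b * a⁻¹ * b⁻¹) ^ 2 = (a * b * a⁻¹ * b⁻¹) * (a * b * a⁻¹ * b⁻¹) := pow_two _
        _ = a⁻¹ * (a * (a * b * a⁻¹ * b⁻¹)) * (a * b * a⁻¹ * b⁻¹) := by group
        _ = a⁻¹ * ((a * b * a⁻¹ * b⁻¹) * a) * (a * b * a⁻¹ * b⁻¹) := by rw [h6]
        _ = a⁻¹ * a * b * a⁻¹ * b⁻¹ * (a * a * b) * a⁻¹ * b⁻¹ := by group
        _ = a⁻¹ * a * b * a⁻¹ * b⁻¹ * (b * (a * a)) * a⁻¹ * b⁻¹ := by rw [h5]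
        _ = 1 := by group
    have h5 : orderOf (a * b * a⁻¹ * b⁻¹) ∣ Nat.gcd 2 d :=
      Nat.dvd_gcd (orderOf_dvd_of_pow_eq_one h4) (orderOf_dvd_of_pow_eq_one h3)
    rw [(Nat.Prime.coprime_iff_not_dvd Nat.prime_two).2 hpd, Nat.dvd_one, orderOf_eq_one_iff] at h5
    rw [mul_inv_eq_one, mul_inv_eq_iff_eq_mul] at h5
    exact h5
  have hfree : ∀ a, a ∉ V → ∀ v ∈ V, a * v * a⁻¹ * v⁻¹ ∈ π.ker → v ∈ π.ker := by
    intro a ha v hv h3
    obtain ⟨s, hs⟩ := (hmV v).1 hv
    obtain ⟨u, hu1, hu⟩ := conj_x (hB ⟨a, rfl⟩)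
    rw [← hφ1, map_mul, map_mul, map_mul, map_inv, map_inv, mul_inv_eq_one, hs, hu] at h3
    have h4 := congrArg e01 h3
    rw [x01, x01] at h4
    have h5 : u ≠ 1 := fun h => ha (hu1 h)
    have h6 : s = 0 := by
      by_contra hs0
      apply h5
      have h7 : (u : F) ^ 2 = 1 := mul_right_cancel₀ hs0 (by rw [h4, one_mul])
      have h8 : ((u : F) - 1) ^ 2 = 0 := by linear_combination h7 + (1 - (u : F)) * h2
      have h9 := pow_eq_zero_iff two_ne_zero |>.1 h8
      exact Units.ext (sub_eq_zero.1 h9)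
    rw [← hφ1, hs, h6]
    exact (data F).X_zero
  -- orders
  have hrel : π.ker.relIndex V = Fintype.card F := by
    have h3 : π.ker.relIndex V = Nat.card (V.map φ) := by
      rw [← hφ, Subgroup.relIndex_ker]
    have h4 : V.map φ = (data F).U := by
      apply le_antisymm
      · exact Subgroup.map_comap_le _ _
      · intro y hy
        obtain ⟨s, rfl⟩ := (data F).mem_U.1 hy
        obtain ⟨a, ha⟩ := hx s
        exact ⟨a, (hmV a).2 ⟨s, ha⟩, ha⟩
    rw [h3, h4, ← Nat.card_congr (data F).equivU, Nat.card_eq_fintype_card]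
  have hidx : V.index * Fintype.card F = Nat.card φ.range := by
    rw [← Subgroup.index_ker, hφ, ← hrel, mul_comm, Subgroup.relIndex_mul_index hZV]
  have hle : V.index ≤ π.ker.relIndex V := by
    rw [hrel]
    have h3 := Subgroup.card_dvd_of_le hB
    rw [(data F).card_B, card_T, ← hidx, mul_comm] at h3
    have h4 := Nat.dvd_of_mul_dvd_mul_left Fintype.card_pos h3
    have h5 : 0 < Fintype.card F - 1 := by
      have := Fintype.one_lt_card (α := F)
      omega
    exact (Nat.le_of_dvd h5 h4).trans (Nat.sub_le _ _)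
  obtain ⟨γ, h3, h4⟩ := exists_irr_index l hc V hZV hV hfree hle
  exact ⟨γ, h3, by rw [h4, hidx]⟩

end

end Cfsg.Agent.H248.Reg
end

-- part: H248/Reg/Dickson
section
/-!
# Index of the subgroups of `PSL(2, q)`, `q ≥ 16` even (S4919, EVEN, helper248)

`index_even` : a subgroup of even index has index divisible by `2 (q + 1)`, or by `2 (q - 1)`, or by `2 a b` for primes
`a ∣ q - 1`, `b ∣ q + 1`.
-/

set_option autoImplicit false

namespace Cfsg.Agent.H248.Reg

open Matrix Cfsg.Agent.H525.L2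

universe u v

/-- The three possibilities. -/
def Alt (q n : ℕ) : Prop :=
  2 * (q + 1) ∣ n ∨ 2 * (q - 1) ∣ n ∨ ∃ a b : ℕ, a.Prime ∧ b.Prime ∧ a ∣ q - 1 ∧ b ∣ q + 1 ∧ 2 * a * b ∣ n

theorem Alt.mono {q n m : ℕ} (h : Alt q n) (hm : n ∣ m) : Alt q m := by
  rcases h with h | h | ⟨a, b, h1, h2, h3, h4, h5⟩
  · exact Or.inl (h.trans hm)
  · exact Or.inr (Or.inl (h.trans hm))
  · exact Or.inr (Or.inr ⟨a, b, h1, h2, h3, h4, h5.trans hm⟩)

section Arith

variable {q n h : ℕ} (h16 : 16 ≤ q) (hn : h * n = (q + 1) * (q * (q - 1)))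

include h16 hn in
theorem ar1 (h4 : 4 ∣ q) (hd : h ∣ 2 * (q + 1)) : 2 * (q - 1) ∣ n := by
  obtain ⟨w, hw⟩ := hd
  obtain ⟨t, rfl⟩ := h4
  have hpos : 0 < h := by
    rcases Nat.eq_zero_or_pos h with rfl | h0
    · rw [zero_mul] at hw; omega
    · exact h0
  obtain ⟨r, hr⟩ : ∃ r, 4 * t = r + 1 := ⟨4 * t - 1, by omega⟩
  have h5 : h * (2 * n) = h * (w * (4 * t) * (4 * t - 1)) := by
    calc h * (2 * n) = 2 * (h * n) := by ring
      _ = 2 * (4 * t + 1) * ((4 * t) * (4 * t - 1)) := by rw [hn]; ring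
      _ = h * w * ((4 * t) * (4 * t - 1)) := by rw [hw]
      _ = _ := by ring
  have h6 := Nat.eq_of_mul_eq_mul_left hpos h5
  refine ⟨w * t, ?_⟩
  have h7 : 2 * n = 2 * (2 * (4 * t - 1) * (w * t)) := by rw [h6]; ring
  omega

include h16 hn in
theorem ar2 (h4 : 4 ∣ q) (hd : h ∣ 2 * (q - 1)) : 2 * (q + 1) ∣ n := by
  obtain ⟨w, hw⟩ := hd
  obtain ⟨t, rfl⟩ := h4
  have hpos : 0 < h := by
    rcases Nat.eq_zero_or_pos h with rfl | h0
    · rw [zero_mul] at hw; omega
    · exact h0
  have h5 : h * (2 * n) = h * (w * (4 * t) * (4 * t + 1)) := by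
    calc h * (2 * n) = 2 * (h * n) := by ring
      _ = (2 * (4 * t - 1)) * ((4 * t) * (4 * t + 1)) := by rw [hn]; ring
      _ = h * w * ((4 * t) * (4 * t + 1)) := by rw [hw]
      _ = _ := by ring
  have h6 := Nat.eq_of_mul_eq_mul_left hpos h5
  refine ⟨w * t, ?_⟩
  have h7 : 2 * n = 2 * (2 * (4 * t + 1) * (w * t)) := by rw [h6]; ring
  omega

include h16 hn in
theorem ar3 (heven : Even q) (hd : h ∣ q * (q - 1)) (h2 : 2 ∣ n) : 2 * (q + 1) ∣ n := by
  obtain ⟨w, hw⟩ := hd
  have hq : 0 < q * (q - 1) := Nat.mul_pos (by omega) (by omega)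
  have hpos : 0 < h := by
    rcases Nat.eq_zero_or_pos h with rfl | h0
    · rw [zero_mul] at hw; omega
    · exact h0
  have h5 : h * n = h * (w * (q + 1)) := by
    rw [hn, hw]; ring
  have h6 := Nat.eq_of_mul_eq_mul_left hpos h5
  rw [h6] at h2 ⊢
  have h7 : Nat.Coprime 2 (q + 1) := by
    rw [Nat.coprime_two_left]
    exact heven.add_one
  exact Nat.mul_dvd_mul (h7.dvd_of_dvd_mul_right h2) dvd_rfl

end Arith

section Arith2

variable {q n r c : ℕ} (h16 : 16 ≤ q) (hr : 2 ∣ r)

include h16 hr in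
theorem ar5 (hn : c * n = r * ((q - 1) * (q + 1))) (hc : c ∣ q - 1) : 2 * (q + 1) ∣ n := by
  obtain ⟨w, hw⟩ := hc
  have hpos : 0 < c := by
    rcases Nat.eq_zero_or_pos c with rfl | h0
    · rw [zero_mul] at hw; omega
    · exact h0
  have h5 : c * n = c * (r * w * (q + 1)) := by
    rw [hn, hw]; ring
  rw [Nat.eq_of_mul_eq_mul_left hpos h5]
  exact Nat.mul_dvd_mul (hr.mul_right _) dvd_rfl

include h16 hr in
theorem ar6 (hn : c * n = r * ((q - 1) * (q + 1))) (hc : c ∣ q + 1) : 2 * (q - 1) ∣ n := by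
  obtain ⟨w, hw⟩ := hc
  have hpos : 0 < c := by
    rcases Nat.eq_zero_or_pos c with rfl | h0
    · rw [zero_mul] at hw; omega
    · exact h0
  have h5 : c * n = c * (r * w * (q - 1)) := by
    rw [hn, hw]; ring
  rw [Nat.eq_of_mul_eq_mul_left hpos h5]
  exact Nat.mul_dvd_mul (hr.mul_right _) dvd_rfl

include h16 hr in
theorem ar4 {c' : ℕ} (hn : c * c' * n = r * ((q - 1) * (q + 1))) (hc : c ∣ q - 1) (hc' : c' ∣ q + 1)
    (h1 : c ≠ q - 1) (h2 : c' ≠ q + 1) : Alt q n := by
  obtain ⟨w, hw⟩ := hc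
  obtain ⟨w', hw'⟩ := hc'
  have hpos : 0 < c := by
    rcases Nat.eq_zero_or_pos c with rfl | h0
    · rw [zero_mul] at hw; omega
    · exact h0
  have hpos' : 0 < c' := by
    rcases Nat.eq_zero_or_pos c' with rfl | h0
    · rw [zero_mul] at hw'; omega
    · exact h0
  have h5 : c * c' * n = c * c' * (r * w * w') := by
    rw [hn, hw, hw']; ring
  have h6 := Nat.eq_of_mul_eq_mul_left (Nat.mul_pos hpos hpos') h5
  have hw1 : w ≠ 1 := by rintro rfl; rw [mul_one] at hw; exact h1 hw.symm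
  have hw1' : w' ≠ 1 := by rintro rfl; rw [mul_one] at hw'; exact h2 hw'.symm
  refine Or.inr (Or.inr ⟨w.minFac, w'.minFac, Nat.minFac_prime hw1, Nat.minFac_prime hw1', ?_, ?_, ?_⟩)
  · rw [hw]; exact (Nat.minFac_dvd w).mul_left _
  · rw [hw']; exact (Nat.minFac_dvd w').mul_left _
  · rw [h6]
    exact Nat.mul_dvd_mul (Nat.mul_dvd_mul hr (Nat.minFac_dvd w)) (Nat.minFac_dvd w')

end Arith2

/-- Powers of two at least 16. -/
theorem exists_sixteen {q f : ℕ} (hq : q = 2 ^ f) (h16 : 16 ≤ q) : ∃ t, q = 16 * 2 ^ t := by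
  have hf : 4 ≤ f := by
    by_contra h
    have h1 : f ≤ 3 := by omega
    have h2 : 2 ^ f ≤ 2 ^ 3 := Nat.pow_le_pow_right (by norm_num) h1
    omega
  refine ⟨f - 4, ?_⟩
  rw [hq, show (16 : ℕ) = 2 ^ 4 by norm_num, ← pow_add]
  congr 1
  omega

theorem ar_small {q t n h : ℕ} (hq : q = 16 * 2 ^ t) (hn : h * n = (q + 1) * (q * (q - 1)))
    (hh : h = 12 ∨ h = 24 ∨ h = 60) : Alt q n := by
  have h16 : 16 ≤ q := by
    have : 1 ≤ 2 ^ t := Nat.one_le_two_pow
    omega
  have hcop : ∀ p : ℕ, p.Prime → p ≠ 2 → ∀ s : ℕ, ¬ p ∣ 2 ^ s := by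
    intro p hp hp2 s h
    exact hp2 ((Nat.prime_dvd_prime_iff_eq hp Nat.prime_two).1 (hp.dvd_of_dvd_pow h))
  -- the general step
  have key3 : ∀ r s : ℕ, r = 2 ^ s → 2 ∣ r → 3 * n = r * ((q - 1) * (q + 1)) → Alt q n := by
    intro r s hrs hr h3
    have h4 : 3 ∣ r * ((q - 1) * (q + 1)) := ⟨n, h3.symm⟩
    rcases (Nat.Prime.dvd_mul Nat.prime_three).1 h4 with h5 | h5
    · rw [hrs] at h5
      exact absurd h5 (hcop 3 Nat.prime_three (by norm_num) s)
    · rcases (Nat.Prime.dvd_mul Nat.prime_three).1 h5 with h6 | h6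
      · exact Or.inl (ar5 h16 hr h3 h6)
      · exact Or.inr (Or.inl (ar6 h16 hr h3 h6))
  rcases hh with rfl | rfl | rfl
  · refine key3 (4 * 2 ^ t) (t + 2) (by rw [pow_add]; ring) (Dvd.intro (2 * 2 ^ t) (by ring)) ?_
    have h3 : 4 * (3 * n) = 4 * (4 * 2 ^ t * ((q - 1) * (q + 1))) := by
      calc 4 * (3 * n) = 12 * n := by ring
        _ = (q + 1) * (q * (q - 1)) := hn
        _ = (q + 1) * ((16 * 2 ^ t) * (q - 1)) := by rw [← hq]
        _ = _ := by ring
    omega
  · refine key3 (2 * 2 ^ t) (t + 1) (by rw [pow_add]; ring) (Dvd.intro (2 ^ t) (by ring)) ?_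
    have h3 : 8 * (3 * n) = 8 * (2 * 2 ^ t * ((q - 1) * (q + 1))) := by
      calc 8 * (3 * n) = 24 * n := by ring
        _ = (q + 1) * (q * (q - 1)) := hn
        _ = (q + 1) * ((16 * 2 ^ t) * (q - 1)) := by rw [← hq]
        _ = _ := by ring
    omega
  · set r := 4 * 2 ^ t with hr
    have hr2 : 2 ∣ r := Dvd.intro (2 * 2 ^ t) (by ring)
    have hrs : r = 2 ^ (t + 2) := by rw [hr, pow_add]; ring
    have h3 : 15 * n = r * ((q - 1) * (q + 1)) := by
      have h3 : 4 * (15 * n) = 4 * (r * ((q - 1) * (q + 1))) := by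
        calc 4 * (15 * n) = 60 * n := by ring
          _ = (q + 1) * (q * (q - 1)) := hn
          _ = (q + 1) * ((16 * 2 ^ t) * (q - 1)) := by rw [← hq]
          _ = _ := by rw [hr]; ring
      omega
    have key : ∀ p : ℕ, p.Prime → p ≠ 2 → p ∣ 15 → p ∣ q - 1 ∨ p ∣ q + 1 := by
      intro p hp hp2 hp15
      have h4 : p ∣ r * ((q - 1) * (q + 1)) := by rw [← h3]; exact hp15.mul_right _
      rcases (Nat.Prime.dvd_mul hp).1 h4 with h5 | h5
      · rw [hrs] at h5
        exact absurd h5 (hcop p hp hp2 _)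
      · exact (Nat.Prime.dvd_mul hp).1 h5
    have hc : Nat.Coprime 3 5 := by norm_num
    rcases key 3 Nat.prime_three (by norm_num) (by norm_num) with h4 | h4 <;>
      rcases key 5 Nat.prime_five (by norm_num) (by norm_num) with h5 | h5
    · exact Or.inl (ar5 h16 hr2 h3 (hc.mul_dvd_of_dvd_of_dvd h4 h5))
    · exact ar4 (c := 3) (c' := 5) h16 hr2 h3 h4 h5 (by (clear * - h16; omega)) (by omega)
    · exact ar4 (c := 5) (c' := 3) h16 hr2 h3 h5 h4 (by (clear * - h16; omega)) (by omega)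
    · exact Or.inr (Or.inl (ar6 h16 hr2 h3 (hc.mul_dvd_of_dvd_of_dvd h4 h5)))

theorem ar_sub {q k j n f : ℕ} (hq2 : q = 2 ^ f) (h16 : 16 ≤ q) (hkj : k ^ j = q)
    (hn : (k + 1) * (k * (k - 1)) * n = (q + 1) * (q * (q - 1))) (h2 : 2 ∣ n) : Alt q n := by
  have hj0 : j ≠ 0 := by
    rintro rfl
    rw [pow_zero] at hkj
    omega
  have hk1 : 1 < k := by
    by_contra h
    have h1 : k = 0 ∨ k = 1 := by omega
    rcases h1 with rfl | rfl
    · rw [zero_pow hj0] at hkj; omega
    · rw [one_pow] at hkj; omega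
  have hpos : 0 < (k + 1) * (k * (k - 1)) := Nat.mul_pos (by omega) (Nat.mul_pos (by omega) (by omega))
  have hj1 : j ≠ 1 := by
    rintro rfl
    rw [pow_one] at hkj
    subst hkj
    have h3 : (k + 1) * (k * (k - 1)) * n = (k + 1) * (k * (k - 1)) * 1 := by rw [hn, mul_one]
    have h4 := Nat.eq_of_mul_eq_mul_left hpos h3
    omega
  obtain ⟨i, rfl⟩ : ∃ i, j = i + 2 := ⟨j - 2, by omega⟩
  have hk2 : 2 ∣ k := by
    have h3 : 2 ∣ k ^ (i + 2) := by
      rw [hkj, hq2]
      refine dvd_pow_self 2 ?_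
      rintro rfl
      rw [pow_zero] at hq2
      omega
    exact Nat.prime_two.dvd_of_dvd_pow h3
  have hqk : q = k * k ^ (i + 1) := by rw [← hkj, pow_succ' k (i + 1)]
  have hr : 2 ∣ k ^ (i + 1) := dvd_pow hk2 (by omega)
  have h3 : ((k - 1) * (k + 1)) * n = k ^ (i + 1) * ((q - 1) * (q + 1)) := by
    have h4 : k * (((k - 1) * (k + 1)) * n) = k * (k ^ (i + 1) * ((q - 1) * (q + 1))) := by
      calc k * (((k - 1) * (k + 1)) * n) = (k + 1) * (k * (k - 1)) * n := by ring
        _ = (q + 1) * (q * (q - 1)) := hn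
        _ = (q + 1) * ((k * k ^ (i + 1)) * (q - 1)) := by rw [← hqk]
        _ = _ := by ring
    exact Nat.eq_of_mul_eq_mul_left (by omega) h4
  rcases Nat.even_or_odd (i + 2) with he | ho
  · -- `k ^ 2 - 1` divides `q - 1`
    obtain ⟨s, hs⟩ := he
    have h4 : k ^ 2 - 1 ∣ q - 1 := by
      have h5 : q = (k ^ 2) ^ s := by rw [← hkj, hs, ← pow_mul]; congr 1; ring
      rw [h5]
      exact Nat.sub_one_dvd_pow_sub_one _ _
    have h6 : k ^ 2 - 1 = (k - 1) * (k + 1) := by
      have := Nat.sq_sub_sq k 1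
      rw [one_pow] at this
      rw [this, mul_comm]
    rw [h6] at h4
    exact Or.inl (ar5 h16 hr h3 h4)
  · have h4 : k - 1 ∣ q - 1 := by
      rw [← hkj]
      exact Nat.sub_one_dvd_pow_sub_one _ _
    have h5 : k + 1 ∣ q + 1 := by
      rw [← hkj]
      have := Odd.nat_add_dvd_pow_add_pow k 1 ho
      rwa [one_pow] at this
    have h6 : k < q := by
      rw [hqk]
      have h7 : 1 < k ^ (i + 1) := Nat.one_lt_pow (by omega) hk1
      exact (Nat.lt_mul_iff_one_lt_right (by omega)).2 h7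
    exact ar4 h16 hr h3 h4 h5 (by omega) (by omega)

section Index

variable {F : Type} [Field F] [Fintype F] (heven : Even (Fintype.card F))

include heven in
theorem card_psl : Nat.card (ProjectiveSpecialLinearGroup (Fin 2) F) =
    (Fintype.card F + 1) * (Fintype.card F * (Fintype.card F - 1)) :=
  (frame (MulEquiv.refl _)).card_even heven

include heven in
/-- **Subgroups of even index.** -/
theorem index_even (h16 : 16 ≤ Fintype.card F) (H : Subgroup (ProjectiveSpecialLinearGroup (Fin 2) F))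
    (h2 : 2 ∣ H.index) : Alt (Fintype.card F) H.index := by
  classical
  obtain ⟨p, hchar⟩ := CharP.exists F
  obtain ⟨f, hp, hqf⟩ := FiniteField.card F p
  have hp2 : p = 2 := by
    have h1 : 2 ∣ p ^ (f : ℕ) := by rw [← hqf, ← even_iff_two_dvd]; exact heven
    exact ((Nat.prime_dvd_prime_iff_eq Nat.prime_two hp).1 (Nat.prime_two.dvd_of_dvd_pow h1)).symm
  subst hp2
  have : Fact (Nat.Prime 2) := ⟨hp⟩
  set q := Fintype.card F with hq
  have hn : Nat.card H * H.index = (q + 1) * (q * (q - 1)) := by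
    rw [H.card_mul_index, card_psl heven]
  obtain ⟨t, ht⟩ := exists_sixteen hqf h16
  have h4 : 4 ∣ q := by rw [ht]; exact Dvd.intro (4 * 2 ^ t) (by ring)
  have hg : Nat.gcd 2 (q - 1) = 1 := by
    rw [← Nat.coprime_iff_gcd_eq_one, Nat.coprime_two_left, Nat.odd_iff]
    rw [Nat.even_iff] at heven
    omega
  rcases Cfsg.Agent.S0799.result (F := F) (q := q) rfl 2 H with ⟨k, hk, hH⟩ | ⟨P, K, hK, ⟨e⟩⟩ | ⟨⟨e⟩⟩ | ⟨⟨e⟩⟩ |
    ⟨⟨e⟩⟩ | ⟨K, _, _, j, hj, hH⟩
  · rw [hg, Nat.div_one, Nat.div_one] at hk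
    have hc : Nat.card H ∣ 2 * k := by
      rcases hH with ⟨-, h⟩ | ⟨⟨e⟩⟩
      · rw [h]; exact Dvd.intro_left _ rfl
      · rw [Nat.card_congr e.toEquiv, DihedralGroup.nat_card]
    rcases hk with hk | hk
    · exact Or.inr (Or.inl (ar1 h16 hn h4 (hc.trans (Nat.mul_dvd_mul_left 2 hk))))
    · exact Or.inl (ar2 h16 hn h4 (hc.trans (Nat.mul_dvd_mul_left 2 hk)))
  · refine Or.inl (ar3 h16 hn heven ?_ h2)
    rw [Nat.card_congr e.toEquiv]
    refine (Subgroup.card_dvd_of_le hK).trans ?_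
    have hsimp : IsSimpleGroup (ProjectiveSpecialLinearGroup (Fin 2) F) :=
      Matrix.ProjectiveSpecialLinearGroup.rank_two_simple
        (by rw [Nat.card_eq_fintype_card]; omega)
    set N := Subgroup.normalizer ((P : Subgroup (ProjectiveSpecialLinearGroup (Fin 2) F)) :
      Set (ProjectiveSpecialLinearGroup (Fin 2) F)) with hN
    have hPi : ¬ 2 ∣ (P : Subgroup (ProjectiveSpecialLinearGroup (Fin 2) F)).index := P.not_dvd_index
    have hodd : ¬ 2 ∣ N.index := fun h => hPi (h.trans (Subgroup.index_dvd_of_le Subgroup.le_normalizer))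
    have hcS := card_psl (F := F) heven
    rw [← hq] at hcS
    have hne : N ≠ ⊤ := by
      intro h
      have hPn : (P : Subgroup (ProjectiveSpecialLinearGroup (Fin 2) F)).Normal :=
        Subgroup.normalizer_eq_top_iff.1 h
      rcases hPn.eq_bot_or_eq_top with h3 | h3
      · rw [h3, Subgroup.index_bot, hcS] at hPi
        exact hPi (((even_iff_two_dvd.1 heven).mul_right _).mul_left _)
      · have h5 : IsPGroup 2 (P : Subgroup (ProjectiveSpecialLinearGroup (Fin 2) F)) := P.2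
        rw [h3] at h5
        obtain ⟨m, hm⟩ := IsPGroup.iff_card.1 h5
        rw [Nat.card_congr Subgroup.topEquiv.toEquiv, hcS] at hm
        have h6 : (q + 1).minFac ∣ 2 ^ m := by
          rw [← hm]
          exact (Nat.minFac_dvd _).mul_right _
        have hpr : (q + 1).minFac.Prime := Nat.minFac_prime (by omega)
        have h7 := (Nat.prime_dvd_prime_iff_eq hpr Nat.prime_two).1 (hpr.dvd_of_dvd_pow h6)
        have h8 := Nat.minFac_dvd (q + 1)
        rw [h7] at h8
        omega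
    obtain ⟨w, hw⟩ := (Cfsg.Agent.H671.Sep.odd_index' (frame (MulEquiv.refl
      (ProjectiveSpecialLinearGroup (Fin 2) F))) N (by omega) heven hodd hne).1
    rw [← hq] at hw
    have h5 := N.card_mul_index
    rw [hw, hcS] at h5
    have h6 : (q + 1) * (Nat.card N * w) = (q + 1) * (q * (q - 1)) := by rw [← h5]; ring
    exact ⟨w, (Nat.eq_of_mul_eq_mul_left (by omega) h6).symm⟩
  · refine ar_small ht hn (Or.inl ?_)
    rw [Nat.card_congr e.toEquiv, nat_card_alternatingGroup, Nat.card_fin]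
    rfl
  · refine ar_small ht hn (Or.inr (Or.inl ?_))
    rw [Nat.card_congr e.toEquiv, Nat.card_perm, Nat.card_fin]
    rfl
  · refine ar_small ht hn (Or.inr (Or.inr ?_))
    rw [Nat.card_congr e.toEquiv, nat_card_alternatingGroup, Nat.card_fin]
    rfl
  · refine ar_sub hqf h16 hj ?_ h2
    have hkeven : Even (Fintype.card K) := by
      by_contra h
      rw [Nat.not_even_iff_odd] at h
      have h3 : Odd q := by rw [← hj]; exact h.pow
      exact (Nat.not_even_iff_odd.2 h3) heven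
    rw [← hn]
    congr 1
    rcases hH with ⟨⟨e⟩⟩ | ⟨⟨e⟩⟩
    · rw [Nat.card_congr e.toEquiv, card_psl hkeven]
    · rw [Nat.card_congr e.toEquiv, Cfsg.Agent.S0265.result, card_SL]

end Index

end Cfsg.Agent.H248.Reg
end

-- part: H248/Reg/Even
section
/-!
# Ratios of degrees above `PSL(2, q)`, `q ≥ 16` even (S4919, EVEN, helper248)

`factEven` : `X / M ≅ PSL(2, q)`, `θ ∈ Irr(M)`: either `θ` extends to `X` or some ratio `χ(1) / θ(1)` is divisible by
`q ^ 2 - 1`, `2 (q + 1)`, `2 (q - 1)` or by two and a prime of each of `q - 1`, `q + 1`.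
-/

set_option autoImplicit false

namespace Cfsg.Agent.H248.Reg

open Cfsg Cfsg.Agent.Characters.Core Cfsg.Agent.H681.DegBasic Cfsg.Agent.H525.L2 Cfsg.Agent.H595.Count
  Cfsg.Agent.H595.Central Cfsg.Agent.H595.Triple Matrix Cfsg.Agent.H670.RankOne Cfsg.Agent.H670.SL2

universe u v

section

variable {X : Type u} [Group X] [Finite X] (M : Subgroup X) [hM : M.Normal] {F : Type} [Field F]
  [Fintype F] (h16 : 16 ≤ Fintype.card F) (heven : Even (Fintype.card F))
  (e : X ⧸ M ≃* Matrix.ProjectiveSpecialLinearGroup (Fin 2) F) [Fintype M] (θ : IrrCharacter M)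

omit [Fintype M] in
include h16 heven e in
/-- The invariant case. -/
theorem inv_even (hinv : CInv M (θ : M → ℂ)) :
    ∃ χ : IrrCharacter X, ∀ m : M, (χ : X → ℂ) m = (θ : M → ℂ) m := by
  classical
  obtain ⟨Q, hg, hfin, π, l, hs, hc, hl, H⟩ := exists_red M θ hinv
  obtain ⟨lam, hlam⟩ := Cfsg.Agent.H714.Tri.exists_lin_of_split heven (by omega) π hs hc e l
  obtain ⟨χ0, hχ0⟩ := H (homIrr lam) (over_of_linear hlam)
  refine ⟨χ0, fun n => ?_⟩
  rw [hχ0 n, homIrr_apply, map_one, Units.val_one, one_mul]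

include h16 heven e in
/-- The case of a proper inertia group. -/
theorem proper_even (hT1 : Cfsg.Agent.H672.inertia M (θ : M → ℂ) ≠ ⊤) :
    ∃ χ : IrrCharacter X, classInner (fun m : M => (χ : X → ℂ) m) (θ : M → ℂ) ≠ 0 ∧
      ∃ d : ℕ, charDegree (χ : X → ℂ) = d * charDegree (θ : M → ℂ) ∧
        (Fintype.card F ^ 2 - 1 ∣ d ∨ Alt (Fintype.card F) d) := by
  classical
  have hsimp : IsSimpleGroup (Matrix.ProjectiveSpecialLinearGroup (Fin 2) F) :=
    Matrix.ProjectiveSpecialLinearGroup.rank_two_simple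
      (by rw [Nat.card_eq_fintype_card]; omega)
  have hsimp' : IsSimpleGroup (X ⧸ M) := e.isSimpleGroup
  have := Fintype.ofFinite X
  set q := Fintype.card F with hq
  set T := Cfsg.Agent.H672.inertia M (θ : M → ℂ) with hTdef
  have := Fintype.ofFinite T
  have hT : ∀ g : X, g ∈ T ↔ ∀ n : M, (θ : M → ℂ) ⟨g * n * g⁻¹, hM.conj_mem (n : X) n.2 g⟩ =
      (θ : M → ℂ) n := fun g => Cfsg.Agent.H672.mem_inertia_iff
  have hMT : M ≤ T := Cfsg.Agent.H672.le_inertia (isIrr_isClassFunction θ.2)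
  let N : Subgroup T := M.subgroupOf T
  let eN : N ≃* M := Subgroup.subgroupOfEquivOfLe hMT
  let θ' : IrrCharacter N := ⟨(θ : M → ℂ) ∘ eN, isIrr_comp eN.toMonoidHom eN.surjective θ.2⟩
  have hinv : CInv N (θ' : N → ℂ) := by
    intro x n
    exact (hT x).1 x.2 (eN n)
  obtain ⟨Q, hg, hfin, π, l, hs, hc, hl, H⟩ := exists_red N θ' hinv
  -- it is enough to find a good degree over `l`
  suffices hgood : ∃ β : IrrCharacter Q, Over π l (β : Q → ℂ) ∧
      (q ^ 2 - 1 ∣ T.index * charDegree (β : Q → ℂ) ∨ Alt q (T.index * charDegree (β : Q → ℂ))) by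
    obtain ⟨β, hβ, hgood⟩ := hgood
    obtain ⟨ψ, hψ⟩ := H β hβ
    have hψ' : ∀ m : M, (ψ : T → ℂ) ⟨m, hMT m.2⟩ =
        (charDegree (β : Q → ℂ) : ℂ) * (θ : M → ℂ) m := by
      intro m
      have := hψ ⟨⟨m, hMT m.2⟩, m.2⟩
      rw [(deg_spec β.2).1] at this
      exact this
    obtain ⟨h1, h2, h3⟩ := over_ind M θ.2 T hT hMT ψ.2 (deg_spec β.2).2.ne' hψ'
    refine ⟨⟨_, h1⟩, h3, T.index * charDegree (β : Q → ℂ), ?_, hgood⟩
    have h4 := hψ' 1
    have h5 : (⟨((1 : M) : X), hMT (1 : M).2⟩ : T) = 1 := rfl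
    rw [h5, (deg_spec θ.2).1] at h4
    rw [h4, (deg_spec h1).1] at h2
    have h6 : charDegree (indFun T (ψ : T → ℂ)) =
        T.index * (charDegree (β : Q → ℂ) * charDegree (θ : M → ℂ)) := by exact_mod_cast h2
    rw [mul_assoc]
    exact h6
  -- the image in the quotient
  let ι : T ⧸ N →* X ⧸ M := QuotientGroup.map N M T.subtype (fun x hx => hx)
  have hι : Function.Injective ι := by
    rw [injective_iff_map_eq_one]
    intro y hy
    obtain ⟨t, rfl⟩ := QuotientGroup.mk_surjective y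
    have h1 : ((t : X) : X ⧸ M) = 1 := hy
    have h2 : (t : X) ∈ M := (QuotientGroup.eq_one_iff (t : X)).1 h1
    exact (QuotientGroup.eq_one_iff t).2 h2
  have hHi : ι.range.index = T.index := by
    have h1 : ι.range.comap (QuotientGroup.mk' M) = T := by
      ext x
      constructor
      · rintro ⟨y, hy⟩
        obtain ⟨t, rfl⟩ := QuotientGroup.mk_surjective y
        have h2 : ((t : X) : X ⧸ M) = (x : X ⧸ M) := hy
        have h3 := QuotientGroup.eq.1 h2
        have h4 := T.mul_mem t.2 (hMT h3)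
        rwa [mul_inv_cancel_left] at h4
      · intro hx
        exact ⟨((⟨x, hx⟩ : T) : T ⧸ N), rfl⟩
    rw [← Subgroup.index_comap_of_surjective ι.range (QuotientGroup.mk'_surjective M), h1]
  have hTi : T.index ≠ 1 := fun h => hT1 (Subgroup.index_eq_one.1 h)
  have hHne : ι.range ≠ ⊤ := by
    intro h
    rw [h, Subgroup.index_top] at hHi
    exact hTi hHi.symm
  obtain ⟨β1, hβ1⟩ := exists_over l hs hc
  by_cases h2 : 2 ∣ T.index
  · -- even index: the list of subgroups
    have hHe : (ι.range.map e.toMonoidHom).index = T.index := by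
      rw [← hHi]
      exact Subgroup.index_map_equiv _ e
    have h3 := index_even heven h16 (ι.range.map e.toMonoidHom) (by rw [hHe]; exact h2)
    rw [hHe] at h3
    exact ⟨β1, hβ1, Or.inr (h3.mono (Dvd.intro _ rfl))⟩
  · have hq1 := (Cfsg.Agent.H671.Sep.odd_index' (frame e) ι.range (by omega) heven (by rwa [hHi]) hHne).1
    rw [hHi, ← hq] at hq1
    by_cases hodd : ∃ β : IrrCharacter Q, Over π l (β : Q → ℂ) ∧ ¬ 2 ∣ charDegree (β : Q → ℂ)
    · obtain ⟨β, hβ, hβ2⟩ := hodd
      let D := frame e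
      let E : _root_.Matrix.SpecialLinearGroup (Fin 2) F ≃* X ⧸ M := MulEquiv.ofBijective D.f ⟨D.f_inj heven, D.surj⟩
      have hE : ∀ z, E z = D.f z := fun _ => rfl
      have hKi : (ι.range.comap D.f).index = T.index := by
        rw [Subgroup.index_comap_of_surjective _ D.surj, hHi]
      obtain ⟨g, hg1, hg2⟩ := exists_conj heven (ι.range.comap D.f) (by rw [hKi]; exact h2) (by
        intro h
        rw [h, Subgroup.index_top] at hKi
        exact hTi hKi.symm)
      let φ : Q →* _root_.Matrix.SpecialLinearGroup (Fin 2) F :=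
        ((MulAut.conj g).toMonoidHom.comp E.symm.toMonoidHom).comp (ι.comp π)
      have hφ : ∀ a, φ a = g * E.symm (ι (π a)) * g⁻¹ := fun _ => rfl
      have hker : φ.ker = π.ker := by
        ext a
        rw [MonoidHom.mem_ker, MonoidHom.mem_ker, hφ]
        constructor
        · intro h
          rw [mul_inv_eq_one, mul_eq_left, map_eq_one_iff _ E.symm.injective, map_eq_one_iff _ hι] at h
          exact h
        · intro h
          rw [h, map_one, map_one, mul_one, mul_inv_cancel]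
      have hrange : φ.range = (ι.range.comap D.f).comap (MulAut.conj g⁻¹).toMonoidHom := by
        ext z
        constructor
        · rintro ⟨a, rfl⟩
          refine ⟨π a, ?_⟩
          show ι (π a) = D.f (g⁻¹ * φ a * g⁻¹⁻¹)
          have h3 : g⁻¹ * φ a * g⁻¹⁻¹ = E.symm (ι (π a)) := by rw [hφ]; group
          rw [h3, ← hE, E.apply_symm_apply]
        · rintro ⟨y, hy⟩
          obtain ⟨a, rfl⟩ := hs y
          refine ⟨a, ?_⟩
          have hy' : ι (π a) = E (g⁻¹ * z * g⁻¹⁻¹) := hy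
          rw [hφ, hy', E.symm_apply_apply]
          group
      obtain ⟨γ, hγ, hγd⟩ := borel_case heven hc hl φ hker (by rw [hrange]; exact hg1)
        (by rw [hrange]; exact hg2) β.2 hβ (deg_spec β.2).1 hβ2
      refine ⟨γ, hγ, Or.inl ?_⟩
      have hcr : Nat.card φ.range = Nat.card ι.range := by
        rw [← Subgroup.index_ker, hker, Subgroup.index_ker, MonoidHom.range_eq_top.2 hs,
          Nat.card_congr Subgroup.topEquiv.toEquiv]
        exact Nat.card_congr (MonoidHom.ofInjective hι).toEquiv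
      rw [hcr, ← hq] at hγd
      have hmul := ι.range.card_mul_index
      rw [hHi, ← hγd, (frame e).card_even heven, ← hq] at hmul
      have h3 : q * (T.index * charDegree (γ : Q → ℂ)) = q * ((q + 1) * (q - 1)) := by
        calc q * (T.index * charDegree (γ : Q → ℂ)) = charDegree (γ : Q → ℂ) * q * T.index := by ring
          _ = (q + 1) * (q * (q - 1)) := hmul
          _ = _ := by ring
      have h5 := Nat.sq_sub_sq q 1
      rw [one_pow] at h5
      rw [Nat.eq_of_mul_eq_mul_left (by omega) h3, h5]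
    · push Not at hodd
      refine ⟨β1, hβ1, Or.inr (Or.inl ?_)⟩
      rw [mul_comm 2]
      exact Nat.mul_dvd_mul hq1 (hodd β1 hβ1)

end

theorem factEven : Cfsg.Agent.H670.Reg.FactEven.{u} := by
  intro X _ _ M _ _ F _ _ heven h16 e θ
  by_cases hT : Cfsg.Agent.H672.inertia M (θ : M → ℂ) = ⊤
  · left
    refine inv_even M h16 heven e θ ?_
    intro x n
    have : x ∈ Cfsg.Agent.H672.inertia M (θ : M → ℂ) := by rw [hT]; trivial
    exact Cfsg.Agent.H672.mem_inertia_iff.1 this n
  · right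
    exact proper_even M h16 heven e θ hT

end Cfsg.Agent.H248.Reg
end

-- part: H670/Reg/Main
section
/-!
# 3-regular degree graphs (S4919) from the facts on simple groups (helper670)
-/

set_option autoImplicit false

namespace Cfsg.Agent.H670.Reg

open Cfsg

universe u

end Cfsg.Agent.H670.Reg
end

-- part: H670/Reg/Red2
section
/-!
# 3-regular degree graphs (S4919): a second version of the reduction (helper670)

* `SFacts2` : as `SFacts`, but a simple group with a vertex with four neighbours needs no further facts;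
* `red2`, `nonsolv2`, `main2` : the reduction and the theorem from `SFacts2`.
-/

set_option autoImplicit false

namespace Cfsg.Agent.H670.Reg

open Cfsg Subgroup Cfsg.Agent.H33 Cfsg.Agent.H671.H5 Cfsg.Agent.H681.DegBasic Cfsg.Agent.H671.Link
  Cfsg.Agent.H459.Rad Cfsg.Agent.H988.DG

universe u v

/-- A vertex with four neighbours. -/
def FourN (S : Type v) [Group S] : Prop :=
  ∃ u a b c d : ℕ, a ≠ b ∧ a ≠ c ∧ a ≠ d ∧ b ≠ c ∧ b ≠ d ∧ c ≠ d ∧ Adj u a S ∧ Adj u b S ∧ Adj u c S ∧ Adj u d S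

/-- The facts on simple groups. -/
structure SFacts2 : Prop where
  ev : ∀ (S : Type) [Group S] [Finite S] [IsSimpleGroup S], ¬ IsMulCommutative S → 2 ∣ Nat.card S
  ext : FactExt.{0}
  im : FactIM.{0}
  tri : FactTri.{0}
  ind : ∀ (S : Type) [Group S] [Finite S] [IsSimpleGroup S], ¬ IsMulCommutative S → ¬ IsL2 S → FourN S ∨
    ∀ p ∈ degreePrimes S, ∀ q ∈ degreePrimes S, ∀ r ∈ degreePrimes S,
      p ≠ q → q ≠ r → p ≠ r → Adj p q S ∨ Adj q r S ∨ Adj p r S
  conn : FactConn.{0}
  kite5 : FactKiteBig.{0}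
  kite4 : FactKiteFour.{u, 0}

/-- **The reduction.** -/
theorem red2 (Fa : SFacts2.{u}) (hl2 : ∀ (G : Type u) [Group G] [Finite G] (_ : Fr G) (V : Finset ℕ), Reg3 G V → V.card ≤ 5)
    {G : Type u} [Group G] [Finite G] (hG : ¬ Group.IsSolvable G) {V : Finset ℕ} (c : Reg3 G V) : V.card ≤ 5 := by
  classical
  have hRn : (solvableRadical G).Normal := rad_normal G
  set R := solvableRadical G with hR
  have hrad : solvableRadical (G ⧸ R) = ⊥ := rad_quotient
  have hnc : ∀ N : Subgroup (G ⧸ R), N.Normal → Group.IsSolvable N → N = ⊥ := by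
    intro N hN hs
    rw [eq_bot_iff, ← hrad]
    exact le_rad hN hs
  have hmain : ∀ N : Subgroup (G ⧸ R), N.Normal → N ≠ ⊥ → ∃ L : Subgroup (G ⧸ R), ∃ _ : L.Normal, L ≤ N ∧ L ≠ ⊥ ∧
      ∃ (S : Type) (_ : Group S) (_ : IsSimpleGroup S) (_ : Finite S) (k : ℕ), 1 ≤ k ∧ ¬ IsMulCommutative S ∧
        Nonempty (L ≃* (Fin k → S)) := by
    intro N hN hNb
    obtain ⟨L, hL, hLN, hLb, hmin⟩ := H671.Frame.exists_minNormal hN hNb
    have hna : ¬ IsMulCommutative L := fun h => hLb (hnc L hL (Group.isSolvable_of_comm fun a b => h.is_comm.comm a b))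
    obtain ⟨S, iS, iS', k, hk, hS, ⟨e⟩⟩ := H671.Frame.minNormal_pi hL hLb hmin hna
    have hfS : Finite S := by
      have : Finite (Fin k → S) := Finite.of_equiv _ e.toEquiv
      have h0 : Fin k := ⟨0, hk⟩
      exact Finite.of_surjective (fun f : Fin k → S => f h0) fun s => ⟨fun _ => s, rfl⟩
    exact ⟨L, hL, hLN, hLb, S, iS, iS', hfS, k, hk, hS, ⟨e⟩⟩
  have hnt : (⊤ : Subgroup (G ⧸ R)) ≠ ⊥ := by
    intro h
    apply hG
    rw [← rad_eq_top_iff]
    have h1 : Subsingleton (G ⧸ R) := by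
      rw [← Subgroup.subsingleton_iff]
      exact subsingleton_of_bot_eq_top h.symm
    exact QuotientGroup.subgroup_eq_top_of_subsingleton _ h1
  obtain ⟨L, hL, -, hLb, S, iS, iS', hfS, k, hk, hna, ⟨e⟩⟩ := hmain ⊤ inferInstance hnt
  set P : Finset ℕ := (Nat.card S).primeFactors with hPdef
  have hPm : ∀ p, p ∈ P ↔ p.Prime ∧ p ∣ Nat.card S := fun p => by
    rw [hPdef, Nat.mem_primeFactors]
    exact ⟨fun h => ⟨h.1, h.2.1⟩, fun h => ⟨h.1, h.2, Nat.card_pos.ne'⟩⟩
  have hP3 : 3 ≤ P.card := three_le_primes hna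
  obtain ⟨O1, O2⟩ := rules Fa.ext c R L hna hk e (P := P) fun p hp hd => (hPm p).2 ⟨hp, hd⟩
  have hup : ∀ {n : ℕ}, H33.IM n L → H33.IM n G := fun h => (h.of_normal L).of_quotient R
  by_cases hk2 : 2 ≤ k
  · -- several factors
    refine (c.cub.clique O1 O2 hP3 fun a ha b hb hab => ?_).trans (by norm_num)
    obtain ⟨hap, haS⟩ := (hPm a).1 ha
    obtain ⟨hbp, hbS⟩ := (hPm b).1 hb
    obtain ⟨χ, hχ⟩ := Fa.im S hna a hap haS
    obtain ⟨ψ, hψ⟩ := Fa.im S hna b hbp hbS
    have hij : (⟨0, by omega⟩ : Fin k) ≠ ⟨1, by omega⟩ := by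
      intro h
      have h5 := congrArg Fin.val h
      exact absurd h5 (by norm_num)
    obtain ⟨ξ, hξ⟩ := H671.Link.pi_mul hij (a := charDegree (χ : S → ℂ)) (b := charDegree (ψ : S → ℂ)) ⟨χ, rfl⟩ ⟨ψ, rfl⟩
    have h1 : H33.IM (a * b) (Fin k → S) := ⟨ξ, by rw [hξ]; exact Nat.mul_dvd_mul hχ hψ⟩
    exact Cfsg.Agent.H988.DG.adj_iff.2 ⟨hab, hap, hbp, hup ((IM.congr e).2 h1)⟩
  have hk1 : k = 1 := by omega
  subst hk1
  have e' : L ≃* S := e.trans (MulEquiv.funUnique (Fin 1) S)
  by_cases hC : Subgroup.centralizer (L : Set (G ⧸ R)) = ⊥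
  swap
  · -- two minimal normal subgroups
    obtain ⟨M, hM, hMC, hMb, S2, iS2, iS2', hfS2, k2, hk2, hna2, ⟨e2⟩⟩ := hmain _ inferInstance hC
    have hcomm : ∀ a ∈ L, ∀ b ∈ M, a * b = b * a := fun a ha b hb => Subgroup.mem_centralizer_iff.1 (hMC hb) a ha
    have hint : L ⊓ M = ⊥ := by
      refine hnc _ inferInstance (Group.isSolvable_of_comm fun a b => Subtype.ext ?_)
      exact hcomm _ a.2.1 _ b.2.2
    set P2 : Finset ℕ := (Nat.card S2).primeFactors with hP2def
    have hPm2 : ∀ p, p ∈ P2 ↔ p.Prime ∧ p ∣ Nat.card S2 := fun p => by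
      rw [hP2def, Nat.mem_primeFactors]
      exact ⟨fun h => ⟨h.1, h.2.1⟩, fun h => ⟨h.1, h.2, Nat.card_pos.ne'⟩⟩
    have hP23 : 3 ≤ P2.card := three_le_primes hna2
    have hx : ∀ a ∈ P, ∀ b ∈ P2, a ≠ b → (degreeGraph G).Adj a b := by
      intro a ha b hb hab
      obtain ⟨hap, haS⟩ := (hPm a).1 ha
      obtain ⟨hbp, hbS⟩ := (hPm2 b).1 hb
      have h1 : H33.IM a L := (IM.congr e').2 (Fa.im S hna a hap haS)
      have h2 : H33.IM b M := by
        refine (IM.congr e2).2 ?_
        obtain ⟨ψ, hψ⟩ := Fa.im S2 hna2 b hbp hbS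
        obtain ⟨ξ, hξ⟩ := H671.Link.pi_one (⟨0, hk2⟩ : Fin k2) (a := charDegree (ψ : S2 → ℂ)) ⟨ψ, rfl⟩
        exact ⟨ξ, by rw [hξ]; exact hψ⟩
      exact Cfsg.Agent.H988.DG.adj_iff.2 ⟨hab, hap, hbp, (im_of_two L M hcomm hint h1 h2).of_quotient R⟩
    obtain ⟨O1', O2'⟩ := rules Fa.ext c R L hna hk e (P := P ∪ P2) fun p hp hd =>
      Finset.mem_union_left _ ((hPm p).2 ⟨hp, hd⟩)
    have h2 : 2 ∈ P := (hPm 2).2 ⟨Nat.prime_two, Fa.ev S hna⟩
    have h22 : 2 ∈ P2 := (hPm2 2).2 ⟨Nat.prime_two, Fa.ev S2 hna2⟩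
    have hc4 : (P ∪ P2).card ≤ 4 := by
      have h3 := c.cub.le3 (v := 2) ((P ∪ P2).erase 2) (fun z hz => by
        rw [Finset.mem_erase, Finset.mem_union] at hz
        rcases hz with ⟨hz, hz' | hz'⟩
        · exact (hx z hz' 2 h22 hz).symm
        · exact hx 2 h2 z hz' hz.symm)
      rw [Finset.card_erase_of_mem (Finset.mem_union_left _ h2)] at h3
      omega
    have hone : ∀ (A B : Finset ℕ), 3 ≤ B.card → (A ∪ B).card ≤ 4 → ∀ a ∈ A, ∀ b ∈ A, a ∉ B → b ∉ B → a = b := by
      intro A B hB hAB a ha b hb haB hbB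
      by_contra hne
      have h3 : (insert a (insert b B)).card = B.card + 2 := by
        rw [Finset.card_insert_of_notMem, Finset.card_insert_of_notMem hbB]
        rw [Finset.mem_insert]
        rintro (h4 | h4)
        · exact hne h4
        · exact haB h4
      have h4 : insert a (insert b B) ⊆ A ∪ B := by
        intro z hz
        rw [Finset.mem_insert, Finset.mem_insert] at hz
        rcases hz with rfl | rfl | hz
        · exact Finset.mem_union_left _ ha
        · exact Finset.mem_union_left _ hb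
        · exact Finset.mem_union_right _ hz
      have h5 := Finset.card_le_card h4
      omega
    refine (c.cub.clique O1' O2' (hP3.trans (Finset.card_le_card Finset.subset_union_left)) fun a ha b hb hab => ?_).trans
      (by norm_num)
    rw [Finset.mem_union] at ha hb
    by_cases ha1 : a ∈ P
    · by_cases hb2 : b ∈ P2
      · exact hx a ha1 b hb2 hab
      · have hb1 := hb.resolve_right hb2
        by_cases ha2 : a ∈ P2
        · exact (hx b hb1 a ha2 hab.symm).symm
        · exact absurd (hone P P2 hP23 hc4 a ha1 b hb1 ha2 hb2) hab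
    · have ha2 := ha.resolve_left ha1
      by_cases hb1 : b ∈ P
      · exact (hx b hb1 a ha2 hab.symm).symm
      · exact absurd (hone P2 P hP3 (by rwa [Finset.union_comm]) a ha2 b (hb.resolve_left hb1) ha1 hb1) hab
  by_cases hS : IsL2 S
  · -- `PSL(2,q)`
    obtain ⟨F, iF, iF', hF, ⟨e3⟩⟩ := hS
    have hmap : (L.comap (QuotientGroup.mk' R)).map (QuotientGroup.mk' R) = L :=
      Subgroup.map_comap_eq_self_of_surjective (QuotientGroup.mk'_surjective R) L
    refine hl2 G ⟨R, L.comap (QuotientGroup.mk' R), hRn, inferInstance, ?_, (rad_spec G).2.1, ?_, F, iF, iF', hF,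
      (MulEquiv.subgroupCongr hmap).trans (e'.trans e3), ?_⟩ V c
    · have := Subgroup.ker_le_comap (QuotientGroup.mk' R) L
      rwa [QuotientGroup.ker_mk'] at this
    · intro N hN hs
      exact le_rad hN hs
    · rw [hmap]
      exact hC
  -- other simple groups
  have hPd : ∀ p, p ∈ P ↔ p ∈ degreePrimes S := by
    intro p
    rw [hPm]
    constructor
    · rintro ⟨hp, hd⟩
      exact mem_dp_iff.2 ⟨hp, Fa.im S hna p hp hd⟩
    · intro h
      exact ⟨h.1, Cfsg.Agent.H671.Comp.dvd_card_of_mem h⟩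
  have hAdj : ∀ {a b : ℕ}, Adj a b S → (degreeGraph G).Adj a b := by
    intro a b h
    obtain ⟨h5, h6, h7, h8⟩ := Cfsg.Agent.H988.DG.adj_iff.1 h
    exact Cfsg.Agent.H988.DG.adj_iff.2 ⟨h5, h6, h7, hup ((IM.congr e').2 h8)⟩
  have hPV : P ⊆ V := by
    intro p hp
    obtain ⟨hp', hpS⟩ := (hPm p).1 hp
    exact (c.hV p).2 (mem_dp_iff.2 ⟨hp', hup ((IM.congr e').2 (Fa.im S hna p hp' hpS))⟩)
  rcases Fa.ind S hna hS with hF | hind
  · obtain ⟨x, a, b, d, f, hab, had, haf, hbd, hbf, hdf, h1, h2, h3, h4⟩ := hF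
    exact (c.cub.four (hAdj h1) (hAdj h2) (hAdj h3) (hAdj h4) hab had hbd haf hbf hdf).elim
  have hI : ∀ a ∈ P, ∀ b ∈ P, ∀ d ∈ P, a ≠ b → b ≠ d → a ≠ d →
      (degreeGraph G).Adj a b ∨ (degreeGraph G).Adj b d ∨ (degreeGraph G).Adj a d := by
    intro a ha b hb d hd hab hbd had
    rcases hind a ((hPd a).1 ha) b ((hPd b).1 hb) d ((hPd d).1 hd) hab hbd had with h | h | h
    · exact Or.inl (hAdj h)
    · exact Or.inr (Or.inl (hAdj h))
    · exact Or.inr (Or.inr (hAdj h))
  have hCo : ∀ Q ⊆ P, Q.Nonempty → Q ≠ P → ∃ a ∈ Q, ∃ b ∈ P, b ∉ Q ∧ (degreeGraph G).Adj a b := by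
    intro Q hQP hQn hQ
    obtain ⟨a, ha, b, hb, hbQ, hab⟩ := cross_edge (Fa.conn S hna hS) hPd hQP hQn hQ
    exact ⟨a, ha, b, hb, hbQ, hAdj hab⟩
  have hmemS : ∀ {a b : ℕ}, Adj a b S → a ∈ P := fun h => (hPd _).2 (mem_of_adj h)
  have hkite : Kite S → V.card ≤ 5 := by
    rintro (⟨x, y, w, z, hwz, h1, h2, h3, h4, h5⟩ | ⟨x, a, b, d, f, hab, had, haf, hbd, hbf, hdf, h1, h2, h3, h4⟩)
    · exact (c.cub.kite O1 O2 hI hCo (hmemS h1) (hmemS h3) (hmemS h2.symm) (hmemS h4.symm) hwz (hAdj h1) (hAdj h2)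
        (hAdj h3) (hAdj h4) (hAdj h5)).trans (by norm_num)
    · exact (c.cub.four (hAdj h1) (hAdj h2) (hAdj h3) (hAdj h4) hab had hbd haf hbf hdf).elim
  have h6 : P.card ≤ 6 := c.cub.big hPV hI hCo
  rcases Nat.lt_or_ge 4 P.card with h5 | h5
  · exact hkite (Fa.kite5 S hna hS (by rw [← hPdef]; omega) (by rw [← hPdef]; omega))
  rcases Nat.lt_or_ge 3 P.card with h4 | h4
  · rcases Fa.kite4 S hna hS (by rw [← hPdef]; omega) with h7 | ⟨a, b, d, r, har, hbr, hdr, hab, had, hbd, harr, hit, ohit⟩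
    · exact hkite h7
    · by_contra h8
      push Not at h8
      have hle := Finset.card_le_card_sdiff_add_card (s := V) (t := P)
      obtain ⟨x, hx, y, hy, hxy⟩ := Finset.one_lt_card.1 (show 1 < (V \ P).card by omega)
      rw [Finset.mem_sdiff] at hx hy
      have g1 := hAdj hab
      have g2 := hAdj had
      have g3 := hAdj hbd
      have g4 := hAdj harr
      have key : ∀ z ∈ V, z ∉ P → (degreeGraph G).Adj z b := by
        intro z hz hzP
        obtain ⟨hzp, -⟩ := (c.hV z).1 hz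
        have hzS : ¬ z ∣ Nat.card S := fun h => hzP ((hPm z).2 ⟨hzp, h⟩)
        have hin : ∀ t ∈ ({a, b} : Set ℕ), t.Prime ∧ t ∣ Nat.card S := by
          intro t ht
          rcases ht with rfl | ht
          · exact (hPm _).1 (hmemS hab)
          · rw [Set.mem_singleton_iff.1 ht]
            exact (hPm _).1 (hmemS hbd)
        obtain ⟨t, ht, hadj⟩ := hit_adj R L e' hC (fun t ht => (hin t ht).1) hit ohit ((c.hV z).1 hz) hzS
          (fun t ht => (hin t ht).2)
        rcases ht with rfl | ht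
        · exfalso
          have hz1 : b ≠ z := by rintro rfl; exact hzP (hmemS hbd)
          have hz2 : d ≠ z := by rintro rfl; exact hzP (hmemS hbd.symm)
          have hz3 : r ≠ z := by rintro rfl; exact hzP (hmemS harr.symm)
          exact c.cub.four g1 g2 g4 hadj.symm g3.ne hbr hdr hz1 hz2 hz3
        · rw [Set.mem_singleton_iff.1 ht] at hadj
          exact hadj
      have ea : ∀ z, z ∉ P → a ≠ z := by rintro z hz rfl; exact hz (hmemS hab)
      have ed : ∀ z, z ∉ P → d ≠ z := by rintro z hz rfl; exact hz (hmemS hbd.symm)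
      exact c.cub.four g1.symm g3 (key x hx.1 hx.2).symm (key y hy.1 hy.2).symm g2.ne (ea x hx.2) (ed x hx.2)
        (ea y hy.2) (ed y hy.2) hxy
  · -- three primes
    obtain ⟨a, b, d, hab, hbd, had⟩ := Fa.tri S hna hS
    have hPe : P = {a, b, d} := by
      symm
      apply Finset.eq_of_subset_of_card_le
      · intro z hz
        simp only [Finset.mem_insert, Finset.mem_singleton] at hz
        rcases hz with rfl | rfl | rfl
        · exact hmemS hab
        · exact hmemS hbd
        · exact hmemS hbd.symm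
      · rw [Finset.card_insert_of_notMem, Finset.card_insert_of_notMem, Finset.card_singleton]
        · exact h4
        · simpa using hbd.ne
        · simp only [Finset.mem_insert, Finset.mem_singleton]
          rintro (h7 | h7)
          · exact hab.ne h7
          · exact had.ne h7
    refine (c.cub.clique O1 O2 hP3 fun x hx y hy hxy => ?_).trans (by norm_num)
    rw [hPe] at hx hy
    simp only [Finset.mem_insert, Finset.mem_singleton] at hx hy
    rcases hx with rfl | rfl | rfl <;> rcases hy with rfl | rfl | rfl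
    · exact absurd rfl hxy
    · exact hAdj hab
    · exact hAdj had
    · exact (hAdj hab).symm
    · exact absurd rfl hxy
    · exact hAdj hbd
    · exact (hAdj had).symm
    · exact (hAdj hbd).symm
    · exact absurd rfl hxy

/-- **The non-solvable case.** -/
theorem nonsolv2 (Fa : SFacts2.{u}) (hOdd : FactOdd.{u}) (hEven : FactEven.{u}) {G : Type u} [Group G] [Finite G]
    (hG : ¬ Group.IsSolvable G) {V : Finset ℕ} (c : Reg3 G V) : V.card ≤ 5 :=
  red2 Fa (fun G _ _ T V c => l2 hOdd hEven G T V c) hG c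

theorem main2 (Fa : SFacts2.{u}) (hOdd : FactOdd.{u}) {G : Type u} [Group G] [Finite G]
    (hne : (Cfsg.degreePrimes G).Nonempty) :
    (∀ p ∈ Cfsg.degreePrimes G, Set.ncard {q : ℕ | (Cfsg.degreeGraph G).Adj p q} = 3) ↔
      (Set.ncard (Cfsg.degreePrimes G) = 4 ∧
        ∀ p ∈ Cfsg.degreePrimes G, ∀ q ∈ Cfsg.degreePrimes G, p ≠ q → (Cfsg.degreeGraph G).Adj p q) := by
  classical
  obtain ⟨V, hV⟩ := H988.DG.exists_finset G
  have hVm : ∀ p, p ∈ V ↔ p ∈ degreePrimes G := by
    intro p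
    rw [← hV, Finset.mem_coe]
  constructor
  · intro h
    have c : Reg3 G V := Reg3.mk' hV h
    have h5 : V.card ≤ 5 := by
      by_cases hG : Group.IsSolvable G
      · exact solvable_case hG c
      · exact nonsolv2 Fa hOdd H248.Reg.factEven hG c
    obtain ⟨x, hx⟩ := hne
    have h4 : 4 ≤ V.card := c.cub.four_le ⟨x, (hVm x).2 hx⟩
    have hev := c.cub.even
    have h44 : V.card = 4 := by
      obtain ⟨k, hk⟩ := hev
      omega
    refine ⟨by rw [← hV, Set.ncard_coe_finset, h44], fun p hp q hq hpq => ?_⟩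
    exact c.cub.complete h44 ((hVm p).2 hp) ((hVm q).2 hq) hpq
  · rintro ⟨h4, hall⟩ p hp
    have h1 : {q : ℕ | (degreeGraph G).Adj p q} = ((V.erase p : Finset ℕ) : Set ℕ) := by
      ext q
      rw [Set.mem_ofPred_eq, Finset.mem_coe, Finset.mem_erase, hVm]
      constructor
      · intro h
        exact ⟨h.ne.symm, mem_of_adj h.symm⟩
      · rintro ⟨h2, h3⟩
        exact hall p hp q h3 h2.symm
    rw [h1, Set.ncard_coe_finset, Finset.card_erase_of_mem ((hVm p).2 hp)]
    rw [← hV, Set.ncard_coe_finset] at h4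
    omega

end Cfsg.Agent.H670.Reg
end
end

-- part: H670/Reg/Final2
section
prune_inst 0x4a0100c602a2212000000001080000230400001001000000040a0010000010020000020000280000a102000000001002002000000400000000a000000000401209030000001000100860009001000000000000000000000000000000000000000000000000
set_option linter.all false
open scoped Cfsg.Agent.FastGrp

-- part: H296/KF/HexAlg
section
/-!
# The Hecke algebra of type `G₂` with parameters `8`, `2`: the collinearity operator `e b`

(after `Cfsg.Agent.H996.Deg.HexAlg`, which has the parameters `3`, `3`)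
-/

set_option autoImplicit false

namespace Cfsg.Agent.H296.KF.HexAlg

variable {R : Type*} [Ring R] {a b : R}

theorem ee (ha : a * a = 8 + 7 * a) : (1 + a) * (1 + a) = 9 * (1 + a) := by
  linear_combination (norm := (noncomm_ring; simp)) ha

theorem ea (ha : a * a = 8 + 7 * a) : (1 + a) * a = 8 * (1 + a) := by
  linear_combination (norm := (noncomm_ring; simp)) ha

theorem ae (ha : a * a = 8 + 7 * a) : a * (1 + a) = 8 * (1 + a) := by
  linear_combination (norm := (noncomm_ring; simp)) ha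

theorem h1 (ha : a * a = 8 + 7 * a) (hb : b * b = 2 + b) :
    (1 + a) * b * ((1 + a) * b * (1 + a)) =
      18 * (1 + a) + (1 + a) * b * (1 + a) + (1 + a) * b * a * b * (1 + a) := by
  linear_combination (norm := noncomm_ring) (1 + a) * hb * (1 + a) + 2 * ee ha

theorem h2 (ha : a * a = 8 + 7 * a) (hb : b * b = 2 + b) :
    (1 + a) * b * ((1 + a) * b * a * b * (1 + a)) =
      16 * ((1 + a) * b * (1 + a)) + (1 + a) * b * a * b * (1 + a) + (1 + a) * b * a * b * a * b * (1 + a) := by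
  linear_combination (norm := noncomm_ring) (1 + a) * hb * (a * b * (1 + a)) + 2 * (ea ha * (b * (1 + a)))

theorem h3 (ha : a * a = 8 + 7 * a) (hb : b * b = 2 + b) (hab : b * a * b * a * b * a = a * b * a * b * a * b) :
    (1 + a) * b * ((1 + a) * b * a * b * a * b * (1 + a)) =
      144 * ((1 + a) * b * a * b * (1 + a)) + 9 * ((1 + a) * b * a * b * a * b * (1 + a)) := by
  linear_combination (norm := noncomm_ring) (1 + a) * hb * (a * b * a * b * (1 + a)) +
    2 * (ea ha * (b * a * b * (1 + a))) + (1 + a) * hab * (b * (1 + a)) +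
    (1 + a) * (a * b * a * b * a) * hb * (1 + a) + ea ha * (b * a * b * a * (2 + b) * (1 + a)) +
    16 * ((1 + a) * b * a * b * ae ha)

/-- **The relation** `(A - 18)(A - 5)(A + 3)(A + 9) e = 0`, `A = e b` -/
theorem rel (ha : a * a = 8 + 7 * a) (hb : b * b = 2 + b) (hab : b * a * b * a * b * a = a * b * a * b * a * b) :
    (1 + a) * b * ((1 + a) * b * ((1 + a) * b * ((1 + a) * b * (1 + a)))) -
      11 * ((1 + a) * b * ((1 + a) * b * ((1 + a) * b * (1 + a)))) - 159 * ((1 + a) * b * ((1 + a) * b * (1 + a))) +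
      459 * ((1 + a) * b * (1 + a)) + 2430 * (1 + a) = 0 := by
  have k1 := h1 ha hb
  have k2 := h2 ha hb
  have k3 := h3 ha hb hab
  generalize hx1 : (1 + a) * b * (1 + a) = x1 at *
  generalize hx2 : (1 + a) * b * a * b * (1 + a) = x2 at *
  generalize hx3 : (1 + a) * b * a * b * a * b * (1 + a) = x3 at *
  generalize hz : (1 + a) * b = z at *
  rw [k1]
  have e1 : z * (18 * (1 + a) + x1 + x2) = 18 * x1 + (18 * (1 + a) + x1 + x2) + (16 * x1 + x2 + x3) := by
    rw [← hx1]
    rw [← hx1] at k1 k2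
    linear_combination (norm := noncomm_ring) k1 + k2
  rw [e1]
  have e2 : z * (18 * x1 + (18 * (1 + a) + x1 + x2) + (16 * x1 + x2 + x3)) =
      35 * (18 * (1 + a) + x1 + x2) + 18 * x1 + 2 * (16 * x1 + x2 + x3) + (144 * x2 + 9 * x3) := by
    have hz1 : z * (1 + a) = x1 := hx1
    linear_combination (norm := noncomm_ring) 18 * hz1 + 35 * k1 + 2 * k2 + k3
  rw [e2]
  noncomm_ring

end Cfsg.Agent.H296.KF.HexAlg
end

-- part: H296/KF/Hexagon
section
/-!
# The collinearity graph of a building of type `G₂` with parameters `(8, 2)`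

(after `Cfsg.Agent.H996.Deg.Hexagon`, which has the parameters `(3, 3)`)
-/

set_option autoImplicit false
set_option linter.unusedSectionVars false
set_option linter.unusedVariables false

namespace Cfsg.Agent.H296.KF.Hexagon

open Cfsg.Agent.H996.Deg Cfsg.Agent.H996.Deg.Hex Classical

section Traces

variable {C : Type*} [Fintype C] {a b : Matrix C C ℂ}

theorem sq_eb (hb : b * b = 2 + b) :
    (1 + a) * b * ((1 + a) * b) = 2 * (1 + a) + (1 + a) * b + (1 + a) * b * a * b := by
  linear_combination (norm := noncomm_ring) (1 + a) * hb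

theorem trace_sq (hb : b * b = 2 + b) (ta : a.trace = 0) (tb : b.trace = 0) (tab : (a * b).trace = 0)
    (t3 : (b * a * b).trace = 0) (t4 : (a * b * a * b).trace = 0) :
    ((1 + a) * b * ((1 + a) * b)).trace = 2 * Fintype.card C := by
  rw [sq_eb hb, Matrix.trace_add, Matrix.trace_add, trace_two, trace_e ta, trace_eb tb tab,
    trace_ebab t3 t4]
  ring

theorem trace_sixteen (x : Matrix C C ℂ) : (16 * x).trace = 16 * x.trace := by
  have e : (16 : Matrix C C ℂ) * x = 2 * (2 * (2 * (2 * x))) := by noncomm_ring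
  rw [e, trace_two, trace_two, trace_two, trace_two]
  ring

theorem trace_cb (ha : a * a = 8 + 7 * a) (hb : b * b = 2 + b) (ta : a.trace = 0) (tb : b.trace = 0)
    (tab : (a * b).trace = 0) (t3 : (b * a * b).trace = 0) (t4 : (a * b * a * b).trace = 0)
    (t5 : (b * a * b * a * b).trace = 0) (t6 : (a * b * a * b * a * b).trace = 0) :
    ((1 + a) * b * ((1 + a) * b * ((1 + a) * b))).trace = 2 * Fintype.card C := by
  have e1 : (1 + a) * b * ((1 + a) * b * ((1 + a) * b)) = 2 * ((1 + a) * b * (1 + a)) +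
      (1 + a) * b * ((1 + a) * b) + (16 * ((1 + a) * b) + (1 + a) * b * a * b +
        (b * a * b * a * b + a * b * a * b * a * b)) := by
    linear_combination (norm := noncomm_ring) (1 + a) * b * (1 + a) * hb + ((1 + a) * hb * (b - b)) +
      (1 + a) * hb * (a * b) + 2 * (HexAlg.ea ha * b)
  have e2 : ((1 + a) * b * (1 + a)).trace = 0 := by
    rw [Matrix.trace_mul_comm, ← mul_assoc, HexAlg.ee ha]
    have e3 : (9 : Matrix C C ℂ) * (1 + a) * b = 3 * (3 * ((1 + a) * b)) := by noncomm_ring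
    rw [e3, trace_three, trace_three, trace_eb tb tab, mul_zero, mul_zero]
  rw [e1, Matrix.trace_add, Matrix.trace_add, trace_two, e2, trace_sq hb ta tb tab t3 t4,
    Matrix.trace_add, Matrix.trace_add, trace_sixteen, trace_eb tb tab, trace_ebab t3 t4,
    Matrix.trace_add, t5, t6]
  ring

end Traces

section Col

variable {C X : Type*} [Fintype C] [Fintype X] (N : C → X)

/-- the relation and the traces for `J ᵀ b J` -/
theorem op (a b : Matrix C C ℂ) (ha : a * a = 8 + 7 * a) (hb : b * b = 2 + b)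
    (hab : b * a * b * a * b * a = a * b * a * b * a * b) (ta : a.trace = 0) (tb : b.trace = 0)
    (tab : (a * b).trace = 0) (t3 : (b * a * b).trace = 0) (t4 : (a * b * a * b).trace = 0)
    (t5 : (b * a * b * a * b).trace = 0) (t6 : (a * b * a * b * a * b).trace = 0)
    (j : Matrix C X ℂ) (k : Matrix X C ℂ)
    (hJ : j * k = 1 + a) (hJ' : k * j = (9 : ℂ) • 1) :
    ∃ x : Matrix X X ℂ, x = k * b * j ∧
      x * (x * (x * x)) - (11 : ℂ) • (x * (x * x)) - (159 : ℂ) • (x * x) + (459 : ℂ) • x + (2430 : ℂ) • 1 = 0 ∧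
      x.trace = 0 ∧ (x * x).trace = 18 * Fintype.card X ∧ (x * (x * x)).trace = 18 * Fintype.card X := by
  obtain ⟨x, hx⟩ : ∃ x, x = k * b * j := ⟨_, rfl⟩
  obtain ⟨y, hy⟩ : ∃ y, y = (1 + a) * b := ⟨_, rfl⟩
  have h1 : j * x = y * j := by
    rw [hx, hy, ← hJ, ← Matrix.mul_assoc, ← Matrix.mul_assoc]
  have h2 : (1 + a) * j = (9 : ℂ) • j := by
    rw [← hJ, Matrix.mul_assoc, hJ', Matrix.mul_smul, Matrix.mul_one]
  have hk : k * (1 + a) = (9 : ℂ) • k := by
    rw [← hJ, ← Matrix.mul_assoc, hJ', Matrix.smul_mul, Matrix.one_mul]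
  have step : ∀ z : Matrix X X ℂ, j * (x * z) = y * (j * z) := by
    intro z
    rw [← Matrix.mul_assoc, h1, Matrix.mul_assoc]
  have hcard : (Fintype.card C : ℂ) = 9 * Fintype.card X := by
    rw [← trace_e ta, ← hJ, Matrix.trace_mul_comm, hJ', Matrix.trace_smul, Matrix.trace_one, smul_eq_mul]
  have t1 : x.trace = 0 := by
    rw [hx, Matrix.trace_mul_comm, ← Matrix.mul_assoc, hJ, trace_eb tb tab]
  have t2 : (x * x).trace = 18 * Fintype.card X := by
    have e : (x * x).trace = ((1 + a) * b * ((1 + a) * b)).trace := by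
      conv_lhs => rw [hx]
      rw [Matrix.mul_assoc, Matrix.mul_assoc, Matrix.trace_mul_comm, ← hx, h1, hy]
      rw [Matrix.mul_assoc b, Matrix.mul_assoc ((1 + a) * b), hJ, Matrix.trace_mul_comm, ← Matrix.mul_assoc]
    rw [e, trace_sq hb ta tb tab t3 t4, hcard]
    ring
  have t3' : (x * (x * x)).trace = 18 * Fintype.card X := by
    have e : (x * (x * x)).trace = ((1 + a) * b * ((1 + a) * b * ((1 + a) * b))).trace := by
      conv_lhs => rw [hx]
      rw [Matrix.mul_assoc, Matrix.mul_assoc, Matrix.trace_mul_comm, ← hx, step, h1, hy]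
      rw [Matrix.mul_assoc b, Matrix.mul_assoc ((1 + a) * b), Matrix.mul_assoc ((1 + a) * b), hJ,
        Matrix.trace_mul_comm]
      congr 1
      noncomm_ring
    rw [e, trace_cb ha hb ta tb tab t3 t4 t5 t6, hcard]
    ring
  refine ⟨x, hx, ?_, t1, t2, t3'⟩
  -- the relation
  have hrel := HexAlg.rel ha hb hab
  rw [← hy] at hrel
  simp only [lit] at hrel
  have h3 : (9 : ℂ) • (j * (x * (x * (x * x)) - (11 : ℂ) • (x * (x * x)) - (159 : ℂ) • (x * x) + (459 : ℂ) • x +
      (2430 : ℂ) • 1)) = 0 := by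
    have h4 := congrArg (fun m : Matrix C C ℂ => m * j) hrel
    simp only [Matrix.zero_mul, Matrix.add_mul, Matrix.sub_mul, Matrix.smul_mul, Matrix.mul_assoc] at h4
    have h2' : j + a * j = (9 : ℂ) • j := by rw [← h2, Matrix.add_mul, Matrix.one_mul]
    simp only [Matrix.one_mul, h2', Matrix.mul_smul] at h4
    rw [← h4]
    simp only [Matrix.mul_add, Matrix.mul_sub, Matrix.mul_smul, step, h1, Matrix.mul_one, smul_add, smul_sub]
    simp only [smul_comm (9 : ℂ)]
  have h5 : j * (x * (x * (x * x)) - (11 : ℂ) • (x * (x * x)) - (159 : ℂ) • (x * x) + (459 : ℂ) • x +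
      (2430 : ℂ) • 1) = 0 := (smul_eq_zero.1 h3).resolve_left (by norm_num)
  have h6 := congrArg (fun m => k * m) h5
  simp only [Matrix.mul_zero] at h6
  rw [← Matrix.mul_assoc, hJ', Matrix.smul_mul, Matrix.one_mul] at h6
  exact (smul_eq_zero.1 h6).resolve_left (by norm_num)

end Col

section Idem

open Cfsg Cfsg.Agent.H996.Deg.IrrRank MulAction

variable {X : Type*} [Fintype X]

/-- the four idempotents -/
noncomputable def Q (x : Matrix X X ℂ) : Fin 4 → Matrix X X ℂ :=
  ![(1 / 7371 : ℂ) • (x * (x * x) + (7 : ℂ) • (x * x) - (33 : ℂ) • x - (135 : ℂ) • 1),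
    (-1 / 1456 : ℂ) • (x * (x * x) - (6 : ℂ) • (x * x) - (189 : ℂ) • x - (486 : ℂ) • 1),
    (1 / 1008 : ℂ) • (x * (x * x) - (14 : ℂ) • (x * x) - (117 : ℂ) • x + (810 : ℂ) • 1),
    (-1 / 2268 : ℂ) • (x * (x * x) - (20 : ℂ) • (x * x) + (21 : ℂ) • x + (270 : ℂ) • 1)]

theorem sum_Q (x : Matrix X X ℂ) : ∑ k, Q x k = 1 := by
  rw [Fin.sum_univ_four]
  simp only [Q, Matrix.cons_val]
  module

theorem idem_Q {x : Matrix X X ℂ} (h : x * (x * (x * x)) - (11 : ℂ) • (x * (x * x)) - (159 : ℂ) • (x * x) +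
    (459 : ℂ) • x + (2430 : ℂ) • 1 = 0) (k : Fin 4) : Q x k * Q x k = Q x k := by
  have h' : x * (x * (x * x)) = (11 : ℂ) • (x * (x * x)) + (159 : ℂ) • (x * x) - (459 : ℂ) • x - (2430 : ℂ) • 1 := by
    rw [← sub_eq_zero, ← h]
    module
  fin_cases k
  · refine idem_aux (x := x) (t := 18) (c2 := 7) (c1 := -33) (c0 := -135) ?_ ?_ (by norm_num)
    · module
    · simp only [Matrix.mul_sub, Matrix.mul_add, Matrix.mul_smul, Matrix.mul_one, h']
      module
  · refine idem_aux (x := x) (t := 5) (c2 := -6) (c1 := -189) (c0 := -486) ?_ ?_ (by norm_num)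
    · module
    · simp only [Matrix.mul_sub, Matrix.mul_smul, Matrix.mul_one, h']
      module
  · refine idem_aux (x := x) (t := -3) (c2 := -14) (c1 := -117) (c0 := 810) ?_ ?_ (by norm_num)
    · module
    · simp only [Matrix.mul_sub, Matrix.mul_add, Matrix.mul_smul, Matrix.mul_one, h']
      module
  · refine idem_aux (x := x) (t := -9) (c2 := -20) (c1 := 21) (c0 := 270) ?_ ?_ (by norm_num)
    · module
    · simp only [Matrix.mul_sub, Matrix.mul_add, Matrix.mul_smul, Matrix.mul_one, h']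
      module

theorem trace_Q {x : Matrix X X ℂ} (t1 : x.trace = 0) (t2 : (x * x).trace = 18 * Fintype.card X)
    (t3 : (x * (x * x)).trace = 18 * Fintype.card X) :
    (Q x 0).trace = (Fintype.card X : ℂ) / 819 ∧ (Q x 1).trace = 324 * ((Fintype.card X : ℂ) / 819) ∧
    (Q x 2).trace = 468 * ((Fintype.card X : ℂ) / 819) ∧ (Q x 3).trace = 26 * ((Fintype.card X : ℂ) / 819) := by
  refine ⟨?_, ?_, ?_, ?_⟩ <;>
  · simp only [Q, Matrix.cons_val, Matrix.trace_smul, Matrix.trace_sub, Matrix.trace_add, t1, t2, t3, Matrix.trace_one,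
      smul_eq_mul]
    ring

/-- **The degrees of the constituents** -/
theorem degrees {G : Type*} [Group G] [Fintype G] [MulAction G X] [Nonempty X] {x : Matrix X X ℂ} (hx : Inv G x)
    (h : x * (x * (x * x)) - (11 : ℂ) • (x * (x * x)) - (159 : ℂ) • (x * x) + (459 : ℂ) • x + (2430 : ℂ) • 1 = 0)
    (t1 : x.trace = 0) (t2 : (x * x).trace = 18 * Fintype.card X) (t3 : (x * (x * x)).trace = 18 * Fintype.card X)
    (hr : Nat.card (orbitRel.Quotient G (X × X)) ≤ 4) :
    ∃ d : ℕ, Fintype.card X = 819 * d ∧ d ≠ 0 ∧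
      ∀ m ∈ ({1, 324, 468, 26} : Finset ℕ), ∃ χ : IrrCharacter G, charDegree (χ : G → ℂ) = m * d := by
  obtain ⟨q0, q1, q2, q3⟩ := trace_Q t1 t2 t3
  have hX : (Fintype.card X : ℂ) ≠ 0 := by exact_mod_cast Fintype.card_ne_zero
  have hX' : (Fintype.card X : ℂ) / 819 ≠ 0 := div_ne_zero hX (by norm_num)
  have hinv : ∀ k, Inv G (Q x k) := by
    intro k
    have h2 := hx.mul hx
    have h3 := hx.mul h2
    have h1 : Inv G (1 : Matrix X X ℂ) := Inv.one
    fin_cases k
    · exact ((((h3.add (h2.smul 7)).sub (hx.smul 33)).sub (h1.smul 135)).smul _)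
    · exact ((((h3.sub (h2.smul 6)).sub (hx.smul 189)).sub (h1.smul 486)).smul _)
    · exact ((((h3.sub (h2.smul 14)).sub (hx.smul 117)).add (h1.smul 810)).smul _)
    · exact ((((h3.sub (h2.smul 20)).add (hx.smul 21)).add (h1.smul 270)).smul _)
  have key := exists_irr (G := G) (Q x) hinv (idem_Q h) (by
    intro k
    fin_cases k
    · exact q0 ▸ hX'
    · exact q1 ▸ mul_ne_zero (by norm_num) hX'
    · exact q2 ▸ mul_ne_zero (by norm_num) hX'
    · exact q3 ▸ mul_ne_zero (by norm_num) hX') (sum_Q x) (by rw [Fintype.card_fin]; exact hr)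
  obtain ⟨χ₀, e0⟩ := key 0
  obtain ⟨χ₁, e1⟩ := key 1
  obtain ⟨χ₂, e2⟩ := key 2
  obtain ⟨χ₃, e3⟩ := key 3
  rw [q0] at e0
  rw [q1, ← e0] at e1
  rw [q2, ← e0] at e2
  rw [q3, ← e0] at e3
  refine ⟨charDegree (χ₀ : G → ℂ), ?_, ?_, ?_⟩
  · have h5 : (Fintype.card X : ℂ) = 819 * charDegree (χ₀ : G → ℂ) := by
      rw [e0]; ring
    exact_mod_cast h5
  · intro h5
    rw [h5, Nat.cast_zero] at e0
    exact hX' e0.symm
  · intro m hm
    simp only [Finset.mem_insert, Finset.mem_singleton] at hm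
    rcases hm with rfl | rfl | rfl | rfl
    · exact ⟨χ₀, by rw [one_mul]⟩
    · exact ⟨χ₁, by exact_mod_cast e1⟩
    · exact ⟨χ₂, by exact_mod_cast e2⟩
    · exact ⟨χ₃, by exact_mod_cast e3⟩

end Idem

end Cfsg.Agent.H296.KF.Hexagon
end

-- part: H296/KF/TwD
section
/-!
# The degrees `1, 324, 468, 26` of `³D₄(2)`

(after `Cfsg.Agent.H996.Deg.GThree`)
-/

set_option autoImplicit false
set_option linter.unusedSectionVars false
set_option linter.unusedVariables false

namespace Cfsg.Agent.H296.KF.TwD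

open Module Cfsg Cfsg.Agent.Tits.Core Cfsg.Agent.Tits.Core.Bldg Cfsg.Agent.Tits.Exchange Cfsg.Agent.H249 MulAction
  Cfsg.Agent.H996.Deg Cfsg.Agent.H996.Deg.Bd
  Cfsg.Agent.H996.Deg.CoxPar Cfsg.Agent.H996.Deg.Hk Cfsg.Agent.H996.Deg.Hex Classical
  Cfsg.Agent.ChevalleyStructure.CoxeterGeom CoxeterSystem

universe u v

section Bd

variable {I : Type*} [DecidableEq I] [Fintype I] {W : Type v} {Y : Type u} {C : Type*} [Group W] [Group Y]
  {M : CoxeterMatrix I} {cs : CoxeterSystem M W} {p : ℕ} [MulAction Y C] {D : Dat Y I p} {Δ : Bldg cs C} {c : C}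

/-- **The degrees of the constituents of `1_P^G`**, type `G₂`, root groups of order eight and two -/
theorem degrees (S : Bd D Δ c) {A : I → I → ℤ} (h : IsCartan M A) [Fintype Y] [Fintype C] {i j : I} (hij : i ≠ j)
    (hM : M i j = 6) (hi : Nat.card (D.X i) = 8) (hj : Nat.card (D.X j) = 2) (hdc : Nat.card (DC (cs.simple i)) ≤ 4) :
    ∃ d : ℕ, (D.P i).index = 819 * d ∧ d ≠ 0 ∧
      ∀ m ∈ ({1, 324, 468, 26} : Finset ℕ), ∃ χ : IrrCharacter Y, charDegree (χ : Y → ℂ) = m * d := by
  have : Fintype (Y ⧸ D.P i) := Fintype.ofFinite _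
  obtain ⟨hab, ta, tb, tab, t3, t4, t5, t6⟩ := rels h Δ hij hM
  have hcast : ∀ x : Matrix C C ℂ, ((8 : ℕ) : ℂ) • (1 : Matrix C C ℂ) + (((8 : ℕ) : ℂ) - 1) • x = 8 + 7 * x := by
    intro x
    have e1 : (8 : Matrix C C ℂ) = (8 : ℂ) • 1 := by rw [← lit, mul_one]
    rw [lit, e1]
    norm_num
  have hcast' : ∀ x : Matrix C C ℂ, ((2 : ℕ) : ℂ) • (1 : Matrix C C ℂ) + (((2 : ℕ) : ℂ) - 1) • x = 2 + x := by
    intro x
    have e1 : (2 : Matrix C C ℂ) = (2 : ℂ) • 1 := by rw [← lit, mul_one]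
    rw [e1]
    norm_num
  have ha := T_sq Δ (i := i) (q := 8) (fun x => by rw [S.card_panel, hi])
  have hb := T_sq Δ (i := j) (q := 2) (fun x => by rw [S.card_panel, hj])
  rw [hcast] at ha
  rw [hcast'] at hb
  have hJ : J (S.pn i) * (J (S.pn i)).transpose = 1 + T Δ (cs.simple i) := by
    ext y z
    rw [J_mul_transpose, Matrix.add_apply, Matrix.one_apply, T_apply]
    have hs1 : cs.simple i ≠ 1 := by
      intro h
      have := cs.length_simple i
      rw [h, cs.length_one] at this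
      exact absurd this (by norm_num)
    simp only [S.pn_eq_iff]
    by_cases h1 : y = z
    · subst h1
      rw [Δ.δ_self, if_pos (Or.inl rfl), if_pos rfl, if_neg (Ne.symm hs1), add_zero]
    · have h2 : Δ.δ y z ≠ 1 := fun h => h1 ((Δ.eq_one _ _).1 h)
      rw [if_neg h1, zero_add]
      simp only [h2, false_or]
  have hJ' : (J (S.pn i)).transpose * J (S.pn i) = (9 : ℂ) • 1 := by
    ext x y
    rw [transpose_mul_J, Matrix.smul_apply, Matrix.one_apply]
    by_cases hxy : x = y
    · subst hxy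
      rw [if_pos rfl, if_pos rfl, smul_eq_mul, mul_one]
      induction x using QuotientGroup.induction_on with
      | _ g =>
      have e1 : Nat.card {y // S.pn i y = (g : Y ⧸ D.P i)} = 9 := by
        have e2 : ∀ y, S.pn i y = (g : Y ⧸ D.P i) ↔ y ∈ insert (g • c) {y | Δ.δ (g • c) y = cs.simple i} := by
          intro y
          rw [← S.pn_smul, eq_comm, S.pn_eq_iff, Set.mem_insert_iff, Δ.eq_one, eq_comm]
          rfl
        have e3 : Nat.card {y // S.pn i y = (g : Y ⧸ D.P i)} =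
            (insert (g • c) {y | Δ.δ (g • c) y = cs.simple i} : Set C).ncard := by
          rw [← Nat.card_coe_set_eq]
          exact Nat.card_congr (Equiv.subtypeEquivRight e2)
        rw [e3, Set.ncard_insert_of_notMem, ← Nat.card_coe_set_eq]
        · have h6 := S.card_panel i (g • c)
          rw [hi] at h6
          have h7 : Nat.card ↑{y | Δ.δ (g • c) y = cs.simple i} = 8 := h6
          rw [h7]
        · intro h1
          have h2 : Δ.δ (g • c) (g • c) = cs.simple i := h1
          rw [Δ.δ_self] at h2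
          have := cs.length_simple i
          rw [← h2, cs.length_one] at this
          omega
      rw [e1]
      norm_num
    · rw [if_neg hxy, if_neg hxy, smul_zero]
  obtain ⟨x, hx, hrel, x1, x2, x3⟩ := Hexagon.op (T Δ (cs.simple i)) (T Δ (cs.simple j)) ha hb hab ta tb tab t3 t4 t5 t6
    (J (S.pn i)) (J (S.pn i)).transpose hJ (by convert hJ')
  have hJg : ∀ (g : Y) (f : C) (y : Y ⧸ D.P i), J (S.pn i) (g • f) (g • y) = J (S.pn i) f y := by
    intro g f y
    rw [J_apply, J_apply]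
    by_cases h1 : S.pn i f = y
    · rw [if_pos h1, if_pos (by rw [S.pn_equi, h1])]
    · rw [if_neg h1, if_neg (fun h2 => h1 (by rw [S.pn_equi] at h2; exact smul_left_cancel g h2))]
  have hinv : IrrRank.Inv Y x := by
    intro g y z
    rw [hx, Matrix.mul_apply, Matrix.mul_apply, ← Equiv.sum_comp (MulAction.toPerm g)]
    refine Finset.sum_congr rfl fun e _ => ?_
    rw [MulAction.toPerm_apply, Matrix.mul_apply, Matrix.mul_apply, ← Equiv.sum_comp (MulAction.toPerm g)]
    congr 1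
    · refine Finset.sum_congr rfl fun f _ => ?_
      rw [MulAction.toPerm_apply, Matrix.transpose_apply, Matrix.transpose_apply, hJg, T_apply, T_apply, S.iso]
    · exact hJg g e z
  obtain ⟨d, h1, h2, h3⟩ := Hexagon.degrees (G := Y) hinv hrel x1 x2 x3 (by rw [S.card_orbits]; exact hdc)
  refine ⟨d, ?_, h2, h3⟩
  rw [Subgroup.index, Nat.card_eq_fintype_card, h1]

end Bd

section RGD

open Cfsg Cfsg.Agent.Tits.Roots
  Cfsg.Agent.Nodes.Reps Cfsg.Agent.Nodes.BNOf Cfsg.Agent.Nodes.StabComb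
  Cfsg.Agent.Nodes.Bruhat Cfsg.Agent.Nodes.OppDec Cfsg.Agent.Nodes.LeviDec Cfsg.Agent.H167.SteinbergRGD
open Cfsg.Agent.H249.OfRGD

variable {I W Y : Type*} [Fintype I] [DecidableEq I] [Group W] [Group Y] {M : CoxeterMatrix I}
  {cs : CoxeterSystem M W} {A : I → I → ℤ} {h : IsCartan M A} {p : ℕ} {T : Subgroup Y} {n : I → Y}
  {X : (I → ℤ) → Subgroup Y}

theorem degrees_of_rgd (R : RGD cs h p T n X) [Finite W] [Fintype Y] (hp : p.Prime) (hG : GG cs h T X = ⊤)
    {i j : I} (hij : i ≠ j) (hI : ∀ k : I, k = i ∨ k = j) (hM : M i j = 6)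
    (hi : Nat.card (X (sr i)) = 8) (hj : Nat.card (X (sr j)) = 2) :
    ∃ d : ℕ, ((dat R hp hG).P i).index = 819 * d ∧ d ≠ 0 ∧
      ∀ m ∈ ({1, 324, 468, 26} : Finset ℕ), ∃ χ : IrrCharacter Y, charDegree (χ : Y → ℂ) = m * d := by
  obtain ⟨Δ, S⟩ := exists_bd R hp hG
  have := Fintype.ofFinite (Y ⧸ RGD.B cs h T X)
  exact degrees S h hij hM hi hj (Bd.card_DC_le hI hM)

end RGD

section D4

open Cfsg Cfsg.Lie Cfsg.Agent.Tits.Roots Cfsg.Agent.Nodes.Reps Cfsg.Agent.Nodes.BNOf
  Cfsg.Agent.Nodes.BNOf.RGD Cfsg.Agent.Nodes.RGDChev Cfsg.Agent.Nodes.RGDFold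
open Cfsg.Agent.Nodes.Bruhat Cfsg.Agent.Nodes.LeviDec
open Cfsg.Agent.ChevalleyStructure Cfsg.Agent.ChevalleyStructure.TwistedU
open Cfsg.Agent.Nodes.RGDFoldSL
open Cfsg.Agent.ChevalleyStructure.SL2Hom (up lo mem_closure_SL2)
open Cfsg.Agent.BiChar.TwDFour

/-- the order of the root group of the node `1` -/
theorem card_X1 {K : Type} [Field K] [Fintype K] {q : ℕ} {φ : K →+* K} (hφ : ∀ x, φ x = x ^ q)
    (hle : twistedD4 K q ≤ D4Fixed.fix φ)
    (hK : Fintype.card K = q ^ 3) : Nat.card (Nodes.RGDTwD4.X φ q (sr 1)) = q ^ 3 := by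
  have h1 : Nat.card (Fx φ ((Nodes.RGDTwNode.D4.rest 1).length + 1)) = q ^ 3 := by
    rw [← hK, ← Nat.card_eq_fintype_card]
    refine Nat.card_congr (Equiv.subtypeUnivEquiv fun a => ?_)
    rw [mem_Fx]
    show φ (φ (φ a)) = a
    rw [hφ, hφ, hφ, ← pow_mul, ← pow_mul]
    have e : q * (q * q) = q ^ 3 := by ring
    rw [e, ← hK]
    exact FiniteField.pow_card a
  refine Eq.trans ?_ h1
  symm
  refine Nat.card_congr (Equiv.ofBijective (fun t => (⟨_root_.Cfsg.Agent.BiChar.TwDFour.Ph hφ hle 1 (up t), (mem_X hφ hle 1 _).2 ⟨t, rfl⟩⟩ :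
    Nodes.RGDTwD4.X φ q (sr 1))) ⟨fun a b hab => H115.HC.TwDFour.up_inj hφ hle 1 (congrArg Subtype.val hab), ?_⟩)
  rintro ⟨g, hg⟩
  obtain ⟨t, ht⟩ := (mem_X hφ hle 1 g).1 hg
  exact ⟨t, Subtype.ext ht.symm⟩

/-- **Irreducible characters of the degrees `1, 324, 468, 26` (times `d`)** of `³D₄(2)` -/
theorem degrees_D4 {K : Type} [Field K] [Fintype K] (hK : Fintype.card K = 2 ^ 3) :
    ∃ d : ℕ, d ≠ 0 ∧ ∀ m ∈ ({1, 324, 468, 26} : Finset ℕ), ∃ χ : IrrCharacter ↥(twistedD4 K 2),
      charDegree (χ : ↥(twistedD4 K 2) → ℂ) = m * d := by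
  have hq : IsPrimePow 2 := Nat.prime_two.isPrimePow
  obtain ⟨φ, hφ⟩ := D4Fixed.exists_frob hq hK
  have hle := D4Fixed.twisted_le_fix hK hφ
  obtain ⟨p, hch⟩ := CharP.exists K
  have : Fact p.Prime := ⟨CharP.char_is_prime K p⟩
  have hfin : Finite ↥(twistedD4 K 2) := inferInstance
  have := Fintype.ofFinite ↥(twistedD4 K 2)
  have : Finite CoxeterMatrix.G₂.Group :=
    Nodes.RGDChev.finite_W Cfsg.Agent.BiChar.GTwo.isType CoxeterMatrix.G₂.toCoxeterSystem
  have R := Nodes.RGDTwD4.rgd (K := K) CoxeterMatrix.G₂.toCoxeterSystem hK hφ p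
  obtain ⟨d, -, h1, h2⟩ := degrees_of_rgd R Fact.out (H115.HC.TwDFour.GG_top hφ hK) (i := 1) (j := 0) (by decide)
    (by decide) (by decide) (by rw [card_X1 hφ hle hK]; norm_num)
    (by rw [H115.HC.TwDFour.card_X0 hφ hle hq.one_lt hK])
  exact ⟨d, h1, h2⟩

end D4

end Cfsg.Agent.H296.KF.TwD
end

-- part: H296/KF/Kites
section
/-!
# S4919: `Kite` for `G₂(3)` and `³D₄(2)`
-/

set_option autoImplicit false

namespace Cfsg.Agent.H296.KF

open Cfsg Cfsg.Agent.H671.H5 Cfsg.Agent.H670.Reg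

universe u v

theorem adj_congr {S : Type u} {S' : Type v} [Group S] [Group S'] (e : S ≃* S') {p q : ℕ} (h : Adj p q S') :
    Adj p q S := by
  have h1 : Cfsg.degreeGraph S = Cfsg.degreeGraph S' := H424.DegTools.degreeGraph_congr e
  unfold H671.H5.Adj at *
  rw [h1]
  exact h

theorem Kite.congr {S : Type u} {S' : Type v} [Group S] [Group S'] (e : S ≃* S') (h : Kite S') : Kite S := by
  rcases h with ⟨u, v, w, z, h1, h2, h3, h4, h5, h6⟩ | ⟨u, a, b, c, d, h1, h2, h3, h4, h5, h6, h7, h8, h9, h10⟩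
  · exact Or.inl ⟨u, v, w, z, h1, adj_congr e h2, adj_congr e h3, adj_congr e h4, adj_congr e h5, adj_congr e h6⟩
  · exact Or.inr ⟨u, a, b, c, d, h1, h2, h3, h4, h5, h6, adj_congr e h7, adj_congr e h8, adj_congr e h9,
      adj_congr e h10⟩

theorem adj_of_deg {S : Type u} [Group S] {p q n : ℕ} (hp : p.Prime) (hq : q.Prime) (hpq : p ≠ q)
    (hn : ∃ χ : IrrCharacter S, charDegree (χ : S → ℂ) = n) (h : p * q ∣ n) : Adj p q S := by
  obtain ⟨χ, hχ⟩ := hn
  exact adj_iff.2 ⟨hpq, hp, hq, χ, by rw [hχ]; exact h⟩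

/-- **`Kite` for `G₂(3)`** -/
theorem kite_g2 {S : Type u} [Group S] (h : ∃ (F : Type) (_ : Field F) (_ : Fintype F), Fintype.card F = 3 ∧
    Nonempty (S ≃* ↥(Lie.chevG2.group F))) : Kite S := by
  obtain ⟨F, _, _, hF, ⟨e⟩⟩ := h
  refine Kite.congr e ?_
  obtain ⟨d, -, hd⟩ := H996.Deg.GThree.degrees_G2 (K := F) (by rw [Nat.card_eq_fintype_card, hF])
  have h104 := hd 104 (by decide)
  have h168 := hd 168 (by decide)
  have h91 := hd 91 (by decide)
  exact Or.inl ⟨2, 7, 3, 13, by norm_num,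
    adj_of_deg (by norm_num) (by norm_num) (by norm_num) h168 (Dvd.dvd.mul_right (by norm_num) _),
    adj_of_deg (by norm_num) (by norm_num) (by norm_num) h168 (Dvd.dvd.mul_right (by norm_num) _),
    adj_of_deg (by norm_num) (by norm_num) (by norm_num) h168 (Dvd.dvd.mul_right (by norm_num) _),
    adj_of_deg (by norm_num) (by norm_num) (by norm_num) h104 (Dvd.dvd.mul_right (by norm_num) _),
    adj_of_deg (by norm_num) (by norm_num) (by norm_num) h91 (Dvd.dvd.mul_right (by norm_num) _)⟩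

/-- **`Kite` for `³D₄(2)`** -/
theorem kite_td4 {S : Type u} [Group S] (h : ∃ (F : Type) (_ : Field F) (_ : Fintype F), Fintype.card F = 2 ^ 3 ∧
    Nonempty (S ≃* ↥(Lie.twistedD4 F 2))) : Kite S := by
  obtain ⟨F, _, _, hF, ⟨e⟩⟩ := h
  refine Kite.congr e ?_
  obtain ⟨d, -, hd⟩ := TwD.degrees_D4 hF
  have h468 := hd 468 (by decide)
  have hcard : Nat.card ↥(Lie.twistedD4 F 2) = 211341312 := by
    rw [S1067.result Nat.prime_two.isPrimePow hF]
    norm_num
  obtain ⟨χ, hχ⟩ := H115.HC.TwDFour.big (q := 2) Nat.prime_two.isPrimePow hF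
  have h3 := hχ 3 (by norm_num) (by rw [hcard]; norm_num) (by norm_num)
  have h7 := hχ 7 (by norm_num) (by rw [hcard]; norm_num) (by norm_num)
  have h13 := hχ 13 (by norm_num) (by rw [hcard]; norm_num) (by norm_num)
  exact Or.inl ⟨3, 13, 2, 7, by norm_num,
    adj_of_deg (by norm_num) (by norm_num) (by norm_num) h468 (Dvd.dvd.mul_right (by norm_num) _),
    adj_of_deg (by norm_num) (by norm_num) (by norm_num) h468 (Dvd.dvd.mul_right (by norm_num) _),
    adj_of_deg (by norm_num) (by norm_num) (by norm_num) h468 (Dvd.dvd.mul_right (by norm_num) _),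
    adj_of_deg (by norm_num) (by norm_num) (by norm_num) ⟨χ, rfl⟩
      (Nat.Coprime.mul_dvd_of_dvd_of_dvd (by norm_num) h3 h7),
    adj_of_deg (by norm_num) (by norm_num) (by norm_num) ⟨χ, rfl⟩
      (Nat.Coprime.mul_dvd_of_dvd_of_dvd (by norm_num) h13 h7)⟩

end Cfsg.Agent.H296.KF
end

-- part: H730/Hit/RowM11
section
/-!
# `Paw` for `M₁₁` (helper730, task HIT1 of S4919)
-/

set_option autoImplicit false

namespace Cfsg.Agent.H730.Hit

open Cfsg Cfsg.Agent.Characters.Core

universe u v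

theorem exists_deg_m11 {S : Type v} [Group S] [Finite S] (h : Cfsg.IsM11 S) {d : ℕ}
    (hd : d ∈ [10, 44, 45, 55]) : ∃ χ : IrrCharacter S, charDegree (χ : S → ℂ) = d := by
  obtain ⟨e, he⟩ := H590.MElevenDeg.exists_equiv h
  have key : ∀ i : Fin 10, ∃ χ : IrrCharacter S, charDegree (χ : S → ℂ) = H590.MElevenDeg.deg10 i := fun i =>
    ⟨e i, by
      have h1 := he i
      simp [charDegree, h1]⟩
  simp only [List.mem_cons, List.not_mem_nil, or_false] at hd
  rcases hd with rfl | rfl | rfl | rfl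
  · exact key 1
  · exact key 8
  · exact key 4
  · exact key 9

theorem adj_m11 {S : Type v} [Group S] [Finite S] (h : Cfsg.IsM11 S) {p q d : ℕ}
    (hd : d ∈ [10, 44, 45, 55]) (hp : p.Prime) (hq : q.Prime) (hpq : p ≠ q) (hdvd : p * q ∣ d) :
    H671.H5.Adj p q S := by
  obtain ⟨χ, hχ⟩ := exists_deg_m11 h hd
  exact H671.H5.adj_iff.2 ⟨hpq, hp, hq, χ, by rw [hχ]; exact hdvd⟩

/-- **`M₁₁`.** -/
theorem paw_m11 {S : Type v} [Group S] (h : Cfsg.Spor.IsoM11 S) : H670.Reg.Paw.{u, v} S := by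
  have hM := UGT.End.MEleven.isM11 h
  have hfin : Finite S := Nat.finite_of_card_ne_zero (by rw [hM.2]; norm_num)
  have p2 : Nat.Prime 2 := by norm_num
  have p3 : Nat.Prime 3 := by norm_num
  have p5 : Nat.Prime 5 := by norm_num
  have p11 : Nat.Prime 11 := by norm_num
  refine ⟨5, 2, 11, 3, by norm_num, by norm_num, by norm_num, adj_m11 hM (d := 10) (by simp) p5 p2 (by norm_num) (by norm_num),
    adj_m11 hM (d := 55) (by simp) p5 p11 (by norm_num) (by norm_num),
    adj_m11 hM (d := 44) (by simp) p2 p11 (by norm_num) (by norm_num),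
    adj_m11 hM (d := 45) (by simp) p5 p3 (by norm_num) (by norm_num),
    hit_of p5 hM.2 (by norm_num) (fun y hy => (SporadicA.M11Facts.card_centralizer_five hM hy).le) chk_m11, ?_⟩
  intro Γ _ _ N _ ⟨e⟩ hc t ht htN _
  exfalso
  have h1 := H545.PQ.index_dvd_out N hc
  rw [show (MulAut.conj : N →* MulAut N).range.index = Nat.card (Cfsg.Out N) from rfl] at h1
  obtain ⟨e'⟩ := h
  rw [H55.OutGen.card_out_congr (e.trans e'), Cfsg.Agent.S2060.result] at h1
  exact ht.one_lt.ne' (Nat.dvd_one.1 (htN.trans h1))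

end Cfsg.Agent.H730.Hit
end

-- part: H730/Hit/RowL34
section
/-!
# `Paw` for `PSL₃(4)` (helper730, task HIT1 of S4919)
-/

set_option autoImplicit false

namespace Cfsg.Agent.H730.Hit

open Cfsg Cfsg.Agent.Characters.Core

universe u v w

section

variable {F : Type w} [Field F] [Fintype F]

theorem orderOf_l34 (hF : Fintype.card F = 4) (x : Matrix.ProjectiveSpecialLinearGroup (Fin 3) F) :
    orderOf x ∣ 7 ∨ orderOf x ∣ 5 ∨ orderOf x ∣ 3 ∨ orderOf x ∣ 4 := by
  have : Fact (Nat.Prime 2) := ⟨Nat.prime_two⟩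
  have hchar : CharP F 2 := charP_of_card_eq_prime_pow (p := 2) (f := 2) (by rw [hF]; norm_num)
  have h1 : orderOf x ∈ Set.range (orderOf : Matrix.ProjectiveSpecialLinearGroup (Fin 3) F → ℕ) := ⟨x, rfl⟩
  rw [Cfsg.Agent.S2476.result 2, Set.mem_ofPred_eq, hF] at h1
  norm_num only [_root_.true_and] at h1
  rcases h1 with h | h | h | h | h
  · exact Or.inl h
  · exact Or.inr (Or.inl h)
  · exact Or.inr (Or.inr (Or.inl h))
  · exact Or.inr (Or.inr (Or.inr (h.trans (by norm_num))))
  · exact Or.inr (Or.inr (Or.inr h))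

theorem card_l34 (hF : Fintype.card F = 4) : Nat.card (Matrix.ProjectiveSpecialLinearGroup (Fin 3) F) = 20160 := by
  have h := Cfsg.Agent.S0243.result (F := F) hF 3 (by norm_num)
  norm_num only [Fin.prod_univ_succ, _root_.Fin.coe_ofNat_eq_mod, _root_.pow_zero, _root_.Nat.add_one_sub_one, _root_.Fin.val_succ, _root_.zero_add, _root_.pow_one, _root_.Finset.univ_unique, _root_.Fin.default_eq_zero, _root_.Fin.val_eq_zero, _root_.Finset.prod_const, _root_.Finset.card_singleton] at h
  omega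

theorem centralizer_five_l34 (hF : Fintype.card F = 4) (y : Matrix.ProjectiveSpecialLinearGroup (Fin 3) F)
    (hy : orderOf y = 5) :
    Nat.card (Subgroup.centralizer ({y} : Set (Matrix.ProjectiveSpecialLinearGroup (Fin 3) F))) ≤ 5 := by
  have hcard := card_l34 hF
  have hfin : Finite (Matrix.ProjectiveSpecialLinearGroup (Fin 3) F) :=
    Nat.finite_of_card_ne_zero (by rw [hcard]; norm_num)
  set C := Subgroup.centralizer ({y} : Set (Matrix.ProjectiveSpecialLinearGroup (Fin 3) F)) with hC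
  have hC0 : Nat.card C ≠ 0 := Nat.card_pos.ne'
  have h1 : ∀ {q : ℕ}, q.Prime → q ∣ Nat.card C → q = 5 := by
    intro q hq hqC
    by_contra hne
    have : Fact q.Prime := ⟨hq⟩
    obtain ⟨z, hz⟩ := exists_prime_orderOf_dvd_card' q hqC
    have hcomm : Commute y (z : Matrix.ProjectiveSpecialLinearGroup (Fin 3) F) :=
      (Subgroup.mem_centralizer_singleton_iff.1 z.2).symm
    have hz' : orderOf (z : Matrix.ProjectiveSpecialLinearGroup (Fin 3) F) = q := by rw [Subgroup.orderOf_coe, hz]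
    have h2 : orderOf (y * z) = 5 * q := by
      rw [hcomm.orderOf_mul_eq_mul_orderOf_of_coprime, hy, hz']
      rw [hy, hz']
      exact (Nat.coprime_primes (by norm_num) hq).2 (Ne.symm hne)
    have h3 := orderOf_l34 hF (y * z)
    rw [h2] at h3
    rcases h3 with h | h | h | h
    all_goals
      have h4 := Nat.le_of_dvd (by norm_num) h
      have h5 := hq.two_le
      (clear * - hz hz' h4 h5; omega)
  have h2 : Nat.card C = 5 ^ (Nat.card C).primeFactorsList.length := Nat.eq_prime_pow_of_unique_prime_dvd hC0 h1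
  set k := (Nat.card C).primeFactorsList.length with hk
  have h3 : 5 ^ k ∣ 20160 := by rw [← h2, ← hcard]; exact Subgroup.card_subgroup_dvd_card C
  have h4 : k < 2 := by
    by_contra h
    have h5 : 5 ^ 2 ∣ 20160 := (pow_dvd_pow 5 (by omega)).trans h3
    norm_num at h5
  rw [h2]
  have h5 : k = 0 ∨ k = 1 := by omega
  rcases h5 with h5 | h5 <;> rw [h5] <;> norm_num

theorem adj_l34 (hF : Fintype.card F = 4) :
    H671.H5.Adj 5 3 (Matrix.ProjectiveSpecialLinearGroup (Fin 3) F) ∧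
    H671.H5.Adj 5 7 (Matrix.ProjectiveSpecialLinearGroup (Fin 3) F) ∧
    H671.H5.Adj 3 7 (Matrix.ProjectiveSpecialLinearGroup (Fin 3) F) ∧
    H671.H5.Adj 5 2 (Matrix.ProjectiveSpecialLinearGroup (Fin 3) F) := by
  classical
  have p2 : Nat.Prime 2 := by norm_num
  have p3 : Nat.Prime 3 := by norm_num
  have p5 : Nat.Prime 5 := by norm_num
  have p7 : Nat.Prime 7 := by norm_num
  have hC : ∀ m, 1 ≤ m → H113.PSL.Degrees.HasCusp F m := fun m hm => H113.PSL.Main.hasCusp F m hm
  obtain ⟨φA, hφA⟩ := H113.PSL.Facts.exA (le_refl 3) (hC 3 (by omega))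
  obtain ⟨φB, hφB⟩ := H113.PSL.Facts.exB (le_refl 3) (hC (3 - 1) (by omega))
  obtain ⟨φC, hφC⟩ := H113.PSL.Facts.exC (F := F) (n := 3) (by omega)
  obtain ⟨φ, t, ht, hφ⟩ := H113.PSL.Three.exists_ps (F := F) (by rw [hF])
  have A3 := hφA 3 ⟨1, le_rfl, by omega, by rw [hF]; norm_num⟩
  have A5 := hφA 5 ⟨2, by omega, by omega, by rw [hF]; norm_num⟩
  have B3 := hφB 3 p3 (Or.inr ⟨1, le_rfl, by omega, by rw [hF]; norm_num⟩)
  have B7 := hφB 7 p7 (Or.inl (by rw [hF]; norm_num))
  have C2 := hφC 2 (Or.inl (by rw [hF]; norm_num))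
  have C5 := hφC 5 (Or.inr (by rw [hF]; simp [Finset.sum_range_succ]))
  rw [hF] at ht hφ
  have hmul : charDegree (φ : Matrix.ProjectiveSpecialLinearGroup (Fin 3) F → ℂ) * t = 105 := by
    norm_num at hφ
    omega
  have ht3 : t ∣ 3 := ht.trans (by norm_num)
  have D : ∀ r : ℕ, r.Prime → r ≠ 3 → r ∣ 105 → r ∣ charDegree (φ : Matrix.ProjectiveSpecialLinearGroup (Fin 3) F → ℂ) := by
    intro r hr h3 h
    rw [← hmul] at h
    refine (hr.dvd_mul.1 h).resolve_right fun h4 => h3 ?_
    exact (Nat.prime_dvd_prime_iff_eq hr p3).1 (h4.trans ht3)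
  exact ⟨H113.PSL.Facts.adj_of p5 p3 (by norm_num) A5 A3,
    H113.PSL.Facts.adj_of p5 p7 (by norm_num) (D 5 p5 (by norm_num) (by norm_num)) (D 7 p7 (by norm_num) (by norm_num)),
    H113.PSL.Facts.adj_of p3 p7 (by norm_num) B3 B7,
    H113.PSL.Facts.adj_of p5 p2 (by norm_num) C5 C2⟩

end

/-- **`PSL₃(4)`.** -/
theorem paw_l34 {S : Type v} [Group S] {F : Type} [Field F] [Fintype F] (hF : Fintype.card F = 4)
    (e : S ≃* Matrix.ProjectiveSpecialLinearGroup (Fin 3) F) : H670.Reg.Paw.{u, v} S := by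
  have hcard : Nat.card S = 20160 := (Nat.card_congr e.toEquiv).trans (card_l34 hF)
  have hfin : Finite S := Nat.finite_of_card_ne_zero (by rw [hcard]; norm_num)
  obtain ⟨h1, h2, h3, h4⟩ := adj_l34 hF
  have hadj : ∀ p q : ℕ, H671.H5.Adj p q (Matrix.ProjectiveSpecialLinearGroup (Fin 3) F) → H671.H5.Adj p q S := by
    intro p q h
    unfold H671.H5.Adj at h ⊢
    rw [H424.DegTools.degreeGraph_congr e]
    exact h
  refine ⟨5, 3, 7, 2, by norm_num, by norm_num, by norm_num, hadj _ _ h1, hadj _ _ h2, hadj _ _ h3, hadj _ _ h4,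
    hit_of (by norm_num) hcard (by norm_num) (fun y hy => ?_) chk_l34, ?_⟩
  · have h5 := centralizer_five_l34 hF (e y) ((orderOf_injective e.toMonoidHom e.injective y).trans hy)
    refine le_trans ?_ h5
    have hfin' : Finite (Matrix.ProjectiveSpecialLinearGroup (Fin 3) F) := Finite.of_equiv S e.toEquiv
    refine Nat.card_le_card_of_injective (fun z : Subgroup.centralizer ({y} : Set S) =>
      (⟨e z, ?_⟩ : Subgroup.centralizer ({e y} : Set (Matrix.ProjectiveSpecialLinearGroup (Fin 3) F)))) ?_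
    · rw [Subgroup.mem_centralizer_singleton_iff, ← map_mul, ← map_mul,
        Subgroup.mem_centralizer_singleton_iff.1 z.2]
    · intro z w hzw
      exact Subtype.ext (e.injective (congrArg Subtype.val hzw))
  · intro Γ _ _ N _ ⟨e'⟩ hc t ht htN hts
    exfalso
    have hs : IsSimpleGroup (Matrix.ProjectiveSpecialLinearGroup (Fin 3) F) :=
      Cfsg.Agent.S0249.result 3 (by norm_num)
    have hsN : IsSimpleGroup N := (e'.trans e).isSimpleGroup
    have h5 := H693.FiveL3.index_dvd N hc F (p := 2) (f := 2) Nat.prime_two (by norm_num) (by rw [hF]; norm_num) (e'.trans e)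
    rw [hF] at h5
    have h6 : t ∣ 12 := (htN.trans h5).trans (by norm_num)
    exact hts (h6.trans (by rw [hcard]; norm_num))

end Cfsg.Agent.H730.Hit
end

-- part: H404/SzPaw/Out
section
/-!
# Outer primes for `Sz(8)`

An automorphism of prime order prime to `|N|` moves some irreducible character of `N`. For `Sz(8)` its degree is
divisible by `7` or `13` (there is only one irreducible character of degree `64`).
-/

set_option autoImplicit false
set_option linter.unusedSectionVars false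

namespace Cfsg.Agent.H404.SzPaw

open Cfsg
open scoped ComplexConjugate
open Cfsg.Agent.Characters Cfsg.Agent.Characters.Core Cfsg.Agent.Characters.CCBasic
  Cfsg.Agent.Characters.CCEstimates Cfsg.Agent.Characters.CCValues Cfsg.Agent.H678 Cfsg.Agent.H678.CCExact
open Cfsg.Agent.H595.Count Cfsg.Agent.H595.Central
open Cfsg.Agent.H525.L2

universe u v

/-- An element of prime order `t`, `t` prime to `|N|`, which does not centralize `N` moves some irreducible
character of `N`. -/
theorem exists_moved {Γ : Type u} [Group Γ] [Finite Γ] (N : Subgroup Γ) [hN : N.Normal]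
    (hc : Subgroup.centralizer (N : Set Γ) = ⊥) {t : ℕ} (ht : t.Prime) (hti : t ∣ N.index)
    (htn : ¬ t ∣ Nat.card N) :
    ∃ (χ : IrrCharacter N) (g : Γ), ¬ ∀ n : N,
      (χ : N → ℂ) ⟨g * n * g⁻¹, hN.conj_mem (n : Γ) n.2 g⟩ = (χ : N → ℂ) n := by
  classical
  by_contra hcon
  push Not at hcon
  have : Fact t.Prime := ⟨ht⟩
  obtain ⟨g, hg⟩ := exists_prime_orderOf_dvd_card' (G := Γ) t (hti.trans N.index_dvd_card)
  let f : N → N := fun n => ⟨g * n * g⁻¹, hN.conj_mem (n : Γ) n.2 g⟩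
  have hf : ∀ n, IsConj (f n) n := fun n =>
    Characters.GaloisIrr.isConj_of_forall_irr fun χ hχ => hcon ⟨χ, hχ⟩ g n
  have hfinj : Function.Injective f := by
    intro a b h
    have h1 : g * (a : Γ) * g⁻¹ = g * b * g⁻¹ := congrArg Subtype.val h
    exact Subtype.ext (mul_left_cancel (mul_right_cancel h1))
  have hfpow : ∀ (k : ℕ) (n : N), ((f^[k] n : N) : Γ) = g ^ k * n * (g ^ k)⁻¹ := by
    intro k
    induction k with
    | zero => intro n; simp
    | succ k ih =>
      intro n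
      rw [Function.iterate_succ_apply, ih, pow_succ]
      show g ^ k * (g * n * g⁻¹) * (g ^ k)⁻¹ = _
      group
  have hft : ∀ n, f^[t] n = n := by
    intro n
    apply Subtype.ext
    rw [hfpow, ← hg, pow_orderOf_eq_one]
    simp
  let C : Subgroup N := (Subgroup.centralizer ({g} : Set Γ)).subgroupOf N
  have hC : C = ⊤ := by
    by_contra hne
    obtain ⟨x, hx⟩ := Cfsg.Agent.H395.Jordan.exists_not_conj_mem hne
    let K := {y : N // IsConj x y}
    have hKfin : Fintype K := Fintype.ofFinite K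
    let σ0 : K → K := fun y => ⟨f y.1, y.2.trans (hf y.1).symm⟩
    have hσ0 : Function.Injective σ0 := by
      intro a b h
      exact Subtype.ext (hfinj (congrArg Subtype.val h))
    let σ : Equiv.Perm K := Equiv.ofBijective σ0 ⟨hσ0, Finite.surjective_of_injective hσ0⟩
    have hσ : ∀ (k : ℕ) (y : K), ((σ ^ k) y).1 = f^[k] y.1 := by
      intro k
      induction k with
      | zero => intro y; rfl
      | succ k ih =>
        intro y
        rw [pow_succ, Equiv.Perm.mul_apply, ih, Function.iterate_succ_apply]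
        rfl
    have hcard : ¬ t ∣ Fintype.card K := by
      intro h
      apply htn
      refine h.trans ?_
      have e : K ≃ MulAction.orbit (ConjAct N) x := Equiv.subtypeEquivRight fun y => by
        rw [ConjAct.mem_orbit_conjAct, isConj_comm]
      rw [← Nat.card_eq_fintype_card, Nat.card_congr e,
        Nat.card_congr (MulAction.orbitEquivQuotientStabilizer (ConjAct N) x)]
      exact (Subgroup.card_quotient_dvd_card _).trans (dvd_of_eq (Nat.card_congr ConjAct.ofConjAct.toEquiv))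
    obtain ⟨y, hy⟩ := Equiv.Perm.exists_fixed_point_of_prime (p := t) (n := 1) hcard (σ := σ) (by
      rw [pow_one]
      ext y
      rw [hσ, hft]
      rfl)
    obtain ⟨n, hn⟩ := isConj_iff.1 y.2
    apply hx n⁻¹
    have h1 : n⁻¹⁻¹ * x * n⁻¹ = y.1 := by rw [inv_inv]; exact hn
    rw [h1]
    show ((y.1 : N) : Γ) ∈ Subgroup.centralizer ({g} : Set Γ)
    rw [Subgroup.mem_centralizer_singleton_iff]
    have h2 : f y.1 = y.1 := congrArg Subtype.val hy
    have h3 : g * (y.1 : Γ) * g⁻¹ = y.1 := congrArg Subtype.val h2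
    exact (mul_inv_eq_iff_eq_mul.1 h3).symm
  have hgc : g ∈ Subgroup.centralizer (N : Set Γ) := by
    rw [Subgroup.mem_centralizer_iff]
    intro n hn
    have h1 : (⟨n, hn⟩ : N) ∈ C := hC ▸ Subgroup.mem_top _
    have h2 : (n : Γ) ∈ Subgroup.centralizer ({g} : Set Γ) := h1
    exact Subgroup.mem_centralizer_singleton_iff.1 h2
  rw [hc, Subgroup.mem_bot] at hgc
  rw [hgc, orderOf_one] at hg
  exact ht.one_lt.ne hg

/-- `Sz(8)` has only one irreducible character of degree `64`. -/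
theorem unique64 {S : Type u} [Group S] [Finite S] {T : Subgroup S} (hcc : IsCC T) (hT : Nat.card T = 7)
    (hl : len T = 2) {χ ψ : IrrCharacter S} (h1 : charDegree (χ : S → ℂ) = 64)
    (h2 : charDegree (ψ : S → ℂ) = 64) : χ = ψ := by
  classical
  have := Fintype.ofFinite S
  have := finite_irr (G := S)
  have := Fintype.ofFinite (IrrCharacter S)
  obtain ⟨D⟩ := nonempty_ccData hcc hl (s := 3) (by rw [hT]) (by norm_num)
  by_contra hne
  have h3 : D.f (one S) = 1 :=
    (SuzChar.const D hcc.ne_bot (ψ := one S) (z := 1) (fun a _ _ => by rw [coe_one]; simp)).2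
  have hsq := D.sq
  have hc0 : (D.c : ℤ) ^ 2 * 3 - 2 * D.ε * D.c ≤ 1 := by
    have h4 : (1 : ℤ) ≤ ∑ ψ : IrrCharacter S, D.f ψ ^ 2 := by
      calc (1 : ℤ) = D.f (one S) ^ 2 := by rw [h3]; norm_num
        _ ≤ _ := Finset.single_le_sum (f := fun ψ : IrrCharacter S => D.f ψ ^ 2) (fun _ _ => sq_nonneg _)
          (Finset.mem_univ _)
    push_cast at hsq
    linarith only [hsq, h4]
  have hc1 : D.c = 0 ∨ D.c = D.ε := by
    rcases D.hε with h | h
    · rw [h] at hc0 ⊢
      have h4 : D.c ≤ 1 := by nlinarith only [hc0]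
      have h5 : -1 < D.c := by linarith only [hc0, _root_.sq_nonneg (D.c : ℤ)]
      omega
    · rw [h] at hc0 ⊢
      have h4 : D.c < 1 := by linarith only [hc0, _root_.sq_nonneg (D.c : ℤ)]
      have h5 : -1 ≤ D.c := by nlinarith only [hc0]
      omega
  have hR : ∀ φ : IrrCharacter S, charDegree (φ : S → ℂ) = 64 → φ ∉ D.R ∧ 1 ≤ D.f φ ^ 2 := by
    intro φ hφ
    have h4 : φ ∉ D.R := by
      intro h
      have h5 := D.ddvd
      rw [← D.deg φ h, hφ, hT] at h5
      push_cast at h5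
      rcases D.hε with h | h <;> rcases hc1 with h6 | h6 <;> rw [h6, h] at h5 <;> norm_num at h5
    refine ⟨h4, ?_⟩
    have h5 := D.dvd φ h4
    rw [hφ, hT] at h5
    have h6 : D.f φ ≠ 0 := by
      intro h
      rw [h] at h5
      norm_num at h5
    have h7 := sq_nonneg (D.f φ)
    have h8 : D.f φ ^ 2 ≠ 0 := pow_ne_zero 2 h6
    omega
  have hone : ∀ φ : IrrCharacter S, charDegree (φ : S → ℂ) = 64 → one S ≠ φ := by
    intro φ hφ h
    rw [← h, SuzChar.deg_one] at hφ
    norm_num at hφ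
  have h5 : (3 : ℤ) ≤ ∑ ψ : IrrCharacter S, D.f ψ ^ 2 := by
    calc (3 : ℤ) ≤ D.f (one S) ^ 2 + (D.f χ ^ 2 + D.f ψ ^ 2) := by
          have h6 := (hR χ h1).2
          have h7 := (hR ψ h2).2
          rw [h3]
          linarith only [h6, h7]
      _ = ∑ ψ ∈ insert (one S) (insert χ {ψ}), D.f ψ ^ 2 := by
          rw [Finset.sum_insert (by
            rw [Finset.mem_insert, Finset.mem_singleton]
            rintro (h | h)
            · exact hone χ h1 h
            · exact hone ψ h2 h), Finset.sum_insert (by rwa [Finset.mem_singleton]), Finset.sum_singleton]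
      _ ≤ _ := Finset.sum_le_sum_of_subset_of_nonneg (Finset.subset_univ _) fun _ _ _ => sq_nonneg _
  push_cast at hsq
  rcases D.hε with h | h <;> rcases hc1 with h6 | h6 <;> rw [h6, h] at hsq <;> linarith only [hsq, h5]

end Cfsg.Agent.H404.SzPaw
end

-- part: H404/SzPaw/Arith
section
/-!
# `Sz(q)` with four prime divisors: `q = 8` or `q = 32`
-/

set_option autoImplicit false

namespace Cfsg.Agent.H404.SzPaw

theorem five_pow_odd (k : ℕ) : 5 ^ (2 * k + 1) % 8 = 5 := by
  induction k with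
  | zero => norm_num
  | succ k ih =>
    have : 5 ^ (2 * (k + 1) + 1) = 25 * 5 ^ (2 * k + 1) := by ring
    rw [this]
    omega

theorem two_pow_dvd {j k : ℕ} (h : 2 ^ (j + 2) ∣ 5 ^ k - 1) : 2 ^ j ∣ k := by
  induction j generalizing k with
  | zero => exact one_dvd _
  | succ j ih =>
    have h8 : 8 ∣ 5 ^ k - 1 := by
      refine Dvd.dvd.trans ?_ h
      rw [show (8 : ℕ) = 2 ^ 3 by norm_num]
      exact pow_dvd_pow 2 (by omega)
    rcases Nat.even_or_odd' k with ⟨i, rfl | rfl⟩
    · have h1 : 5 ^ (2 * i) - 1 = (5 ^ i + 1) * (5 ^ i - 1) := by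
        rw [mul_comm 2 i, pow_mul]
        have := Nat.sq_sub_sq (5 ^ i) 1
        simpa only [_root_.one_pow] using this
      obtain ⟨c, hc⟩ : ∃ c, 5 ^ i + 1 = 2 * (2 * c + 1) := by
        have : 5 ^ i % 4 = 1 := by
          rw [Nat.pow_mod]
          norm_num
        exact ⟨5 ^ i / 4, by omega⟩
      rw [h1, hc, mul_assoc, show 2 ^ (j + 1 + 2) = 2 * 2 ^ (j + 2) by ring] at h
      have h2 : 2 ^ (j + 2) ∣ (2 * c + 1) * (5 ^ i - 1) := Nat.dvd_of_mul_dvd_mul_left two_pos h
      have h3 : Nat.Coprime (2 ^ (j + 2)) (2 * c + 1) := by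
        apply Nat.Coprime.pow_left
        rw [Nat.coprime_two_left]
        exact ⟨c, rfl⟩
      rw [pow_succ']
      exact Nat.mul_dvd_mul_left 2 (ih (h3.dvd_of_dvd_mul_left h2))
    · exfalso
      have h1 := five_pow_odd i
      generalize 5 ^ (2 * i + 1) = x at h8 h1
      omega

theorem five_pow_big {K : ℕ} (h : 3 ≤ K) : 8 * K ^ 2 + 4 * K + 1 < 5 ^ K := by
  induction K, h using Nat.le_induction with
  | base => norm_num
  | succ K hK ih =>
    have h1 : 5 ^ (K + 1) = 5 ^ K * 5 := pow_succ _ _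
    rw [h1]
    nlinarith

/-- `2 ^ (2 m + 1) ± 2 ^ (m + 1) + 1` is a power of five. -/
theorem le_two_of_pow {m k a : ℕ} (hm : 1 ≤ m) (hk : 5 ^ k = a)
    (ha : a = 2 ^ (2 * m + 1) + 2 ^ (m + 1) + 1 ∨ a + 2 ^ (m + 1) = 2 ^ (2 * m + 1) + 1) : m ≤ 2 := by
  obtain ⟨n, rfl⟩ : ∃ n, m = n + 1 := ⟨m - 1, by omega⟩
  obtain ⟨K, hK⟩ : ∃ K, K = 2 ^ n := ⟨_, rfl⟩
  have hK1 : 1 ≤ K := hK ▸ Nat.one_le_two_pow
  have e1 : 2 ^ (2 * (n + 1) + 1) = 8 * K ^ 2 := by
    rw [hK, ← pow_mul, show (8 : ℕ) = 2 ^ 3 by norm_num, ← pow_add]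
    congr 1
    ring
  have e2 : 2 ^ (n + 1 + 1) = 4 * K := by
    rw [hK, pow_succ, pow_succ]
    ring
  rw [e1, e2] at ha
  have hle : a ≤ 8 * K ^ 2 + 4 * K + 1 := by omega
  have hd : 4 * K ∣ 5 ^ k - 1 := by
    rw [hk]
    have hsq : 8 * K ^ 2 = 4 * K * (2 * K) := by ring
    rcases ha with h | h
    · refine ⟨2 * K + 1, ?_⟩
      rw [h, hsq, Nat.add_sub_cancel]
      ring
    · refine ⟨2 * K - 1, ?_⟩
      obtain ⟨L, rfl⟩ : ∃ L, K = L + 1 := ⟨K - 1, by omega⟩
      have h1 : 2 * (L + 1) - 1 = 2 * L + 1 := by omega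
      rw [h1]
      have h2 : 8 * (L + 1) ^ 2 = 4 * (L + 1) * (2 * L + 1) + 4 * (L + 1) := by ring
      omega
  have hdk : 2 ^ n ∣ k := by
    apply two_pow_dvd
    rw [pow_add, ← hK, mul_comm]
    exact hd
  rw [← hK] at hdk
  have hk0 : 0 < k := by
    rcases Nat.eq_zero_or_pos k with h | h
    · exfalso
      rw [h, pow_zero] at hk
      have h5 : 4 * K < 8 * K ^ 2 := by nlinarith only [hK1]
      omega
    · exact h
  have hKk : K ≤ k := Nat.le_of_dvd hk0 hdk
  have h5 : 5 ^ K ≤ 8 * K ^ 2 + 4 * K + 1 := by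
    calc 5 ^ K ≤ 5 ^ k := Nat.pow_le_pow_right (by norm_num) hKk
      _ = a := hk
      _ ≤ _ := hle
  have hK3 : K < 3 := by
    by_contra h
    have := five_pow_big (not_lt.1 h)
    omega
  by_contra hn
  have : 2 ≤ n := by omega
  have h6 : 2 ^ 2 ≤ 2 ^ n := Nat.pow_le_pow_right (by norm_num) this
  omega

/-- Four prime divisors. -/
theorem m_le_two {m : ℕ} (hm : 1 ≤ m) {q r N : ℕ} (hq : q = 2 ^ (2 * m + 1)) (hr : r = 2 ^ (m + 1))
    (hN : N = q ^ 2 * (q ^ 2 + 1) * (q - 1)) (h4 : N.primeFactors.card = 4) : m ≤ 2 := by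
  have hrq : 2 * r ≤ q := by
    rw [hq, hr, ← pow_succ']
    exact Nat.pow_le_pow_right (by norm_num) (by omega)
  have hr4 : 4 ≤ r := by
    rw [hr]
    calc 4 = 2 ^ 2 := by norm_num
      _ ≤ 2 ^ (m + 1) := Nat.pow_le_pow_right (by norm_num) (by omega)
  have hrr : r * r = 2 * q := by
    rw [hq, hr, ← pow_add, ← pow_succ']
    congr 1
    ring
  obtain ⟨b, hb⟩ : ∃ b, b + r = q + 1 := ⟨q + 1 - r, by (clear * - hrq; omega)⟩
  have hab : (q + r + 1) * b = q ^ 2 + 1 := by
    have h1 : (q + r + 1) * (b + r) = (q + r + 1) * (q + 1) := by rw [hb]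
    linarith only [hrr, h1]
  have hb5 : 5 ≤ b := by omega
  -- coprimality
  have hodd : ∀ x : ℕ, x ∣ q ^ 2 + 1 → Odd x := by
    intro x hx
    refine Odd.of_dvd_nat ?_ hx
    have : Even (q ^ 2) := by
      rw [hq]
      exact ((even_two).pow_of_ne_zero (by omega)).pow_of_ne_zero (by norm_num)
    exact this.add_one
  have hoq : Odd (q - 1) := by
    have : Even q := by
      rw [hq]
      exact (even_two).pow_of_ne_zero (by omega)
    obtain ⟨c, hc⟩ := this
    exact ⟨c - 1, by (clear * - hb hb5 hc; omega)⟩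
  have hpa : ∀ p : ℕ, p.Prime → p ∣ q + r + 1 → p ∣ b → False := by
    intro p hp h1 h2
    have ho : Odd p := hodd p (h1.trans (Dvd.intro _ hab))
    have h3 : p ∣ (q + r + 1) - b := Nat.dvd_sub h1 h2
    have h4 : (q + r + 1) - b = 2 ^ (m + 2) := by
      rw [pow_succ, ← hr]
      (clear * - hb; omega)
    rw [h4] at h3
    have h5 := (Nat.prime_dvd_prime_iff_eq hp Nat.prime_two).1 (hp.dvd_of_dvd_pow h3)
    rw [h5] at ho
    exact absurd ho (by decide)
  have hpt : ∀ p : ℕ, p.Prime → p ∣ q - 1 → p ∣ q ^ 2 + 1 → False := by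
    intro p hp h1 h2
    have ho : Odd p := hodd p h2
    have h3 : p ∣ (q ^ 2 + 1) - (q - 1) * (q + 1) := Nat.dvd_sub h2 (h1.mul_right _)
    have h4 : (q ^ 2 + 1) - (q - 1) * (q + 1) = 2 := by
      obtain ⟨c, hc⟩ : ∃ c, q = c + 1 := ⟨q - 1, by omega⟩
      subst hc
      rw [Nat.add_sub_cancel]
      have : (c + 1) ^ 2 + 1 = c * (c + 1 + 1) + 2 := by ring
      omega
    rw [h4] at h3
    have h5 := (Nat.prime_dvd_prime_iff_eq hp Nat.prime_two).1 h3
    rw [h5] at ho
    exact absurd ho (by decide)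
  have hN0 : N ≠ 0 := by
    rw [hN]
    have h1 : 0 < q - 1 := by omega
    have h2 : 0 < q := by omega
    (clear * - h1 h2; positivity)
  obtain ⟨p1, hp1, hd1⟩ := Nat.exists_prime_and_dvd (n := q - 1) (by omega)
  obtain ⟨p2, hp2, hd2⟩ := Nat.exists_prime_and_dvd (n := q + r + 1) (by omega)
  obtain ⟨p3, hp3, hd3⟩ := Nat.exists_prime_and_dvd (n := b) (by omega)
  have ha2 : q + r + 1 ∣ q ^ 2 + 1 := Dvd.intro _ hab
  have hb2 : b ∣ q ^ 2 + 1 := Dvd.intro_left _ hab
  have hmem : ∀ p : ℕ, p.Prime → (p ∣ q - 1 ∨ p ∣ q ^ 2 + 1) → p ∈ N.primeFactors := by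
    intro p hp h
    rw [Nat.mem_primeFactors]
    refine ⟨hp, ?_, hN0⟩
    rw [hN]
    rcases h with h | h
    · exact h.mul_left _
    · exact (h.mul_left _).mul_right _
  have h2mem : 2 ∈ N.primeFactors := by
    rw [Nat.mem_primeFactors]
    refine ⟨Nat.prime_two, ?_, hN0⟩
    rw [hN]
    refine Dvd.dvd.mul_right (Dvd.dvd.mul_right ?_ _) _
    rw [hq]
    exact dvd_pow (dvd_pow_self 2 (by omega)) (by norm_num)
  have h12 : p1 ≠ p2 := by
    rintro rfl
    exact hpt p1 hp1 hd1 (hd2.trans ha2)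
  have h13 : p1 ≠ p3 := by
    rintro rfl
    exact hpt p1 hp1 hd1 (hd3.trans hb2)
  have h23 : p2 ≠ p3 := by
    rintro rfl
    exact hpa p2 hp2 hd2 hd3
  have hne2 : ∀ p : ℕ, p ∣ q ^ 2 + 1 → p ≠ 2 := by
    rintro p h rfl
    exact absurd (hodd 2 h) (by decide)
  have h21 : (2 : ℕ) ≠ p1 := by
    rintro rfl
    exact absurd (Odd.of_dvd_nat hoq hd1) (by decide)
  have hset : ({2, p1, p2, p3} : Finset ℕ) = N.primeFactors := by
    apply Finset.eq_of_subset_of_card_le
    · intro p hp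
      simp only [Finset.mem_insert, Finset.mem_singleton] at hp
      rcases hp with rfl | rfl | rfl | rfl
      · exact h2mem
      · exact hmem _ hp1 (Or.inl hd1)
      · exact hmem _ hp2 (Or.inr (hd2.trans ha2))
      · exact hmem _ hp3 (Or.inr (hd3.trans hb2))
    · rw [h4, Finset.card_insert_of_notMem, Finset.card_insert_of_notMem, Finset.card_insert_of_notMem,
        Finset.card_singleton]
      · simpa using h23
      · simp only [Finset.mem_insert, Finset.mem_singleton]
        rintro (h | h)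
        · exact h12 h
        · exact h13 h
      · simp only [Finset.mem_insert, Finset.mem_singleton]
        rintro (h | h | h)
        · exact h21 h
        · exact hne2 p2 (hd2.trans ha2) h.symm
        · exact hne2 p3 (hd3.trans hb2) h.symm
  have hall : ∀ p : ℕ, p.Prime → p ∣ q ^ 2 + 1 → p = p2 ∨ p = p3 := by
    intro p hp h
    have h1 := hmem p hp (Or.inr h)
    rw [← hset] at h1
    simp only [Finset.mem_insert, Finset.mem_singleton] at h1
    rcases h1 with h1 | h1 | h1 | h1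
    · exact absurd h1 (hne2 p h)
    · exfalso
      rw [h1] at h
      exact hpt p1 hp1 hd1 h
    · exact Or.inl h1
    · exact Or.inr h1
  have h5 : 5 ∣ q ^ 2 + 1 := by
    have h6 : q ^ 2 = 4 * 16 ^ m := by
      rw [hq, ← pow_mul, show (2 * m + 1) * 2 = 2 + 4 * m by ring, pow_add, pow_mul]
      norm_num
    have h7 : 16 ^ m % 5 = 1 := by
      rw [Nat.pow_mod]
      norm_num
    omega
  have hA : (∀ p : ℕ, p.Prime → p ∣ q + r + 1 → p = p2) := by
    intro p hp h
    rcases hall p hp (h.trans ha2) with h6 | h6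
    · exact h6
    · exfalso
      rw [h6] at h
      exact hpa p3 hp3 h hd3
  have hB : (∀ p : ℕ, p.Prime → p ∣ b → p = p3) := by
    intro p hp h
    rcases hall p hp (h.trans hb2) with h6 | h6
    · exfalso
      rw [h6] at h
      exact hpa p2 hp2 hd2 h
    · exact h6
  rcases hall 5 Nat.prime_five h5 with h6 | h6
  · have h7 := Nat.eq_prime_pow_of_unique_prime_dvd (n := q + r + 1) (p := 5) (by omega)
      (fun {d} hd hdd => by rw [hA d hd hdd, h6])
    exact le_two_of_pow hm h7.symm (Or.inl (by rw [hq, hr]))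
  · have h7 := Nat.eq_prime_pow_of_unique_prime_dvd (n := b) (p := 5) (by omega)
      (fun {d} hd hdd => by rw [hB d hd hdd, h6])
    exact le_two_of_pow hm h7.symm (Or.inr (by rw [← hq, ← hr]; exact hb))

end Cfsg.Agent.H404.SzPaw
end

-- part: H404/SzPaw/Main
section
/-!
# The Suzuki groups with four prime divisors

`paw_sz`: `Sz(q)` with exactly four prime divisors (`q = 8` or `32`) satisfies `Paw`.
-/

set_option autoImplicit false
set_option linter.unusedSectionVars false

namespace Cfsg.Agent.H404.SzPaw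

open Cfsg
open scoped ComplexConjugate
open Cfsg.Agent.Characters Cfsg.Agent.Characters.Core Cfsg.Agent.Characters.CCBasic
  Cfsg.Agent.Characters.CCEstimates Cfsg.Agent.Characters.CCValues Cfsg.Agent.H678 Cfsg.Agent.H678.CCExact
open Cfsg.Agent.H595.Count Cfsg.Agent.H595.Central
open Cfsg.Agent.H525.L2
open Cfsg.Agent.H670.Reg (Hit OutHit Paw)

universe u v w

theorem hit_congr {S : Type v} {S' : Type w} [Group S] [Group S'] (e : S ≃* S') {A : Set ℕ} (h : Hit.{u, v} A S) :
    Hit.{u, w} A S' := by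
  intro X _ _ M _ _ hS θ
  obtain ⟨f⟩ := hS
  exact h X M ⟨f.trans e.symm⟩ θ

/-- Some degree is divisible by `t` times the degree of a moved character. -/
theorem exists_degree {Γ : Type u} [Group Γ] [Finite Γ] (N : Subgroup Γ) [hN : N.Normal] {t : ℕ} (ht : t.Prime)
    (hidx : N.index = t) (χ : IrrCharacter N) {g : Γ} (hg : ¬ ∀ n : N,
      (χ : N → ℂ) ⟨g * n * g⁻¹, hN.conj_mem (n : Γ) n.2 g⟩ = (χ : N → ℂ) n) :
    ∃ d ∈ charDegrees Γ, t * charDegree (χ : N → ℂ) ∣ d := by
  classical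
  have := Fintype.ofFinite N
  obtain ⟨T, hNT, hT, Q, _, _, π, l, hs, hc, H⟩ := exists_cover N χ
  obtain ⟨β, hβ⟩ := exists_over l hs hc
  obtain ⟨ψ, -, hd⟩ := H β hβ
  have hTi : T.index = t := by
    have h1 : T.index ∣ t := hidx ▸ Subgroup.index_dvd_of_le hNT
    rcases (Nat.dvd_prime ht).1 h1 with h2 | h2
    · exfalso
      rw [Subgroup.index_eq_one] at h2
      exact hg ((hT g).1 (h2 ▸ Subgroup.mem_top g))
    · exact h2
  refine ⟨_, ⟨ψ, rfl⟩, ?_⟩
  rw [hd, hTi]
  exact ⟨charDegree (β : Q → ℂ), by ring⟩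

/-- The outer automorphism group of a Suzuki group. -/
theorem index_dvd {F : Type w} [Field F] [Fintype F] {m : ℕ} (hm : 1 ≤ m) (hF : Fintype.card F = 2 ^ (2 * m + 1))
    {Γ : Type u} [Group Γ] (N : Subgroup Γ) (hN : N.Normal) (e : N ≃* Lie.Sz F (2 ^ (m + 1)))
    (hc : Subgroup.centralizer (N : Set Γ) = ⊥) : N.index ∣ 2 * m + 1 := by
  have h1 := H740.FiveBase.index_dvd_out N hN hc
  rw [H55.OutGen.card_out_congr e, S2126.result hm hF] at h1
  exact h1

/-- A nonprincipal irreducible character of a non-abelian simple group is not linear. -/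
theorem deg_ne_one {S : Type u} [Group S] [Finite S] [IsSimpleGroup S] (hna : ¬ IsMulCommutative S)
    {χ : IrrCharacter S} (h : χ ≠ one S) : charDegree (χ : S → ℂ) ≠ 1 := by
  have := Fintype.ofFinite S
  intro h1
  apply h
  have h2 : (χ : S → ℂ) 1 = 1 := by rw [(deg_spec χ.2).1, h1, Nat.cast_one]
  have h3 := Cfsg.Agent.H595.AvgTwo.eq_one_of_irr_degree_one (K := S) ?_ χ.2 h2
  · exact Subtype.ext h3
  · intro f
    have hk : f.ker = ⊤ := by
      rcases (MonoidHom.normal_ker f).eq_bot_or_eq_top with h4 | h4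
      · exfalso
        apply hna
        have hinj : Function.Injective f := (MonoidHom.ker_eq_bot_iff f).1 h4
        exact ⟨⟨fun a b => hinj (by rw [map_mul, map_mul, mul_comm])⟩⟩
      · exact h4
    ext x
    have h5 : x ∈ f.ker := hk ▸ Subgroup.mem_top x
    rw [MonoidHom.mem_ker.1 h5]
    rfl

/-- `OutHit {7, 13}` for `Sz(8)`. -/
theorem outHit8 {F : Type w} [Field F] [Fintype F] (hF : Fintype.card F = 2 ^ (2 * 1 + 1)) {S : Type v} [Group S]
    [Finite S] [IsSimpleGroup S] (hna : ¬ IsMulCommutative S) (e : S ≃* Lie.Sz F (2 ^ (1 + 1))) :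
    OutHit.{u, v} {7, 13} S := by
  intro Γ _ _ N hN hNS hc t ht htN hts
  obtain ⟨f⟩ := hNS
  have hcard : Nat.card N = Nat.card S := Nat.card_congr f.toEquiv
  have hidx := index_dvd (m := 1) le_rfl hF N hN (f.trans e) hc
  have ht3 : t = 3 := by
    have h1 : t ∣ 3 := htN.trans hidx
    exact (Nat.prime_dvd_prime_iff_eq ht Nat.prime_three).1 h1
  subst ht3
  have hidx3 : N.index = 3 := Nat.dvd_antisymm hidx htN
  obtain ⟨χ, g, hg⟩ := exists_moved N hc ht htN (by rwa [hcard])
  obtain ⟨d, hd, hdvd⟩ := exists_degree N ht hidx3 χ hg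
  have hsN : IsSimpleGroup N := f.isSimpleGroup
  have hnaN : ¬ IsMulCommutative N := by
    intro h
    apply hna
    exact ⟨⟨fun a b => f.symm.injective (by rw [map_mul, map_mul]; exact h.is_comm.comm _ _)⟩⟩
  -- the degree
  have hdeg := (H678.SuzGraph.mem_charDegrees (m := 1) le_rfl hF (S := N) ⟨f.trans e⟩ 1 7 13 5 rfl rfl rfl rfl
    (charDegree (χ : N → ℂ))).1 ⟨χ, rfl⟩
  have h1 : charDegree (χ : N → ℂ) ≠ 1 := by
    apply deg_ne_one hnaN
    rintro rfl
    apply hg
    intro n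
    rw [coe_one]
    rfl
  have h64 : charDegree (χ : N → ℂ) ≠ 64 := by
    intro h64
    apply hg
    obtain ⟨T, A, B, D⟩ := exists_tori (F := F) (m := 1) le_rfl hF
    obtain ⟨i⟩ := Cfsg.Agent.OddCyclic.ClaimC.SzIso.iso (F := F) (m := 1) le_rfl hF
    let e' : Sz F 1 ≃* N := i.trans (f.trans e).symm
    let c : N ≃* N := MulAut.conjNormal g
    have hχ1 : (χ : N → ℂ) 1 = 64 := by rw [(deg_spec χ.2).1, h64]; norm_num
    let χ1 : IrrCharacter (Sz F 1) := ⟨(χ : N → ℂ) ∘ e', isIrr_comp e'.toMonoidHom e'.surjective χ.2⟩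
    let χ2 : IrrCharacter (Sz F 1) := ⟨(χ : N → ℂ) ∘ (e'.trans c),
      isIrr_comp (e'.trans c).toMonoidHom (e'.trans c).surjective χ.2⟩
    have d1 : charDegree (χ1 : Sz F 1 → ℂ) = 64 := by
      have h2 : (χ1 : Sz F 1 → ℂ) 1 = 64 := by
        show (χ : N → ℂ) (e' 1) = 64
        rw [map_one, hχ1]
      rw [(deg_spec χ1.2).1] at h2
      exact_mod_cast h2
    have d2 : charDegree (χ2 : Sz F 1 → ℂ) = 64 := by
      have h2 : (χ2 : Sz F 1 → ℂ) 1 = 64 := by
        show (χ : N → ℂ) ((e'.trans c) 1) = 64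
        rw [map_one, hχ1]
      rw [(deg_spec χ2.2).1] at h2
      exact_mod_cast h2
    have h3 : χ1 = χ2 := unique64 D.ccT (by have := D.kT; omega) D.lT d1 d2
    intro n
    have h4 := congrFun (congrArg Subtype.val h3) (e'.symm n)
    have h5 : (χ1 : Sz F 1 → ℂ) (e'.symm n) = (χ : N → ℂ) n := by
      show (χ : N → ℂ) (e' (e'.symm n)) = _
      rw [e'.apply_symm_apply]
    have h6 : (χ2 : Sz F 1 → ℂ) (e'.symm n) =
        (χ : N → ℂ) ⟨g * n * g⁻¹, hN.conj_mem (n : Γ) n.2 g⟩ := by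
      show (χ : N → ℂ) (c (e' (e'.symm n))) = _
      rw [e'.apply_symm_apply]
      rfl
    rw [← h6, ← h5]
    exact h4.symm
  rcases hdeg with h | h | h | h | h | h
  · exact absurd h h1
  · exact absurd h h64
  · exact ⟨13, Or.inr rfl, d, hd, (Nat.mul_dvd_mul_left 3 (by rw [h]; norm_num)).trans hdvd⟩
  · exact ⟨7, Or.inl rfl, d, hd, (Nat.mul_dvd_mul_left 3 (by rw [h]; norm_num)).trans hdvd⟩
  · exact ⟨7, Or.inl rfl, d, hd, (Nat.mul_dvd_mul_left 3 (by rw [h]; norm_num)).trans hdvd⟩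
  · exact ⟨7, Or.inl rfl, d, hd, (Nat.mul_dvd_mul_left 3 (by rw [h]; norm_num)).trans hdvd⟩

/-- `OutHit` for `Sz(32)` is vacuous. -/
theorem outHit32 {F : Type w} [Field F] [Fintype F] (hF : Fintype.card F = 2 ^ (2 * 2 + 1)) {S : Type v} [Group S]
    [Finite S] (e : S ≃* Lie.Sz F (2 ^ (2 + 1))) (h5 : 5 ∣ Nat.card S) (A : Set ℕ) : OutHit.{u, v} A S := by
  intro Γ _ _ N hN hNS hc t ht htN hts
  exfalso
  obtain ⟨f⟩ := hNS
  have hidx := index_dvd (m := 2) (by norm_num) hF N hN (f.trans e) hc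
  have h1 : t ∣ 5 := htN.trans hidx
  have h2 := (Nat.prime_dvd_prime_iff_eq ht Nat.prime_five).1 h1
  rw [h2] at hts
  exact hts h5

/-- **The Suzuki groups with exactly four prime divisors.** -/
theorem paw_sz {S : Type v} [Group S] [Finite S] [IsSimpleGroup S] (hna : ¬ IsMulCommutative S) {F : Type w} [Field F]
    [Fintype F] {m : ℕ} (hm : 1 ≤ m) (hF : Fintype.card F = 2 ^ (2 * m + 1)) (e : S ≃* Lie.Sz F (2 ^ (m + 1)))
    (h4 : (Nat.card S).primeFactors.card = 4) : Paw.{u, v} S := by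
  obtain ⟨i⟩ := Cfsg.Agent.OddCyclic.ClaimC.SzIso.iso (F := F) (m := m) hm hF
  let e' : Sz F m ≃* S := i.trans e.symm
  have hcard : Nat.card S = (2 ^ (2 * m + 1)) ^ 2 * ((2 ^ (2 * m + 1)) ^ 2 + 1) * (2 ^ (2 * m + 1) - 1) := by
    rw [← Nat.card_congr e'.toEquiv, S0324.result hm hF]
  have hm2 := m_le_two hm rfl rfl hcard h4
  have hadj := (H678.SuzGraph.main hm hF rfl (S := S) ⟨e⟩).2
  have hsimp : IsSimpleGroup (Sz F m) := e'.isSimpleGroup
  obtain ⟨T, A, B, D⟩ := exists_tori (F := F) hm hF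
  obtain rfl | rfl : m = 1 ∨ m = 2 := by omega
  · refine ⟨7, 13, 5, 2, by norm_num, by norm_num, by norm_num, ?_, ?_, ?_, ?_, hit_congr e' (hit8 D),
      outHit8 hF hna e⟩
    · exact (hadj _ _).2 ⟨by norm_num, by norm_num, by norm_num, Or.inl ⟨by norm_num, by norm_num⟩⟩
    · exact (hadj _ _).2 ⟨by norm_num, by norm_num, by norm_num, Or.inl ⟨by norm_num, by norm_num⟩⟩
    · exact (hadj _ _).2 ⟨by norm_num, by norm_num, by norm_num, Or.inl ⟨by norm_num, by norm_num⟩⟩
    · exact (hadj _ _).2 ⟨by norm_num, by norm_num, by norm_num, Or.inr (Or.inr ⟨rfl, by norm_num⟩)⟩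
  · refine ⟨31, 41, 5, 2, by norm_num, by norm_num, by norm_num, ?_, ?_, ?_, ?_, hit_congr e' (hit32 D),
      outHit32 hF e ?_ _⟩
    · exact (hadj _ _).2 ⟨by norm_num, by norm_num, by norm_num, Or.inl ⟨by norm_num, by norm_num⟩⟩
    · exact (hadj _ _).2 ⟨by norm_num, by norm_num, by norm_num, Or.inl ⟨by norm_num, by norm_num⟩⟩
    · exact (hadj _ _).2 ⟨by norm_num, by norm_num, by norm_num, Or.inl ⟨by norm_num, by norm_num⟩⟩
    · exact (hadj _ _).2 ⟨by norm_num, by norm_num, by norm_num, Or.inr (Or.inr ⟨rfl, by norm_num⟩)⟩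
    · rw [hcard]
      norm_num

end Cfsg.Agent.H404.SzPaw
end

-- part: H670/Reg/Rows
section
/-!
# 3-regular degree graphs (S4919): `FactKiteFour` from the row of the Tits group (helper670)
-/

set_option autoImplicit false

namespace Cfsg.Agent.H670.Reg

open Cfsg Cfsg.Agent.OrdDiv Cfsg.Agent.H436

universe u v

theorem notComm_of_four {S : Type v} [Group S] [Finite S] [IsSimpleGroup S] (h4 : (Nat.card S).primeFactors.card = 4) :
    ¬ IsMulCommutative S := by
  intro h
  let iC : CommGroup S := { (inferInstance : Group S) with mul_comm := h.is_comm.comm }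
  have h11 : (Nat.card S).Prime := @IsSimpleGroup.prime_card S iC inferInstance
  rw [h11.primeFactors, Finset.card_singleton] at h4
  omega

theorem rows4 (ht : ∀ (S : Type v) [Group S] [Finite S] [IsSimpleGroup S], Lie.IsoTits S → Kite S) : Rows4.{u, v} where
  g23 := fun _ _ _ _ h => H296.KF.kite_g2 h
  d42 := fun _ _ _ _ h => H296.KF.kite_td4 h
  tits := fun S _ _ _ h => ht S h
  m11 := fun _ _ _ _ h => H730.Hit.paw_m11 h
  l34 := fun _ _ _ _ h => by
    obtain ⟨F, _, _, hF, ⟨e⟩⟩ := h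
    exact H730.Hit.paw_l34 hF e
  sz := fun S _ _ _ q h h4 => by
    obtain ⟨F, _, _, m, hm, hF, hq, ⟨e⟩⟩ := h
    exact H404.SzPaw.paw_sz (notComm_of_four h4) hm (hF.trans hq) e h4

end Cfsg.Agent.H670.Reg
end

-- part: H670/Reg/Final2
section
/-!
# 3-regular degree graphs (S4919): the assembly (helper670)
-/

set_option autoImplicit false

namespace Cfsg.Agent.H670.Reg

open Cfsg Cfsg.Agent.H436 Cfsg.Agent.H671.H5

universe u

/-- **S4919** from the classification and the facts of TEAM DEG. -/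
theorem final2 (hK : ∀ (X : Type) [Group X] [Finite X] [IsSimpleGroup X], IsKnownSimple' X)
    (hN : ∀ (S : Type) [Group S] [Finite S] [IsSimpleGroup S], ¬ IsMulCommutative S → ∃ g, IsNamed g S)
    (tri : FactTri.{0}) (conn : FactConn.{0})
    (ind : ∀ (S : Type) [Group S] [Finite S] [IsSimpleGroup S], ¬ IsMulCommutative S → ¬ IsL2 S → FourN S ∨
      ∀ p ∈ degreePrimes S, ∀ q ∈ degreePrimes S, ∀ r ∈ degreePrimes S,
        p ≠ q → q ≠ r → p ≠ r → Adj p q S ∨ Adj q r S ∨ Adj p r S)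
    (hs : ∀ (S : Type) [Group S] [Finite S] [IsSimpleGroup S], IsSporadicGroup S →
      5 ≤ (Nat.card S).primeFactors.card → (Nat.card S).primeFactors.card ≤ 6 → Kite S)
    (ht : ∀ (S : Type) [Group S] [Finite S] [IsSimpleGroup S], Lie.IsoTits S → Kite S)
    (hOdd : FactOdd.{u}) {G : Type u} [Group G] [Finite G]
    (hne : (Cfsg.degreePrimes G).Nonempty) :
    (∀ p ∈ Cfsg.degreePrimes G, Set.ncard {q : ℕ | (Cfsg.degreeGraph G).Adj p q} = 3) ↔
      (Set.ncard (Cfsg.degreePrimes G) = 4 ∧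
        ∀ p ∈ Cfsg.degreePrimes G, ∀ q ∈ Cfsg.degreePrimes G, p ≠ q → (Cfsg.degreeGraph G).Adj p q) := by
  refine main2 (G := G) ⟨?_, H671.FactRows.factExt hK, H33.imFact hK, tri, ind, conn,
    Cfsg.Agent.H40.KiteG.kiteBig hK hs, kiteFour (rows4 ht) hN⟩ hOdd hne
  intro S _ _ _ hna
  by_contra h2
  have h3 : Odd (Nat.card S) := Nat.not_even_iff_odd.1 fun h => h2 (even_iff_two_dvd.1 h)
  have h4 : Group.IsSolvable S := S0205.result h3
  exact simple_nonsolv hna h4

end Cfsg.Agent.H670.Reg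
end

private theorem dce_c3c5d2b8e612 : _root_.True := by
  try have : _root_.True := by simp only [_root_.Cfsg.Agent.H296.KF.Hexagon.Q.eq_1]
  exact _root_.True.intro
end

-- part: H133/Kite/RowJOne
section
set_option linter.all false
open scoped Cfsg.Agent.FastGrp

-- part: H133/Kite/Basic
section
/-!
# Kites in the degree graph from lists of degrees (helper133)

* `Kite.of_equiv` : transport.
* `kite_of_list` : a kite from a list of primes and a list of divisors of degrees, by a decidable check.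
-/

set_option autoImplicit false

namespace Cfsg.Agent.H133.Kite

open Cfsg Cfsg.Agent.H671.H5 Cfsg.Agent.H670.Reg Cfsg.Agent.H678.DG

universe u v

theorem of_equiv {S : Type u} [Group S] {T : Type v} [Group T] (e : S ≃* T) (h : Kite T) : Kite S := by
  have h1 : Cfsg.degreeGraph S = Cfsg.degreeGraph T := H424.DegTools.degreeGraph_congr e
  unfold Kite H671.H5.Adj at *
  rw [h1]
  exact h

/-- Two triangles with a common edge in the list. -/
def chkK (P D : List ℕ) : Bool :=
  P.any fun u => P.any fun v => (u != v && edge D u v) && P.any fun w => (u != w && v != w && edge D u w && edge D v w) &&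
    P.any fun z => u != z && v != z && w != z && edge D u z && edge D v z

variable {S : Type u} [Group S] {P D : List ℕ}

theorem kite_of_list (hp : ∀ p ∈ P, p.Prime) (hD : ∀ d ∈ D, IM d S) (hok : chkK P D = true) : Kite S := by
  left
  unfold chkK at hok
  simp only [List.any_eq_true, Bool.and_eq_true, bne_iff_ne] at hok
  obtain ⟨u, hu, v, hv, ⟨e1, h1⟩, w, hw, ⟨⟨⟨e2, e3⟩, h2⟩, h3⟩, z, hz, ⟨⟨⟨e4, e5⟩, e6⟩, h4⟩, h5⟩ := hok
  exact ⟨u, v, w, z, e6, adj_of_edge hp hD hu hv e1 h1, adj_of_edge hp hD hu hw e2 h2, adj_of_edge hp hD hv hw e3 h3,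
    adj_of_edge hp hD hu hz e4 h4, adj_of_edge hp hD hv hz e5 h5⟩

theorem im_of_deg {d : ℕ} (h : ∃ χ : IrrCharacter S, charDegree (χ : S → ℂ) = d) : IM d S := by
  obtain ⟨χ, hχ⟩ := h
  exact ⟨χ, by rw [hχ]⟩

end Cfsg.Agent.H133.Kite
end

-- part: H133/Kite/RowJOne
section
/-!
# Kite in the degree graph of `J1` (helper133)

The triangles `2, 7, 19` and `7, 11, 19`.
-/

set_option autoImplicit false
set_option maxRecDepth 100000
set_option linter.unusedSectionVars false

namespace Cfsg.Agent.H133.Kite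

open Cfsg Cfsg.Agent.Characters.Core Cfsg.Agent.H653.Sys Cfsg.Agent.H653.Sieve Cfsg.Agent.H653.Graph
open Subgroup Cfsg.Agent.H413.JOneSpec Cfsg.Agent.SporRec.J1.Defs Cfsg.Agent.H653.Spor.J1
open Cfsg.Agent.H671.H5 Cfsg.Agent.H670.Reg

universe u

theorem cl_14 {S : Type u} [Group S] [Finite S] [Fintype (IrrCharacter S)] {lab : S → ℕ}
    (C : Ctx S lab 175560 L (Ds.map PD.fam) Cs) : Cl S [14] :=
  C.cl _ 0
    [⟨0, 0, -1, [9, 2, 0, 0]⟩, ⟨0, 0, 0, [2, 0, 0]⟩, ⟨0, 0, 0, [0, 0]⟩, ⟨0, 0, 0, [0]⟩, ⟨0, 0, 0, []⟩]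
    [] (by decide +kernel)

theorem im_of_cl {S : Type u} [Group S] {m : ℕ} (h : Cl S [m]) : IM m S := by
  obtain ⟨n, hn, χ, hχ⟩ := h
  rw [List.mem_singleton] at hn
  subst hn
  exact ⟨χ, hχ⟩

theorem kite_j1_local {K : Type u} [Group K] [Finite K] [IsSimpleGroup K] (h : Local K)
    (hc : Nat.card K = 175560) : Kite K := by
  classical
  have := finite_irr (G := K)
  have := Fintype.ofFinite (IrrCharacter K)
  have ex : ∀ p : ℕ, p.Prime → p ∣ Nat.card K → ∃ x : K, orderOf x = p := by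
    intro p hp hd
    have := Fact.mk hp
    exact exists_prime_orderOf_dvd_card' (G := K) p hd
  have hbig : ∀ p : ℕ, Big p → p.Prime → p ∣ 175560 → ∃ x : K, orderOf x = p ∧
      Nat.card (centralizer ({x} : Set K)) = p * 1 := by
    intro p hb hp hd
    obtain ⟨x, hx⟩ := ex p hp (by rw [hc]; exact hd)
    refine ⟨x, hx, ?_⟩
    rw [H417.JOneDeg.card_cent h hc (by rw [hx]; exact hb), hx, mul_one]
  have hD : ∀ D ∈ Ds, D.Cent K := by
    intro D hD
    simp only [Ds, List.mem_cons, List.not_mem_nil, or_false] at hD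
    rcases hD with rfl | rfl | rfl | rfl | rfl
    · exact hbig 19 (by unfold Big; tauto) (by norm_num) (by norm_num)
    · exact hbig 11 (by unfold Big; tauto) (by norm_num) (by norm_num)
    · exact hbig 7 (by unfold Big; tauto) (by norm_num) (by norm_num)
    · obtain ⟨x, hx⟩ := ex 5 (by norm_num) (by rw [hc]; norm_num)
      exact ⟨x, hx, h.cent5 x hx⟩
    · obtain ⟨x, hx⟩ := ex 3 (by norm_num) (by rw [hc]; norm_num)
      exact ⟨x, hx, h.cent3 x hx⟩
  have C : Ctx K (fun g : K => orderOf g) 175560 L (Ds.map PD.fam) Cs :=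
    ctx_of_primes (L := L) (Cs := Cs) hc (by norm_num) (by decide +kernel) (by decide +kernel)
      (by decide +kernel) hD (by simp [Cs])
  refine kite_of_list (P := [7, 19, 2, 11]) (D := [14, 38, 133, 77, 209]) ?_ ?_ (by decide +kernel)
  · intro p hp; fin_cases hp <;> norm_num
  · intro d hd
    simp only [List.mem_cons, List.not_mem_nil, or_false] at hd
    rcases hd with rfl | rfl | rfl | rfl | rfl
    · exact im_of_cl (cl_14 C)
    · exact im_of_cl (cl_3 C)
    · exact im_of_cl (cl_6 C)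
    · exact im_of_cl (cl_5 C)
    · exact im_of_cl (cl_7 C)

/-- `J1`. -/
theorem kite_j1 {S : Type u} [Group S] (h : Spor.IsoJ1 S) : Kite S := by
  obtain ⟨e⟩ := h
  have : IsSimpleGroup Spor.J1 := SporadicB.J1.Main.isJ1.1
  have hfin : Finite Spor.J1 := Nat.finite_of_card_ne_zero (by rw [H413.JOneLocal.card_J1]; norm_num)
  exact of_equiv e (kite_j1_local H413.JOneLocal.isLocal H413.JOneLocal.card_J1)

end Cfsg.Agent.H133.Kite
end
end
end
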